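import Cfsg.Agent.GenDihedral.Red.Tools
import Cfsg.Agent.PermGen.AltPair
import Cfsg.Agent.Components.Signalizer.Basic

/-!
Non-solvable groups which are not CA-groups while all proper subgroups are: the basic principle (an element with
non-abelian centraliser is central in every proper subgroup meeting that centraliser non-abelianly) and the
criteria for centrality that follow from it.
-/

set_option autoImplicit false
set_option linter.unusedSectionVars false
set_option linter.style.haveILetI false

namespace Cfsg.Lib.MinNonCA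

open Subgroup

universe u

variable {G : Type u} [Group G]

/-- Every centraliser of a non-central element is abelian. -/
def IsCA (G : Type u) [Group G] : Prop :=
  ∀ x : G, x ∉ center G → ∀ a b : G, Commute a x → Commute b x → Commute a b

/-- Non-solvable, not CA, all proper subgroups CA. -/
structure Hyp (G : Type u) [Group G] : Prop where
  ns : ¬ Group.IsSolvable G
  star : ∀ H : Subgroup G, H ≠ ⊤ → ∀ x ∈ H, ∀ a ∈ H, ∀ b ∈ H,
    Commute a x → Commute b x → ¬ Commute a b → ∀ h ∈ H, Commute h x
  notCA : ¬ IsCA G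

theorem Hyp.ne_top (h : Hyp G) {H : Subgroup G} (hH : Group.IsSolvable H) : H ≠ ⊤ := by
  rintro rfl
  exact h.ns (Group.isSolvable_of_isSolvable_injective (f := (Subgroup.topEquiv (G := G)).symm.toMonoidHom)
    (Subgroup.topEquiv (G := G)).symm.injective)

variable [Finite G]

theorem solvable_sup {M K : Subgroup G} [M.Normal] (hM : Group.IsSolvable M) (hK : Group.IsSolvable K) :
    Group.IsSolvable ↥(M ⊔ K) := by
  exact Cfsg.Lib.Signalizer.isSolvable_sup (fun _ _ => by rw [normalizer_eq_top_iff.2 inferInstance]; exact mem_top _) hM hK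

/-- a subgroup whose Sylow 2-normaliser is commutative is solvable -/
theorem solvable_of_norm_comm (K : Subgroup G) (P : Sylow 2 K)
    (h : ∀ a ∈ normalizer ((P : Subgroup K) : Set K), ∀ b ∈ normalizer ((P : Subgroup K) : Set K), Commute a b) :
    Group.IsSolvable K := by
  haveI : Fact (Nat.Prime 2) := ⟨Nat.prime_two⟩
  obtain ⟨L, hL, hcard, hidx⟩ := Cfsg.Lib.PermGen.burnside_complement P
    (fun a ha => mem_centralizer_iff.2 fun b hb => (h b (le_normalizer hb) a ha).eq)
  haveI := hL
  refine GenDihedral.solvable_ext L (Cfsg.Agent.PF.isSolvable_of_odd L ?_) ?_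
  · rw [← Nat.not_even_iff_odd]
    intro hev
    obtain ⟨k, hk⟩ := IsPGroup.iff_card.1 P.2
    have h1 : 2 ^ (k + 1) ∣ Nat.card K := by
      rw [← hcard, hk, pow_succ, mul_comm (2 ^ k)]
      exact Nat.mul_dvd_mul_right hev.two_dvd _
    have h3 := P.not_dvd_index
    rw [← (P : Subgroup K).card_mul_index, hk, pow_succ] at h1
    exact h3 (Nat.dvd_of_mul_dvd_mul_left (Nat.two_pow_pos k) h1)
  · obtain ⟨k, hk⟩ := IsPGroup.iff_card.1 P.2
    haveI := (IsPGroup.of_card (p := 2) (n := k) (show Nat.card (K ⧸ L) = 2 ^ k by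
      rw [← index_eq_card, hidx, hk])).isNilpotent
    infer_instance

/-- an element centralised by a non-solvable normal subgroup is central -/
theorem Hyp.central_of_normal (h : Hyp G) (K : Subgroup G) [hKn : K.Normal] (hK : ¬ Group.IsSolvable K)
    {z : G} (hz : ∀ k ∈ K, Commute k z) : z ∈ center G := by
  haveI : Fact (Nat.Prime 2) := ⟨Nat.prime_two⟩
  obtain ⟨P⟩ := (inferInstance : Nonempty (Sylow 2 K))
  set Q : Subgroup G := (P : Subgroup K).map K.subtype with hQ
  set N : Subgroup G := normalizer (Q : Set G) with hN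
  have hsup : N ⊔ K = ⊤ := Sylow.normalizer_sup_eq_top P
  have hzN : z ∈ N := by
    refine centralizer_le_normalizer _ (mem_centralizer_iff.2 ?_)
    rintro _ ⟨k, -, rfl⟩
    exact (hz k k.2).eq
  have hle : ∀ a ∈ normalizer ((P : Subgroup K) : Set K), (a : G) ∈ N := fun a ha =>
    le_normalizer_map K.subtype (mem_map_of_mem _ ha)
  have hNt : N ≠ ⊤ := by
    intro hNt
    refine hK ?_
    have hPn : (P : Subgroup K).Normal := ⟨fun x hx a => by
      have hx' : (x : G) ∈ Q := ⟨x, hx, rfl⟩
      have h1 := (mem_normalizer_iff.1 (show (a : G) ∈ N by rw [hNt]; exact mem_top _) x).1 hx'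
      obtain ⟨y, hy, e⟩ := h1
      rwa [show a * x * a⁻¹ = y from Subtype.ext e.symm]⟩
    haveI := hPn
    refine GenDihedral.solvable_ext (P : Subgroup K) (GenDihedral.solvable_of_two P.2) ?_
    refine Cfsg.Agent.PF.isSolvable_of_odd _ (Nat.not_even_iff_odd.1 fun hev => ?_)
    rw [← index_eq_card] at hev
    exact P.not_dvd_index hev.two_dvd
  obtain ⟨a, ha, b, hb, hab⟩ : ∃ a ∈ normalizer ((P : Subgroup K) : Set K),
      ∃ b ∈ normalizer ((P : Subgroup K) : Set K), ¬ Commute a b := by
    by_contra hc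
    push Not at hc
    exact hK (solvable_of_norm_comm K P hc)
  have hall := h.star N hNt z hzN a (hle a ha) b (hle b hb) (hz a a.2) (hz b b.2)
    (fun hc => hab (Subtype.ext hc.eq))
  rw [mem_center_iff]
  intro g
  have hg : g ∈ centralizer ({z} : Set G) := by
    have hle' : N ⊔ K ≤ centralizer ({z} : Set G) :=
      sup_le (fun n hn => mem_centralizer_singleton_iff.2 (hall n hn).eq)
        fun k hk => mem_centralizer_singleton_iff.2 (hz k hk).eq
    exact hle' (hsup ▸ mem_top g)
  exact mem_centralizer_singleton_iff.1 hg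

/-- a normal subgroup containing a Sylow 2-subgroup is not solvable -/
theorem Hyp.not_solvable_of_sylow (h : Hyp G) (T : Sylow 2 G) (K : Subgroup G) [K.Normal]
    (hT : (T : Subgroup G) ≤ K) : ¬ Group.IsSolvable K := fun hK => by
  haveI : Fact (Nat.Prime 2) := ⟨Nat.prime_two⟩
  refine h.ns (GenDihedral.solvable_ext K hK (Cfsg.Agent.PF.isSolvable_of_odd _
    (Nat.not_even_iff_odd.1 fun hev => ?_)))
  rw [← index_eq_card] at hev
  exact T.not_dvd_index (hev.two_dvd.trans (index_dvd_of_le hT))

/-- two elements which are involutions modulo a solvable normal subgroup generate a solvable subgroup with it -/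
theorem solvable_two_invol {K : Subgroup G} [K.Normal] (hK : Group.IsSolvable K) {t s : G}
    (ht : t * t ∈ K) (hs : s * s ∈ K) : Group.IsSolvable ↥(K ⊔ closure ({t, s} : Set G)) := by
  set π := QuotientGroup.mk' K with hπ
  set D : Subgroup (G ⧸ K) := closure ({π t, π s} : Set (G ⧸ K)) with hD
  have hle : K ⊔ closure ({t, s} : Set G) ≤ D.comap π := by
    refine sup_le (fun k hk => ?_) ((closure_le _).2 ?_)
    · show π k ∈ D
      rw [hπ, QuotientGroup.mk'_apply, (QuotientGroup.eq_one_iff k).2 hk]
      exact one_mem _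
    · rintro x (rfl | rfl)
      · exact subset_closure (Or.inl rfl)
      · exact subset_closure (Or.inr rfl)
  have htt : π t * π t = 1 := by
    rw [← map_mul]; exact (QuotientGroup.eq_one_iff _).2 ht
  have hss : π s * π s = 1 := by
    rw [← map_mul]; exact (QuotientGroup.eq_one_iff _).2 hs
  -- the cyclic subgroup of index at most two
  set C : Subgroup (G ⧸ K) := zpowers (π t * π s) with hC
  have hmem1 : π t ∈ D := subset_closure (Or.inl rfl)
  have hmem2 : π s ∈ D := subset_closure (Or.inr rfl)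
  have hCD : C ≤ D := zpowers_le.2 (mul_mem hmem1 hmem2)
  have hnt : π t ∈ normalizer (C : Set (G ⧸ K)) := by
    refine mem_normalizer_iff.2 fun x => ?_
    have key : ∀ y ∈ C, π t * y * (π t)⁻¹ ∈ C := by
      rintro _ ⟨n, rfl⟩
      refine ⟨-n, ?_⟩
      show (π t * π s) ^ (-n) = π t * (π t * π s) ^ n * (π t)⁻¹
      rw [← conj_zpow, zpow_neg, ← inv_zpow, show π t * (π t * π s) * (π t)⁻¹ = (π t * π s)⁻¹ by
        rw [← mul_assoc, htt, one_mul, mul_inv_rev, inv_eq_of_mul_eq_one_right hss]]
    refine ⟨key x, fun hx => ?_⟩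
    have h2 := key _ hx
    rwa [show π t * (π t * x * (π t)⁻¹) * (π t)⁻¹ = x by
      rw [inv_eq_of_mul_eq_one_right htt]; simp [← mul_assoc, htt]; rw [mul_assoc, htt, mul_one]] at h2
  haveI hDs : Group.IsSolvable D := by
    have hDN : D ≤ normalizer (C : Set (G ⧸ K)) := by
      refine (closure_le _).2 ?_
      rintro x (rfl | rfl)
      · exact hnt
      · have : π s = π t * (π t * π s) := by rw [← mul_assoc, htt, one_mul]
        rw [SetLike.mem_coe, this]
        exact mul_mem hnt (le_normalizer (mem_zpowers _))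
    have hDsup : D = zpowers (π t) ⊔ C := by
      refine le_antisymm ((closure_le _).2 ?_) (sup_le (zpowers_le.2 hmem1) hCD)
      rintro x (rfl | rfl)
      · exact le_sup_left (a := zpowers (π t)) (mem_zpowers _)
      · have : π s = π t * (π t * π s) := by rw [← mul_assoc, htt, one_mul]
        rw [SetLike.mem_coe, this]
        exact mul_mem_sup (mem_zpowers _) (mem_zpowers _)
    rw [hDsup, sup_comm]
    exact Cfsg.Lib.Signalizer.isSolvable_sup (zpowers_le.2 hnt)
      (Group.isSolvable_of_comm fun a b => mul_comm' a b) (Group.isSolvable_of_comm fun a b => mul_comm' a b)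
  refine GenDihedral.solvable_of_le hle ?_
  refine Group.isSolvable_of_ker_le_range (Subgroup.inclusion (fun k hk => ?_ : K ≤ D.comap π))
    (π.subgroupComap D) ?_
  · show π k ∈ D
    rw [hπ, QuotientGroup.mk'_apply, (QuotientGroup.eq_one_iff k).2 hk]
    exact one_mem _
  · rintro ⟨x, hx⟩ hx1
    exact ⟨⟨x, (QuotientGroup.eq_one_iff x).1 (congrArg Subtype.val hx1)⟩, rfl⟩
where
  mul_comm' {H : Type u} [Group H] {g : H} (a b : zpowers g) : a * b = b * a := by
    obtain ⟨_, i, rfl⟩ := a
    obtain ⟨_, j, rfl⟩ := b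
    exact Subtype.ext (zpow_mul_comm g i j)

/-- a 2-subgroup not inside a normal subgroup has an involution modulo it -/
theorem exists_sq_mem {K S : Subgroup G} (hS : IsPGroup 2 S) (hSK : ¬ S ≤ K) :
    ∃ s ∈ S, s ∉ K ∧ s * s ∈ K := by
  classical
  obtain ⟨s, hs, hsK⟩ := SetLike.not_le_iff_exists.1 hSK
  obtain ⟨k, hk⟩ := IsPGroup.iff_orderOf.1 hS ⟨s, hs⟩
  have hP : ∃ j, s ^ 2 ^ j ∈ K := ⟨k, by
    rw [show s ^ 2 ^ k = 1 by rw [← hk, Subgroup.orderOf_mk, pow_orderOf_eq_one]]; exact one_mem _⟩
  have h0 : Nat.find hP ≠ 0 := fun e => hsK (by simpa [e] using Nat.find_spec hP)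
  obtain ⟨j, hj⟩ := Nat.exists_eq_succ_of_ne_zero h0
  refine ⟨s ^ 2 ^ j, pow_mem hs _, Nat.find_min hP (by omega), ?_⟩
  rw [← pow_add, ← mul_two, ← pow_succ]
  have h1 := Nat.find_spec hP
  rwa [hj] at h1

/-- an element of an abelian normal subgroup centralised by a Sylow 2-subgroup is central -/
theorem Hyp.central_of_fixed (h : Hyp G) (V : Subgroup G) [hV : V.Normal]
    (hVc : ∀ a ∈ V, ∀ b ∈ V, Commute a b) (T : Sylow 2 G) {z : G} (hzV : z ∈ V)
    (hzT : ∀ t ∈ T, Commute t z) : z ∈ center G := by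
  haveI : Fact (Nat.Prime 2) := ⟨Nat.prime_two⟩
  set K := centralizer (V : Set G) with hKdef
  haveI : K.Normal := normal_centralizer
  have hKz : ∀ k ∈ K, Commute k z := fun k hk => (mem_centralizer_iff.1 hk z hzV).symm
  by_cases hK : Group.IsSolvable K
  swap
  · exact h.central_of_normal K hK hKz
  have hnT : ∀ S : Sylow 2 G, ¬ (S : Subgroup G) ≤ K := fun S hS => h.not_solvable_of_sylow S K hS hK
  have hVK : V ≤ K := fun v hv => mem_centralizer_iff.2 fun w hw => (hVc w hw v hv).eq
  have hnc : ∀ s ∉ K, ∃ v ∈ V, ¬ Commute v s := by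
    intro s hs
    by_contra hc
    push Not at hc
    exact hs (mem_centralizer_iff.2 fun v hv => (hc v hv).eq)
  obtain ⟨t, htT, htK, ht2⟩ := exists_sq_mem T.2 (hnT T)
  -- every Sylow subgroup centralises `z`
  have hall : ∀ S : Sylow 2 G, ∀ x ∈ S, Commute x z := by
    intro S
    obtain ⟨s, hsS, hsK, hs2⟩ := exists_sq_mem S.2 (hnT S)
    set Y := K ⊔ closure ({t, s} : Set G)
    have hYs : Group.IsSolvable Y := solvable_two_invol hK ht2 hs2
    have htY : t ∈ Y := le_sup_right (a := K) (subset_closure (Or.inl rfl))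
    have hsY : s ∈ Y := le_sup_right (a := K) (subset_closure (Or.inr rfl))
    have hKY : K ≤ Y := le_sup_left
    obtain ⟨v, hv, hvt⟩ := hnc t htK
    have hsz : Commute s z := h.star Y (h.ne_top hYs) z (hKY (hVK hzV)) v (hKY (hVK hv)) t htY
      (hVc v hv z hzV) (hzT t htT) hvt s hsY
    obtain ⟨w, hw, hws⟩ := hnc s hsK
    have hS2 : Group.IsSolvable ↥(K ⊔ (S : Subgroup G)) :=
      solvable_sup hK (GenDihedral.solvable_of_two S.2)
    intro x hx
    exact h.star _ (h.ne_top hS2) z (le_sup_left (a := K) (hVK hzV)) w (le_sup_left (a := K) (hVK hw)) s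
      (le_sup_right (a := K) hsS) (hVc w hw z hzV) hsz hws x (le_sup_right (a := K) hx)
  -- they generate a normal subgroup of odd index
  set N : Subgroup G := normalClosure ((T : Subgroup G) : Set G) with hN
  refine h.central_of_normal N (h.not_solvable_of_sylow T N (fun x hx => subset_normalClosure hx)) ?_
  have hle : N ≤ centralizer ({z} : Set G) := by
    refine (closure_le _).2 fun x hx => ?_
    obtain ⟨y, hy, hxy⟩ := Group.mem_conjugatesOfSet_iff.1 hx
    obtain ⟨g, rfl⟩ := isConj_iff.1 hxy
    refine mem_centralizer_singleton_iff.2 (hall (g • T) _ ?_).eq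
    show g * y * g⁻¹ ∈ ((g • T : Sylow 2 G) : Subgroup G)
    rw [Sylow.coe_subgroup_smul]
    exact Subgroup.smul_mem_pointwise_smul y (MulAut.conj g) _ hy
  exact fun k hk => mem_centralizer_singleton_iff.1 (hle hk)

end Cfsg.Lib.MinNonCA
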