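import Cfsg.Agent.MinNonCA.Linear

/-!
In `PSL(2, q)`, `q` odd, the normaliser of a Sylow subgroup for the defining characteristic has abelian
centralisers.
-/

set_option autoImplicit false
set_option linter.unusedSectionVars false
set_option linter.style.haveILetI false

namespace Cfsg.Lib.MinNonCA

open Subgroup Matrix Cfsg.Lib.GLTwo
open scoped MatrixGroups

universe v

variable {F : Type v} [Field F] [Fintype F]

local notation "P₂" => Matrix.ProjectiveSpecialLinearGroup (Fin 2) F
local notation "M₂" => Matrix (Fin 2) (Fin 2) F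

/-- centralisers of non-involutions in `PSL` are abelian -/
theorem psl_cent_comm {x a b : P₂} (hx : x ≠ 1) (hxx : x * x ≠ 1) (ha : Commute a x) (hb : Commute b x) :
    Commute a b := by
  set φ : P₂ →* Matrix.ProjGenLinGroup (Fin 2) F := Matrix.ProjectiveSpecialLinearGroup.toPGL
  have hinj : Function.Injective φ := Matrix.ProjectiveSpecialLinearGroup.toPGL_injective
  obtain ⟨A, hA⟩ := Matrix.ProjGenLinGroup.mk_surjective (φ x)
  obtain ⟨B, hB⟩ := Matrix.ProjGenLinGroup.mk_surjective (φ a)
  obtain ⟨C, hC⟩ := Matrix.ProjGenLinGroup.mk_surjective (φ b)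
  refine hinj ?_
  rw [map_mul, map_mul, ← hB, ← hC]
  refine pgl_cent_comm (A := A) (fun e => hx (hinj ?_)) (Or.inl fun e => hxx (hinj ?_)) ?_ ?_
  · rw [pm, hA] at e; rw [e, map_one]
  · rw [pm, hA, ← map_mul] at e; rw [e, map_one]
  · rw [pm, hB, hA]; exact ha.map φ
  · rw [pm, hC, hA]; exact hb.map φ

theorem borel_comm (p : ℕ) [Fact p.Prime] [CharP F p] (hp : p ≠ 2) (P : Sylow p P₂) {x a b : P₂} (hx : x ≠ 1)
    (hxN : x ∈ normalizer ((P : Subgroup P₂) : Set P₂)) (haN : a ∈ normalizer ((P : Subgroup P₂) : Set P₂))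
    (hbN : b ∈ normalizer ((P : Subgroup P₂) : Set P₂)) (ha : Commute a x) (hb : Commute b x) :
    Commute a b := by
  classical
  by_cases hxx : x * x = 1
  swap
  · exact psl_cent_comm hx hxx ha hb
  have hp' : Odd p := (Fact.out : p.Prime).odd_of_ne_two hp
  have h20 : (2 : F) ≠ 0 := fun e => hp (by
    have h1 := (CharP.cast_eq_zero_iff F p 2).1 (by exact_mod_cast e)
    exact (Nat.prime_dvd_prime_iff_eq Fact.out Nat.prime_two).1 h1)
  -- an element of order `p` in the centre of `P`
  obtain ⟨u, hu, hup⟩ : ∃ u ∈ (P : Subgroup P₂), orderOf u = p ∧ ∀ w ∈ (P : Subgroup P₂), Commute w u := by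
    have hdvd : p ∣ Nat.card P₂ := by
      obtain ⟨n, -, hn⟩ := FiniteField.card F p
      have h1 := Cfsg.Lib.Classical.gcd_mul_card_PSL (ι := Fin 2) (F := F)
      rw [Fintype.card_fin, Nat.card_eq_fintype_card (α := F), Cfsg.Lib.Classical.SLTwoTori.card_SL2, hn] at h1
      have hc : p.Coprime (Nat.gcd 2 (p ^ (n : ℕ) - 1)) :=
        (Nat.coprime_two_right.2 hp').coprime_dvd_right (Nat.gcd_dvd_left _ _)
      refine hc.dvd_of_dvd_mul_left ?_
      rw [h1]
      exact dvd_mul_of_dvd_left (dvd_pow_self p n.pos.ne') _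
    have hPd : p ∣ Nat.card (P : Subgroup P₂) := P.dvd_card_of_dvd_card hdvd
    haveI : Nontrivial (P : Subgroup P₂) := Finite.one_lt_card_iff_nontrivial.1 (by
      have := Nat.le_of_dvd Nat.card_pos hPd
      have := (Fact.out : p.Prime).two_le
      omega)
    haveI := P.2.center_nontrivial
    obtain ⟨z, hz⟩ := exists_prime_orderOf_dvd_card' p (G := center (P : Subgroup P₂)) (by
      obtain ⟨n, hn⟩ := IsPGroup.iff_card.1 (P.2.to_subgroup (center (P : Subgroup P₂)))
      rcases n with _ | n
      · exact absurd hn (Finite.one_lt_card (α := center (P : Subgroup P₂))).ne'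
      · exact hn ▸ dvd_pow_self p (by omega))
    refine ⟨z.1.1, z.1.2, ?_, fun w hw => congrArg Subtype.val (mem_center_iff.1 z.2 ⟨w, hw⟩)⟩
    rw [Subgroup.orderOf_coe, Subgroup.orderOf_coe, hz]
  obtain ⟨hop, hcu⟩ := hup
  have hu1 : u ≠ 1 := fun e => by rw [e, orderOf_one] at hop; exact (Fact.out : p.Prime).one_lt.ne hop
  have huu : u * u ≠ 1 := fun e => by
    have h1 := orderOf_dvd_of_pow_eq_one (show u ^ 2 = 1 by rw [pow_two, e])
    rw [hop] at h1
    exact hp ((Nat.prime_dvd_prime_iff_eq Fact.out Nat.prime_two).1 h1)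
  set φ : P₂ →* Matrix.ProjGenLinGroup (Fin 2) F := Matrix.ProjectiveSpecialLinearGroup.toPGL
  have hinj : Function.Injective φ := Matrix.ProjectiveSpecialLinearGroup.toPGL_injective
  obtain ⟨U, hU⟩ := Matrix.ProjGenLinGroup.mk_surjective (φ u)
  have hUn : NonScalar (U : M₂) := by
    by_contra hc
    have e : φ u = 1 := by rw [← hU]; exact pm_eq_one.2 hc
    exact hu1 (hinj (e.trans (map_one φ).symm))
  set N : M₂ := (2 : F) • (U : M₂) - (U : M₂).trace • 1 with hN
  have hNtr : N.trace = 0 := by
    simp [hN, Matrix.trace_sub, Matrix.trace_smul, Matrix.trace_one]; ring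
  have hNs : NonScalar N := by
    intro hs
    refine hUn ⟨?_, ?_, ?_⟩
    · have := hs.1; simpa [hN, h20] using this
    · have := hs.2.1; simpa [hN, h20] using this
    · have := hs.2.2
      simp [hN] at this
      exact this.resolve_right h20
  have hN2 : N * N = (-N.det) • (1 : M₂) := by
    have h0 := hNtr
    rw [Matrix.trace_fin_two] at h0
    rw [Matrix.det_fin_two]
    ext i j
    fin_cases i <;> fin_cases j <;>
      simp only [Fin.zero_eta, Fin.mk_one, Matrix.mul_apply, Fin.sum_univ_two, Matrix.smul_apply,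
        Matrix.one_apply_eq, Matrix.one_apply_ne, ne_eq, zero_ne_one, one_ne_zero, not_false_eq_true,
        smul_eq_mul, mul_one, mul_zero]
    · linear_combination N 0 0 * h0
    · linear_combination N 0 1 * h0
    · linear_combination N 1 0 * h0
    · linear_combination N 1 1 * h0
  -- `N` is nilpotent
  have hdet : N.det = 0 := by
    obtain ⟨σ, hσ⟩ : ∃ σ : F, N ^ p = σ • (1 : M₂) := by
      have h1 : pm (U ^ p) = 1 := by rw [map_pow, pm, hU, ← map_pow, ← hop, pow_orderOf_eq_one, map_one]
      rw [pm_eq_one, GLTwo.NonScalar, not_not] at h1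
      obtain ⟨e01, e10, e00⟩ := h1
      have hUp : (U : M₂) ^ p = ((U ^ p : GL (Fin 2) F) : M₂) 0 0 • (1 : M₂) := by
        rw [← Units.val_pow_eq_pow_val]
        ext i j
        fin_cases i <;> fin_cases j <;> simp [e01, e10, ← e00]
      haveI : CharP M₂ p := inferInstance
      refine ⟨2 ^ p * ((U ^ p : GL (Fin 2) F) : M₂) 0 0 - (U : M₂).trace ^ p, ?_⟩
      rw [hN, sub_pow_char_of_commute p ((Commute.one_right _).smul_right _), smul_pow, smul_pow, one_pow, hUp,
        smul_smul, sub_smul]
    obtain ⟨j, hj⟩ := hp'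
    have h2 : N ^ p = (-N.det) ^ j • N := by
      rw [hj, pow_succ, pow_mul, pow_two, hN2, smul_pow, one_pow, smul_one_mul]
    have hσ0 : σ = 0 := by
      have h3 := congrArg Matrix.trace (h2.symm.trans hσ)
      simp [Matrix.trace_smul, hNtr, h20] at h3
      exact h3
    rw [h2, hσ0, zero_smul, smul_eq_zero] at hσ
    rcases hσ with e | e
    · exact neg_eq_zero.1 (pow_eq_zero_iff'.1 e).1
    · rw [e]; simp
  -- the normaliser stabilises `N` up to scalars
  have hPc : ∀ v ∈ (P : Subgroup P₂), ∀ w ∈ (P : Subgroup P₂), Commute v w := fun v hv w hw =>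
    psl_cent_comm hu1 huu (hcu v hv) (hcu w hw)
  have hscale : ∀ g ∈ normalizer ((P : Subgroup P₂) : Set P₂), ∀ M : GL (Fin 2) F, pm M = φ g →
      ∃ δ : F, (M : M₂) * N = δ • (N * (M : M₂)) := by
    intro g hg M hM
    have hw := hPc _ ((mem_normalizer_iff.1 hg u).1 hu) u hu
    have hc : Commute (pm (M * U * M⁻¹)) (pm U) := by
      rw [map_mul, map_mul, map_inv, hM, pm, hU, ← map_inv, ← map_mul, ← map_mul]
      exact hw.map φ
    obtain ⟨c, -, hcf⟩ := exists_factor hc
    have hc1 : c = 1 := by
      by_contra hne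
      refine huu (hinj ?_)
      rw [map_mul, map_one, ← hU]
      have htr := trace_zero_of_factor (A := U) (B := M * U * M⁻¹) (c := c⁻¹) (by
        rw [hcf, smul_smul, inv_mul_cancel₀ ?_, one_smul]
        intro e
        rw [e, zero_smul] at hcf
        exact ((M * U * M⁻¹ * U).isUnit).ne_zero (by rw [Units.val_mul]; exact hcf)) (by simpa using hne)
      show pm U * pm U = 1
      rw [← map_mul, pm_eq_one, Units.val_mul]
      exact sq_scalar_of_trace htr
    rw [hc1, one_smul] at hcf
    obtain ⟨α, β, hαβ⟩ := exists_combo hUn hcf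
    have htr : (U : M₂).trace = 2 * α + β * (U : M₂).trace := by
      have h1 : (((M * U * M⁻¹ : GL (Fin 2) F)) : M₂).trace = (U : M₂).trace := by
        rw [Units.val_mul, Units.val_mul, Matrix.trace_mul_comm, ← mul_assoc, Units.inv_mul, one_mul]
      rw [hαβ, show (combo (U : M₂) α β).trace = 2 * α + β * (U : M₂).trace by
        simp [combo, Matrix.trace_add, Matrix.trace_smul]; ring] at h1
      exact h1.symm
    have hMU : (M : M₂) * U = (α • 1 + β • (U : M₂)) * (M : M₂) := by
      have h1 : ((M * U * M⁻¹ : GL (Fin 2) F) : M₂) * (M : M₂) = (M : M₂) * U := by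
        rw [← Units.val_mul, inv_mul_cancel_right, Units.val_mul]
      rw [← h1, hαβ, combo]
    refine ⟨β, ?_⟩
    have hs : (2 : F) * α - (U : M₂).trace = -(β * (U : M₂).trace) := by linear_combination -htr
    calc (M : M₂) * N = (2 : F) • ((M : M₂) * U) - (U : M₂).trace • (M : M₂) := by
          rw [hN, mul_sub, Matrix.mul_smul, Matrix.mul_smul, mul_one]
      _ = ((2 : F) * α - (U : M₂).trace) • (M : M₂) + ((2 : F) * β) • ((U : M₂) * M) := by
          rw [hMU, add_mul, Matrix.smul_mul, Matrix.smul_mul, one_mul]; module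
      _ = β • (N * (M : M₂)) := by
          rw [hs, hN, sub_mul, Matrix.smul_mul, Matrix.smul_mul, one_mul]; module
  obtain ⟨X, hX⟩ := Matrix.ProjGenLinGroup.mk_surjective (φ x)
  have hXn : NonScalar (X : M₂) := by
    by_contra hc
    have e : φ x = 1 := by rw [← hX]; exact pm_eq_one.2 hc
    exact hx (hinj (e.trans (map_one φ).symm))
  have hXt : (X : M₂).trace = 0 := trace_zero_of_sq hXn (by rw [pm, hX, ← map_mul, hxx, map_one])
  have hN0 : N ≠ 0 := fun e => hNs (by rw [e]; simp)
  -- the elements commuting with `x` are in the torus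
  have htorus : ∀ g ∈ normalizer ((P : Subgroup P₂) : Set P₂), Commute g x → ∀ M : GL (Fin 2) F, pm M = φ g →
      (M : M₂) * X = (X : M₂) * M := by
    intro g hg hgx M hM
    obtain ⟨c, hc0, hc⟩ := exists_factor (A := M) (B := X) (by rw [hM, pm, hX]; exact hgx.map φ)
    rcases mul_self_eq_one_iff.1 (factor_sq hc) with e | e
    · rw [e, one_smul] at hc; exact hc
    exfalso
    rw [e] at hc
    obtain ⟨lam, hlam⟩ := hscale g hg M hM
    obtain ⟨ν, hν⟩ := hscale x hxN X hX
    have hX2 : (X : M₂) * X = (-(X : M₂).det) • 1 := by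
      have h0 := hXt
      rw [Matrix.trace_fin_two] at h0
      rw [Matrix.det_fin_two]
      ext i j
      fin_cases i <;> fin_cases j <;>
        simp only [Fin.zero_eta, Fin.mk_one, Matrix.mul_apply, Fin.sum_univ_two, Matrix.smul_apply,
          Matrix.one_apply_eq, Matrix.one_apply_ne, ne_eq, zero_ne_one, one_ne_zero, not_false_eq_true,
          smul_eq_mul, mul_one, mul_zero]
      · linear_combination (X : M₂) 0 0 * h0
      · linear_combination (X : M₂) 0 1 * h0
      · linear_combination (X : M₂) 1 0 * h0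
      · linear_combination (X : M₂) 1 1 * h0
    have hdX : (X : M₂).det ≠ 0 := Matrix.GeneralLinearGroup.det_ne_zero X
    have hν1 : ν * ν = 1 := by
      have h1 : (X : M₂) * X * N = (ν * ν) • (N * ((X : M₂) * X)) := by
        rw [mul_assoc, hν, Matrix.mul_smul, ← mul_assoc, hν, Matrix.smul_mul, smul_smul, mul_assoc]
      rw [hX2, Matrix.smul_mul, one_mul, Matrix.mul_smul, mul_one, smul_smul] at h1
      have h2 := smul_left_injective F hN0 h1
      exact (mul_eq_right₀ (neg_ne_zero.2 hdX)).1 h2.symm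
    have hcomb : ∀ W : M₂, W * X = (X : M₂) * W → ∃ α β : F, W = combo (X : M₂) α β := fun W hW =>
      exists_combo hXn hW
    rcases mul_self_eq_one_iff.1 hν1 with e1 | e1
    · rw [e1, one_smul] at hν
      obtain ⟨α, β, hαβ⟩ := hcomb N hν.symm
      have hα : α = 0 := by
        have h1 := hNtr
        rw [hαβ, show (combo (X : M₂) α β).trace = 2 * α + β * (X : M₂).trace by
          simp [combo, Matrix.trace_add, Matrix.trace_smul]; ring, hXt, mul_zero, add_zero] at h1
        exact (mul_eq_zero.1 h1).resolve_left h20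
      have hβ : β ≠ 0 := fun e2 => hN0 (by rw [hαβ, hα, e2]; simp [combo])
      rw [hαβ, hα, det_combo] at hdet
      exact hdX ((mul_eq_zero.1 (show β * β * (X : M₂).det = 0 by linear_combination hdet)).resolve_left
        (mul_ne_zero hβ hβ))
    · rw [e1] at hν
      have h1 : (M : M₂) * N * X = (X : M₂) * ((M : M₂) * N) := by
        have hNX : N * (X : M₂) = -((X : M₂) * N) := by rw [hν]; simp
        rw [mul_assoc, hNX, mul_neg, ← mul_assoc, hc, ← mul_assoc]
        simp
      obtain ⟨α, β, hαβ⟩ := hcomb _ h1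
      have h2 : (M : M₂) * combo (X : M₂) α β = lam • (combo (X : M₂) α β * M) := by
        rw [← hαβ]
        nth_rw 1 [hlam]
        rw [Matrix.mul_smul, mul_assoc (M : M₂) N]
      simp only [combo, mul_add, add_mul, Matrix.mul_smul, Matrix.smul_mul, mul_one, one_mul, hc] at h2
      have h3 : combo (X : M₂) (α * (1 - lam)) (-(β * (1 + lam))) = combo (X : M₂) 0 0 := by
        have h4 : combo (X : M₂) (α * (1 - lam)) (-(β * (1 + lam))) * (M : M₂) = 0 := by
          have h5 := sub_eq_zero.2 h2
          rw [← h5]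
          simp only [combo, add_mul, Matrix.smul_mul, one_mul]
          module
        have h6 := congrArg (· * ((M⁻¹ : GL (Fin 2) F) : M₂)) h4
        simp only [mul_assoc, Units.mul_inv, mul_one, zero_mul] at h6
        rw [h6]; simp [combo]
      obtain ⟨e2, e3⟩ := combo_inj hXn h3
      have hdMN : ((M : M₂) * N).det = 0 := by rw [Matrix.det_mul, hdet, mul_zero]
      have hMN : (M : M₂) * N ≠ 0 := fun e4 => hN0 (by
        have := congrArg (((M⁻¹ : GL (Fin 2) F) : M₂) * ·) e4
        simpa [← mul_assoc] using this)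
      rw [hαβ] at hdMN hMN
      rw [det_combo, hXt] at hdMN
      by_cases hα : α = 0
      · have hβ : β ≠ 0 := fun e4 => hMN (by rw [hα, e4]; simp [combo])
        rw [hα] at hdMN
        exact hdX ((mul_eq_zero.1 (show β * β * (X : M₂).det = 0 by linear_combination hdMN)).resolve_left
          (mul_ne_zero hβ hβ))
      · have hl : lam = 1 := by linear_combination -((mul_eq_zero.1 e2).resolve_left hα)
        rw [hl] at e3
        have hβ : β = 0 := (mul_eq_zero.1 (show β * 2 = 0 by linear_combination -e3)).resolve_right h20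
        rw [hβ] at hdMN
        exact mul_ne_zero hα hα (by linear_combination hdMN)
  obtain ⟨A, hA⟩ := Matrix.ProjGenLinGroup.mk_surjective (φ a)
  obtain ⟨B, hB⟩ := Matrix.ProjGenLinGroup.mk_surjective (φ b)
  obtain ⟨α, β, hαβ⟩ := exists_combo hXn (htorus a haN ha A hA)
  obtain ⟨γ, δ, hγδ⟩ := exists_combo hXn (htorus b hbN hb B hB)
  refine hinj ?_
  rw [map_mul, map_mul, ← hA, ← hB]
  exact ((show Commute A B from Units.ext (by
    rw [Units.val_mul, Units.val_mul, hαβ, hγδ, combo, combo]
    simp only [mul_add, add_mul, Matrix.mul_smul, Matrix.smul_mul, mul_one, one_mul, smul_smul]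
    module)).map pm).eq

end Cfsg.Lib.MinNonCA
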