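import Cfsg.Agent.MinNonCA.NonAbelian
import Cfsg.Agent.S2202
import Cfsg.Agent.GenDihedral.Red.Unip

/-!
Tools for the case of abelian Sylow 2-subgroups: transfer, CA-groups of characteristic two.
-/

set_option autoImplicit false
set_option linter.unusedSectionVars false
set_option linter.style.haveILetI false

namespace Cfsg.Lib.MinNonCA

open Subgroup
open scoped MatrixGroups

universe u v

/-- in a perfect group an element of an abelian Sylow subgroup centralised by its normaliser is trivial -/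
theorem fixed_eq_one {X : Type u} [Group X] [Finite X] (hperf : commutator X = ⊤) (S : Sylow 2 X)
    (hS : ∀ a ∈ S, ∀ b ∈ S, Commute a b) {z : X} (hz : z ∈ S)
    (hfix : ∀ n ∈ normalizer ((S : Subgroup X) : Set X), Commute n z) : z = 1 := by
  haveI : Fact (Nat.Prime 2) := ⟨Nat.prime_two⟩
  haveI : IsMulCommutative (S : Subgroup X) := ⟨⟨fun a b => Subtype.ext (hS a a.2 b b.2).eq⟩⟩
  letI : CommGroup (S : Subgroup X) :=
    { (inferInstance : Group (S : Subgroup X)) with mul_comm := fun a b => Subtype.ext (hS a a.2 b b.2).eq }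
  have key : ∀ (k : ℕ) (g₀ : X), g₀⁻¹ * z ^ k * g₀ ∈ (S : Subgroup X) → g₀⁻¹ * z ^ k * g₀ = z ^ k := by
    intro k g₀ hk
    obtain ⟨n, hn, hne⟩ := S.conj_eq_normalizer_conj_of_mem (z ^ k) g₀ (pow_mem hz k) hk
    rw [hne, mul_assoc, ← ((hfix n hn).pow_right k).eq, inv_mul_cancel_left]
  have h := MonoidHom.transfer_eq_pow (MonoidHom.id (S : Subgroup X)) z key
  have h1 : MonoidHom.transfer (MonoidHom.id (S : Subgroup X)) z = 1 := by
    have := Abelianization.commutator_subset_ker (MonoidHom.transfer (MonoidHom.id (S : Subgroup X)))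
    rw [hperf] at this
    exact this (mem_top z)
  rw [h1, MonoidHom.id_apply] at h
  have h2 : z ^ (S : Subgroup X).index = 1 := (congrArg Subtype.val h).symm
  obtain ⟨k, hk⟩ := IsPGroup.iff_orderOf.1 S.2 ⟨z, hz⟩
  rw [Subgroup.orderOf_mk] at hk
  rw [← orderOf_eq_one_iff]
  refine Nat.eq_one_of_dvd_coprimes (Nat.Coprime.pow_left k ?_) hk.dvd (orderOf_dvd_of_pow_eq_one h2)
  exact Nat.prime_two.coprime_iff_not_dvd.2 S.not_dvd_index

/-- a perfect group with abelian Sylow 2-subgroups has centre of odd order -/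
theorem center_inter {X : Type u} [Group X] [Finite X] (hperf : commutator X = ⊤) (S : Sylow 2 X)
    (hS : ∀ a ∈ S, ∀ b ∈ S, Commute a b) {z : X} (hz : z ∈ S) (hzc : z ∈ center X) : z = 1 :=
  fixed_eq_one hperf S hS hz fun n _ => mem_center_iff.1 hzc n

theorem odd_center {X : Type u} [Group X] [Finite X] (hperf : commutator X = ⊤) (S : Sylow 2 X)
    (hS : ∀ a ∈ S, ∀ b ∈ S, Commute a b) : Odd (Nat.card (center X)) := by
  haveI : Fact (Nat.Prime 2) := ⟨Nat.prime_two⟩
  rw [← Nat.not_even_iff_odd]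
  intro hev
  obtain ⟨⟨z, hzc⟩, hz2⟩ := exists_prime_orderOf_dvd_card' 2 hev.two_dvd
  rw [Subgroup.orderOf_mk] at hz2
  have hzS : z ∈ S := mem_sylow_of_commute S ⟨1, by rw [hz2, pow_one]⟩ fun s _ => mem_center_iff.1 hzc s
  rw [center_inter hperf S hS hzS hzc, orderOf_one] at hz2
  omega

/-- in characteristic two a non-trivial element has abelian centraliser in `PSL` -/
theorem psl_two_cent_comm {F : Type v} [Field F] (h2 : (2 : F) = 0)
    {x a b : Matrix.ProjectiveSpecialLinearGroup (Fin 2) F} (hx : x ≠ 1) (ha : Commute a x) (hb : Commute b x) :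
    Commute a b := by
  set φ : Matrix.ProjectiveSpecialLinearGroup (Fin 2) F →* Matrix.ProjGenLinGroup (Fin 2) F :=
    Matrix.ProjectiveSpecialLinearGroup.toPGL
  have hinj : Function.Injective φ := Matrix.ProjectiveSpecialLinearGroup.toPGL_injective
  obtain ⟨A, hA⟩ := Matrix.ProjGenLinGroup.mk_surjective (φ x)
  obtain ⟨B, hB⟩ := Matrix.ProjGenLinGroup.mk_surjective (φ a)
  obtain ⟨C, hC⟩ := Matrix.ProjGenLinGroup.mk_surjective (φ b)
  refine hinj ?_
  rw [map_mul, map_mul, ← hB, ← hC]
  refine pgl_cent_comm (A := A) (fun e => hx (hinj ?_)) (Or.inr h2) ?_ ?_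
  · rw [pm, hA] at e; rw [e, map_one]
  · rw [pm, hB, hA]; exact ha.map φ
  · rw [pm, hC, hA]; exact hb.map φ

variable {F : Type} [Field F] [Fintype F] [CharP F 2]

/-- `SL(2, 2^n)` is a CA-group -/
theorem sl_two_cent_comm {x a b : Matrix.SpecialLinearGroup (Fin 2) F} (hx : x ≠ 1) (ha : Commute a x)
    (hb : Commute b x) : Commute a b := by
  refine (GenDihedral.slEquiv (F := F)).injective ?_
  rw [map_mul, map_mul]
  exact (psl_two_cent_comm (CharP.cast_eq_zero F 2)
    (fun e => hx ((GenDihedral.slEquiv (F := F)).injective (e.trans (map_one _).symm)))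
    (ha.map (GenDihedral.slEquiv (F := F)).toMonoidHom) (hb.map (GenDihedral.slEquiv (F := F)).toMonoidHom)).eq

omit [Fintype F] [CharP F 2] in
/-- a perfect product with an abelian group -/
theorem factor_trivial {X : Type u} [Group X] {Y : Type v} [Group Y] {A : Type} [CommGroup A]
    (hperf : commutator X = ⊤) (e : X ≃* Y × A) (a : A) : a = 1 := by
  have h1 := Abelianization.commutator_subset_ker ((MonoidHom.snd Y A).comp e.toMonoidHom)
  rw [hperf] at h1
  have h2 : ((MonoidHom.snd Y A).comp e.toMonoidHom) (e.symm (1, a)) = 1 := h1 (mem_top _)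
  simpa using h2

end Cfsg.Lib.MinNonCA
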