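import Mathlib
import Cfsg.Agent.MinNonCA.Tools
import Cfsg.Agent.Classical.Misc.SmallPSL

/-!
Small CA-groups: the dihedral groups, the alternating groups of degrees four and five.
-/

set_option autoImplicit false
set_option linter.unusedSectionVars false
set_option linter.style.haveILetI false

namespace Cfsg.Lib.MinNonCA

open Subgroup

universe u v

theorem IsCA.of_equiv {X : Type u} [Group X] {Y : Type v} [Group Y] (e : X ≃* Y) (hY : IsCA Y) : IsCA X := by
  intro x hx a b ha hb
  refine e.injective ?_
  rw [map_mul, map_mul]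
  refine (hY (e x) (fun hc => hx (mem_center_iff.2 fun g => e.injective ?_)) _ _ (ha.map e.toMonoidHom)
    (hb.map e.toMonoidHom)).eq
  rw [map_mul, map_mul]
  exact mem_center_iff.1 hc (e g)

theorem ca_of_comm {X : Type u} [Group X] (h : ∀ a b : X, a * b = b * a) : IsCA X :=
  fun _ _ a b _ _ => h a b

theorem ca_dihedral (n : ℕ) : IsCA (DihedralGroup n) := by
  intro x hx a b ha hb
  have hne : ∀ i : ZMod n, x = DihedralGroup.r i → i + i ≠ 0 := by
    intro i hi e
    refine hx (mem_center_iff.2 fun g => ?_)
    subst hi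
    rcases g with j | j
    · rw [DihedralGroup.r_mul_r, DihedralGroup.r_mul_r, add_comm]
    · rw [DihedralGroup.sr_mul_r, DihedralGroup.r_mul_sr, DihedralGroup.sr.injEq]
      linear_combination e
  rcases x with i | i
  · have hrot : ∀ g : DihedralGroup n, Commute g (DihedralGroup.r i) → ∃ j, g = DihedralGroup.r j := by
      intro g hg
      rcases g with j | j
      · exact ⟨j, rfl⟩
      · have h1 := hg.eq
        rw [DihedralGroup.sr_mul_r, DihedralGroup.r_mul_sr, DihedralGroup.sr.injEq] at h1
        exact absurd (by linear_combination h1) (hne i rfl)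
    obtain ⟨j, rfl⟩ := hrot a ha
    obtain ⟨k, rfl⟩ := hrot b hb
    show _ * _ = _ * _
    rw [DihedralGroup.r_mul_r, DihedralGroup.r_mul_r, add_comm]
  · have h1 := ha.eq
    have h2 := hb.eq
    show _ * _ = _ * _
    rcases a with j | j <;> rcases b with k | k <;>
      simp only [DihedralGroup.r_mul_r, DihedralGroup.r_mul_sr, DihedralGroup.sr_mul_r, DihedralGroup.sr_mul_sr,
        DihedralGroup.r.injEq, DihedralGroup.sr.injEq] at h1 h2 ⊢
    · abel
    · first | linear_combination h1 | linear_combination -h1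
    · first | linear_combination h2 | linear_combination -h2
    · first | linear_combination h2 - h1 | linear_combination h1 - h2

theorem ca_alt_four : IsCA (alternatingGroup (Fin 4)) := by
  intro x hx a b ha hb
  refine Subtype.ext ((show ∀ x a b : Equiv.Perm (Fin 4), Equiv.Perm.sign x = 1 → Equiv.Perm.sign a = 1 →
      Equiv.Perm.sign b = 1 → x ≠ 1 → a * x = x * a → b * x = x * b → a * b = b * a from
    by decide +kernel) x.1 a.1 b.1 x.2 a.2 b.2 (fun e => hx ?_) (congrArg Subtype.val ha.eq)
      (congrArg Subtype.val hb.eq))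
  rw [show x = 1 from Subtype.ext e]
  exact one_mem _

theorem ca_alt_five : IsCA (alternatingGroup (Fin 5)) := by
  haveI : Fact (Nat.Prime 2) := ⟨Nat.prime_two⟩
  letI : Fintype (GaloisField 2 2) := Fintype.ofFinite _
  obtain ⟨e⟩ := Cfsg.Lib.Classical.SmallPSL.psl_four (F := GaloisField 2 2)
    (by rw [← Nat.card_eq_fintype_card, GaloisField.card 2 2 two_ne_zero]; norm_num)
  exact IsCA.of_equiv e.symm fun x hx a b ha hb =>
    psl_two_cent_comm (CharP.cast_eq_zero (GaloisField 2 2) 2) (fun e => hx (by rw [e]; exact one_mem _)) ha hb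

/-- `PSL(2, 3)` and `PSL(2, 5)` are CA-groups -/
theorem ca_psl_small {F : Type v} [Field F] [Fintype F] (hF : Fintype.card F = 3 ∨ Fintype.card F = 5) :
    IsCA (Matrix.ProjectiveSpecialLinearGroup (Fin 2) F) := by
  rcases hF with h | h
  · obtain ⟨e⟩ := Cfsg.Lib.Classical.SmallPSL.psl_three h
    exact ca_alt_four.of_equiv e
  · obtain ⟨e⟩ := Cfsg.Lib.Classical.SmallPSL.psl_five h
    exact ca_alt_five.of_equiv e

end Cfsg.Lib.MinNonCA
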