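import Cfsg.Agent.MinNonCA.Linear
import Cfsg.Agent.Classical.PSLTwoDihedral
import Cfsg.Agent.Known.SLTwo.Torus

/-!
`PSL(2, q)` for odd `q ≥ 7` is not a CA-group: the centraliser of an involution is not abelian.
-/

set_option autoImplicit false
set_option linter.unusedSectionVars false
set_option linter.style.haveILetI false
set_option linter.flexible false

namespace Cfsg.Lib.MinNonCA

open Subgroup Matrix Cfsg.Lib.GLTwo
open scoped MatrixGroups

universe v

variable {F : Type v} [Field F] [Fintype F]

local notation "P₂" => Matrix.ProjectiveSpecialLinearGroup (Fin 2) F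
local notation "M₂" => Matrix (Fin 2) (Fin 2) F

theorem commute_prj_iff {A B : SL(2, F)} :
    Commute (prj A) (prj B) ↔ A * B = B * A ∨ A * B = -(B * A) := by
  have h : Commute (prj A) (prj B) ↔ prj (A * B * (B * A)⁻¹) = 1 := by
    rw [map_mul (f := prj (F := F)), map_inv, mul_inv_eq_one, map_mul, map_mul]; exact Iff.rfl
  rw [h, prj_eq_one_iff, mul_inv_eq_iff_eq_mul, mul_inv_eq_iff_eq_mul, one_mul, neg_mul, one_mul]

/-- the witness -/
theorem exists_non_ca (hodd : Fintype.card F % 2 = 1) (h7 : 7 ≤ Fintype.card F) :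
    ∃ x a b y : P₂, Commute a x ∧ Commute b x ∧ ¬ Commute a b ∧ ¬ Commute y x := by
  classical
  have h2 : (2 : F) ≠ 0 := Cfsg.Lib.PSLTwoDihedral.two_ne_zero' hodd
  obtain ⟨s, hs0, hs1, hs2⟩ : ∃ s : F, s ≠ 0 ∧ 1 - s * s ≠ 0 ∧ 1 + s * s ≠ 0 := by
    by_contra hc
    push Not at hc
    let sol : F → Finset F := fun r => Finset.univ.filter fun w => w * w = r
    have h2' : ∀ r, (sol r).card ≤ 2 := by
      intro r
      by_cases hne : (sol r).Nonempty
      · obtain ⟨w₀, hw₀⟩ := hne
        refine (Finset.card_le_card (t := {w₀, -w₀}) fun w hw => ?_).trans Finset.card_le_two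
        simp only [sol, Finset.mem_filter] at hw₀ hw
        rcases mul_self_eq_mul_self_iff.1 (hw.2.trans hw₀.2.symm) with e | e <;> simp [e]
      · rw [Finset.not_nonempty_iff_eq_empty.1 hne]; simp
    have hsub : (Finset.univ : Finset F) ⊆ {0} ∪ (sol 1 ∪ sol (-1)) := fun w _ => by
      by_cases hw : w = 0
      · simp [hw]
      · by_cases e : 1 - w * w = 0
        · have : w * w = 1 := by linear_combination -e
          simp [sol, this]
        · have : w * w = -1 := by linear_combination hc w hw e
          simp [sol, this]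
    have h3 := (Finset.card_le_card hsub).trans (Finset.card_union_le _ _)
    have := Finset.card_union_le (sol 1) (sol (-1))
    have := h2' 1
    have := h2' (-1)
    rw [Finset.card_univ, Finset.card_singleton] at h3
    omega
  set p : F := (1 - s * s) / (1 + s * s) with hp
  set r : F := 2 * s / (1 + s * s) with hr
  have hp0 : p ≠ 0 := div_ne_zero hs1 hs2
  have hr0 : r ≠ 0 := div_ne_zero (mul_ne_zero h2 hs0) hs2
  have hpr : p * p + r * r = 1 := by rw [hp, hr, div_mul_div_comm, div_mul_div_comm, ← add_div, div_eq_one_iff_eq (mul_ne_zero hs2 hs2)]; ring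
  obtain ⟨k, l, hkl⟩ := Cfsg.Lib.PSLTwoDihedral.exists_norm_eq hodd (neg_ne_zero.2 (one_ne_zero (α := F))) (-1)
  let W : SL(2, F) := ⟨!![0, 1; -1, 0], by simp [det_fin_two]⟩
  let R : SL(2, F) := ⟨!![p, r; -r, p], by simp [det_fin_two]; linear_combination hpr⟩
  let D : SL(2, F) := ⟨!![k, l; l, -k], by simp [det_fin_two]; linear_combination -hkl⟩
  let U : SL(2, F) := ⟨!![1, 1; 0, 1], by simp [det_fin_two]⟩
  refine ⟨prj W, prj R, prj D, prj U, commute_prj_iff.2 (Or.inl ?_), commute_prj_iff.2 (Or.inr ?_), fun hc => ?_,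
    fun hc => ?_⟩
  · apply Subtype.ext
    simp only [Matrix.SpecialLinearGroup.coe_mul, Matrix.SpecialLinearGroup.coe_neg]
    ext i j
    fin_cases i <;> fin_cases j <;> simp [W, R, Matrix.SpecialLinearGroup.coe_mul, Matrix.mul_apply, Fin.sum_univ_two]
  · apply Subtype.ext
    simp only [Matrix.SpecialLinearGroup.coe_mul, Matrix.SpecialLinearGroup.coe_neg]
    ext i j
    fin_cases i <;> fin_cases j <;> simp [W, D, Matrix.SpecialLinearGroup.coe_mul, Matrix.SpecialLinearGroup.coe_neg, Matrix.mul_apply, Fin.sum_univ_two]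
  · have hkl0 : k ≠ 0 ∨ l ≠ 0 := by
      by_contra h0
      push Not at h0
      rw [h0.1, h0.2] at hkl
      simp at hkl
    rcases commute_prj_iff.1 hc with e | e <;>
      replace e := congrArg Subtype.val e <;>
      simp only [Matrix.SpecialLinearGroup.coe_mul, Matrix.SpecialLinearGroup.coe_neg] at e <;>
      have e00 := congrFun (congrFun e 0) 0 <;>
      have e01 := congrFun (congrFun e 0) 1 <;>
      simp [R, D, Matrix.SpecialLinearGroup.coe_mul, Matrix.SpecialLinearGroup.coe_neg, Matrix.mul_apply, Fin.sum_univ_two] at e00 e01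
    · rcases hkl0 with hk | hl
      · exact mul_ne_zero (mul_ne_zero h2 hr0) hk (by linear_combination -e01)
      · exact mul_ne_zero (mul_ne_zero h2 hr0) hl (by linear_combination e00)
    · rcases hkl0 with hk | hl
      · exact mul_ne_zero (mul_ne_zero h2 hp0) hk (by linear_combination e00)
      · exact mul_ne_zero (mul_ne_zero h2 hp0) hl (by linear_combination e01)
  · rcases commute_prj_iff.1 hc with e | e <;> replace e := congrArg Subtype.val e <;>
      simp only [Matrix.SpecialLinearGroup.coe_mul, Matrix.SpecialLinearGroup.coe_neg] at e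
    · have e00 := congrFun (congrFun e 0) 0
      simp [U, W, Matrix.SpecialLinearGroup.coe_mul, Matrix.SpecialLinearGroup.coe_neg, Matrix.mul_apply, Fin.sum_univ_two] at e00
    · have e01 := congrFun (congrFun e 0) 1
      simp [U, W, Matrix.SpecialLinearGroup.coe_mul, Matrix.SpecialLinearGroup.coe_neg, Matrix.mul_apply, Fin.sum_univ_two] at e01
      first
        | exact h2 (by linear_combination e01)
        | exact h2 (by linear_combination -e01)

end Cfsg.Lib.MinNonCA
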