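import Cfsg.Agent.MinNonCA.Borel
import Cfsg.Agent.MinNonCA.Witness
import Cfsg.Agent.MinNonCA.Small
import Cfsg.Agent.Classical.Misc.PSLDickson
import Cfsg.Agent.S0276

/-!
The listed groups are non-solvable minimal non-CA-groups.
-/

set_option autoImplicit false
set_option linter.unusedSectionVars false
set_option linter.style.haveILetI false

namespace Cfsg.Lib.MinNonCA

open Subgroup
open scoped MatrixGroups

universe u v

/-- the arithmetic of the list -/
theorem list_arith {q : ℕ} (hq : (q.Prime ∧ 5 < q ∧ ¬ 16 ∣ q ^ 2 - 1) ∨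
    (∃ p : ℕ, p.Prime ∧ p ≠ 2 ∧ (q = 3 ^ p ∨ q = 5 ^ p))) :
    (q % 8 = 3 ∨ q % 8 = 5) ∧ 7 ≤ q ∧ ∀ r m : ℕ, 3 ≤ r → r ^ m = q → r = q ∨ r = 3 ∨ r = 5 := by
  rcases hq with ⟨hpr, h5, h16⟩ | ⟨p, hp, hp2, hq⟩
  · have hodd := hpr.eq_two_or_odd.resolve_left (by omega)
    have h7 : 7 ≤ q := by
      by_contra hlt
      have : q = 6 := by omega
      rw [this] at hodd
      omega
    refine ⟨?_, h7, fun r m hr hrm => Or.inl ?_⟩
    · by_contra hc
      obtain ⟨s, hs⟩ : ∃ s, q = 8 * s + 1 ∨ q = 8 * s + 7 := ⟨q / 8, by omega⟩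
      apply h16
      rcases hs with e | e <;> rw [e]
      · exact ⟨s * (4 * s + 1), by rw [Nat.sub_eq_iff_eq_add (Nat.one_le_pow _ _ (by omega))]; ring⟩
      · exact ⟨(4 * s + 3) * (s + 1), by rw [Nat.sub_eq_iff_eq_add (Nat.one_le_pow _ _ (by omega))]; ring⟩
    · have hm : m ≠ 0 := fun e => by rw [e, pow_zero] at hrm; omega
      exact ((Nat.dvd_prime hpr).1 (hrm ▸ dvd_pow_self r hm)).resolve_left (by omega)
  · obtain ⟨j, hj⟩ := hp.odd_of_ne_two hp2
    have h3 : 3 ≤ p := by have := hp.two_le; omega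
    obtain ⟨b, hb, hbq⟩ : ∃ b, (b = 3 ∨ b = 5) ∧ q = b ^ p := by
      rcases hq with e | e
      · exact ⟨3, Or.inl rfl, e⟩
      · exact ⟨5, Or.inr rfl, e⟩
    have hbp : b.Prime := by rcases hb with rfl | rfl <;> norm_num
    refine ⟨?_, ?_, fun r m hr hrm => ?_⟩
    · rw [hbq, hj, pow_succ, pow_mul, Nat.mul_mod, Nat.pow_mod]
      rcases hb with rfl | rfl <;> simp
    · rw [hbq]
      have h1 := Nat.pow_le_pow_right hbp.pos h3
      have h2 := Nat.pow_le_pow_left (show 3 ≤ b by omega) 3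
      omega
    · have hm : m ≠ 0 := fun e => by
        rw [e, pow_zero] at hrm
        have := Nat.one_lt_pow hp.ne_zero hbp.one_lt
        omega
      obtain ⟨i, -, hi⟩ := (Nat.dvd_prime_pow hbp).1 (hbq ▸ hrm ▸ dvd_pow_self r hm)
      have hi' : i * m = p := Nat.pow_right_injective hbp.two_le (by show b ^ (i * m) = b ^ p; rw [pow_mul]; exact (hi ▸ hrm).trans hbq)
      rcases (Nat.dvd_prime hp).1 ⟨m, hi'.symm⟩ with e | e
      · rw [hi, e, pow_one]; exact Or.inr hb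
      · rw [hi, e, hbq]; exact Or.inl rfl

variable {F : Type v} [Field F] [Fintype F]

local notation "P₂" => Matrix.ProjectiveSpecialLinearGroup (Fin 2) F

/-- eight does not divide the order -/
theorem not_eight_dvd (hq : Fintype.card F % 8 = 3 ∨ Fintype.card F % 8 = 5) : ¬ 8 ∣ Nat.card P₂ := by
  haveI : Fact (Nat.Prime 2) := ⟨Nat.prime_two⟩
  intro h8
  obtain ⟨K, hK⟩ := Sylow.exists_subgroup_card_pow_prime 2 (G := P₂) (n := 3) (by norm_num; exact h8)
  obtain ⟨S, hS⟩ := (IsPGroup.of_card hK).exists_le_sylow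
  have h1 := card_dvd_of_le hS
  rw [hK, (Cfsg.Agent.S0276.result rfl hq S).card_four] at h1
  norm_num at h1

/-- the proper subgroups are CA-groups -/
theorem psl_sub_ca (hq : Fintype.card F % 8 = 3 ∨ Fintype.card F % 8 = 5)
    (hsub : ∀ r m : ℕ, 3 ≤ r → r ^ m = Fintype.card F → r = Fintype.card F ∨ r = 3 ∨ r = 5)
    (H : Subgroup P₂) (hH : H ≠ ⊤) : IsCA H := by
  classical
  obtain ⟨p, hchar⟩ := CharP.exists F
  haveI := hchar
  obtain ⟨k, hp, hk⟩ := FiniteField.card F p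
  haveI : Fact p.Prime := ⟨hp⟩
  have hp2 : p ≠ 2 := by
    intro e2
    rw [hk, e2] at hq
    have := (Nat.even_pow.2 ⟨even_two, k.pos.ne'⟩ : Even (2 ^ (k : ℕ)))
    rw [Nat.even_iff] at this
    omega
  have h8 := not_eight_dvd hq
  rcases Cfsg.Lib.Classical.PSLDickson.dickson p rfl H with
    ⟨hc, -⟩ | ⟨n, hn, ⟨e⟩, -⟩ | ⟨P, hP⟩ | ⟨⟨e⟩⟩ | ⟨⟨e⟩⟩ | ⟨⟨e⟩⟩ | ⟨K, m, h3, hodd, hm, ⟨e⟩⟩ | ⟨K, m, h3, hm, ⟨e⟩⟩
  · exact ca_of_comm fun a b => IsCyclic.commGroup.mul_comm a b
  · exact (ca_dihedral n).of_equiv e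
  · intro x hx a b ha hb
    exact Subtype.ext (borel_comm p hp2 P (x := x.1) (fun e => hx (by
        rw [show x = 1 from Subtype.ext e]; exact one_mem _))
      (hP x.2) (hP a.2) (hP b.2) (congrArg Subtype.val ha.eq) (congrArg Subtype.val hb.eq)).eq
  · exact ca_alt_four.of_equiv e
  · exfalso
    have h1 := Nat.card_congr e.toEquiv
    rw [Nat.card_perm, Nat.card_fin] at h1
    exact h8 (dvd_trans (by rw [h1]; decide) (card_subgroup_dvd_card H))
  · exact ca_alt_five.of_equiv e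
  · rcases hsub _ m h3 hm with hK | hK
    · exfalso
      refine hH (eq_top_of_card_eq H ?_)
      have c1 := Cfsg.Lib.PSLTwoDihedral.card_P (F := K) (Nat.odd_iff.1 hodd)
      have c2 := Cfsg.Lib.PSLTwoDihedral.card_P (F := F) (by omega)
      rw [← Nat.card_congr e.toEquiv, hK, ← c2] at c1
      omega
    · exact (ca_psl_small hK).of_equiv e
  · exfalso
    have hKo : Fintype.card K % 2 = 1 := by
      by_contra hc
      have he : Even (Fintype.card K) := Nat.even_iff.2 (by omega)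
      have hm0 : m ≠ 0 := fun e0 => by rw [e0, pow_zero] at hm; omega
      have := hm ▸ Nat.even_pow.2 ⟨he, hm0⟩
      rw [Nat.even_iff] at this
      omega
    have hcard : Nat.card H = Fintype.card K * (Fintype.card K ^ 2 - 1) := by
      rw [Nat.card_congr e.toEquiv, Cfsg.Lib.Classical.card_PGL, Cfsg.Lib.Classical.SLTwoTori.card_SL2]
    refine h8 (dvd_trans ?_ (card_subgroup_dvd_card H))
    rw [hcard]
    exact dvd_mul_of_dvd_right (Nat.eight_dvd_sq_sub_one_of_odd (Nat.odd_iff.2 hKo)) _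

/-- the converse -/
theorem converse {G : Type u} [Group G] [Finite G] (e : G ≃* P₂)
    (hq : (((Fintype.card F).Prime ∧ 5 < Fintype.card F ∧ ¬ 16 ∣ Fintype.card F ^ 2 - 1) ∨
       (∃ p : ℕ, p.Prime ∧ p ≠ 2 ∧ (Fintype.card F = 3 ^ p ∨ Fintype.card F = 5 ^ p)))) :
    ¬ Group.IsSolvable G ∧ ¬ IsCA G ∧ ∀ H : Subgroup G, H ≠ ⊤ → IsCA H := by
  obtain ⟨h8, h7, hsub⟩ := list_arith hq
  obtain ⟨x, a, b, y, hax, hbx, hab, hyx⟩ := exists_non_ca (F := F) (by omega) h7
  haveI : IsSimpleGroup P₂ :=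
    Matrix.ProjectiveSpecialLinearGroup.rank_two_simple (by rw [Nat.card_eq_fintype_card]; omega)
  refine ⟨fun hs => ?_, fun hca => ?_, fun H hH => ?_⟩
  · haveI := hs
    haveI : Group.IsSolvable P₂ := Group.isSolvable_of_surjective (f := e.toMonoidHom) e.surjective
    exact hab (IsSimpleGroup.comm_iff_isSolvable.2 inferInstance a b)
  · have hP : IsCA P₂ := hca.of_equiv e.symm
    exact hab (hP x (fun hc => hyx (mem_center_iff.1 hc y)) a b hax hbx)
  · have hHe : H.map e.toMonoidHom ≠ ⊤ := fun et => hH (map_injective (f := e.toMonoidHom) e.injective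
      (et.trans (map_top_of_surjective e.toMonoidHom e.surjective).symm))
    exact (psl_sub_ca h8 hsub _ hHe).of_equiv (H.equivMapOfInjective e.toMonoidHom e.injective)

end Cfsg.Lib.MinNonCA
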