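import Mathlib
import Cfsg.Agent.Known.SLTwo.Cases
import Cfsg.Agent.Classical.SL
import Cfsg.Agent.Classical.Misc.PGLMaxBase

/-!
Facts on `PGL(2, q)`: commuting elements, and groups lying between `PSL(2, q)` and `PGL(2, q)`.
-/

set_option autoImplicit false
set_option linter.unusedSectionVars false
set_option linter.style.haveILetI false

namespace Cfsg.Lib.MinNonCA

open Matrix Cfsg.Lib.GLTwo
open scoped MatrixGroups

universe u v

variable {F : Type v} [Field F]

local notation "M₂" => Matrix (Fin 2) (Fin 2) F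

/-- The projection onto `PGL(2, F)`. -/
abbrev pm : GL (Fin 2) F →* Matrix.ProjGenLinGroup (Fin 2) F := Matrix.ProjGenLinGroup.mk

theorem pm_eq_one {A : GL (Fin 2) F} : pm A = 1 ↔ ¬ NonScalar (A : M₂) := by
  rw [Matrix.ProjGenLinGroup.mk_eq_one, Matrix.GeneralLinearGroup.center_eq_range_scalar]
  constructor
  · rintro ⟨u, rfl⟩ hns
    exact hns (by simp [Matrix.GeneralLinearGroup.coe_scalar])
  · intro h
    have hA := eq_smul_one h
    obtain ⟨c, hc⟩ : ∃ c, (A : M₂) = c • 1 := ⟨_, hA⟩
    have hc0 : c ≠ 0 := by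
      intro e
      have := Matrix.GeneralLinearGroup.det_ne_zero A
      rw [hc, e, zero_smul, Matrix.det_zero] at this
      exact this rfl
    refine ⟨Units.mk0 c hc0, Units.ext ?_⟩
    rw [hc, Matrix.GeneralLinearGroup.coe_scalar, Units.val_mk0]
    ext i j
    fin_cases i <;> fin_cases j <;> simp

/-- commuting in `PGL` is commuting up to a scalar in `GL` -/
theorem exists_factor {A B : GL (Fin 2) F} (h : Commute (pm A) (pm B)) :
    ∃ c : F, c ≠ 0 ∧ (A : M₂) * B = c • ((B : M₂) * A) := by
  have h1 : pm (B * A) = pm (A * B) := by rw [map_mul, map_mul]; exact h.eq.symm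
  obtain ⟨u, hu⟩ := Matrix.ProjGenLinGroup.mk_eq_mk_iff.1 h1
  refine ⟨u, u.ne_zero, ?_⟩
  have := congrArg Units.val hu
  rw [Units.val_mul, Units.val_mul, Units.val_mul, Matrix.GeneralLinearGroup.coe_scalar] at this
  rw [← this]
  ext i j
  fin_cases i <;> fin_cases j <;> simp [mul_comm]

theorem factor_sq {A B : GL (Fin 2) F} {c : F} (h : (A : M₂) * B = c • ((B : M₂) * A)) : c * c = 1 := by
  have h1 := congrArg Matrix.det h
  rw [Matrix.det_smul, Fintype.card_fin, Matrix.det_mul, Matrix.det_mul, mul_comm (Matrix.det (A : M₂)), pow_two] at h1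
  have hd : (B : M₂).det * (A : M₂).det ≠ 0 :=
    mul_ne_zero (Matrix.GeneralLinearGroup.det_ne_zero B) (Matrix.GeneralLinearGroup.det_ne_zero A)
  exact (mul_eq_right₀ hd).1 h1.symm

theorem trace_zero_of_factor {A B : GL (Fin 2) F} {c : F} (h : (A : M₂) * B = c • ((B : M₂) * A)) (hc : c ≠ 1) :
    (A : M₂).trace = 0 := by
  have h1 : ((B⁻¹ : GL (Fin 2) F) : M₂) * ((A : M₂) * B) = c • (A : M₂) := by
    rw [h, Matrix.mul_smul, ← mul_assoc, Units.inv_mul, one_mul]
  have h2 := congrArg Matrix.trace h1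
  rw [Matrix.trace_smul, Matrix.trace_mul_comm, mul_assoc, Units.mul_inv, mul_one, smul_eq_mul] at h2
  exact (mul_eq_zero.1 (show (1 - c) * (A : M₂).trace = 0 by linear_combination h2)).resolve_left
    (sub_ne_zero.2 (Ne.symm hc))

theorem sq_scalar_of_trace {A : M₂} (h : A.trace = 0) : ¬ NonScalar (A * A) := by
  rw [Matrix.trace_fin_two] at h
  refine not_not.2 ⟨?_, ?_, ?_⟩
  · simp only [Matrix.mul_apply, Fin.sum_univ_two]; linear_combination A 0 1 * h
  · simp only [Matrix.mul_apply, Fin.sum_univ_two]; linear_combination A 1 0 * h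
  · simp only [Matrix.mul_apply, Fin.sum_univ_two]; linear_combination (A 0 0 - A 1 1) * h

theorem trace_zero_of_sq {A : GL (Fin 2) F} (hA : NonScalar (A : M₂)) (h : pm A * pm A = 1) :
    (A : M₂).trace = 0 := by
  rw [← map_mul, pm_eq_one, GLTwo.NonScalar, not_not] at h
  obtain ⟨h01, h10, h0011⟩ := h
  simp only [Units.val_mul, Matrix.mul_apply, Fin.sum_univ_two] at h01 h10 h0011
  rw [Matrix.trace_fin_two]
  by_contra ht
  refine hA ⟨?_, ?_, ?_⟩
  · exact (mul_eq_zero.1 (show (A : M₂) 0 1 * ((A : M₂) 0 0 + (A : M₂) 1 1) = 0 by linear_combination h01)).resolve_right ht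
  · exact (mul_eq_zero.1 (show (A : M₂) 1 0 * ((A : M₂) 0 0 + (A : M₂) 1 1) = 0 by linear_combination h10)).resolve_right ht
  · exact sub_eq_zero.1 ((mul_eq_zero.1 (show ((A : M₂) 0 0 - (A : M₂) 1 1) * ((A : M₂) 0 0 + (A : M₂) 1 1) = 0 by
      linear_combination h0011)).resolve_right ht)

/-- the centraliser of an element which is not an involution is commutative; of any element in characteristic two -/
theorem pgl_cent_comm {A B C : GL (Fin 2) F} (hA : pm A ≠ 1) (h2 : pm A * pm A ≠ 1 ∨ (2 : F) = 0)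
    (hB : Commute (pm B) (pm A)) (hC : Commute (pm C) (pm A)) : Commute (pm B) (pm C) := by
  have hns : NonScalar (A : M₂) := by
    by_contra h; exact hA (pm_eq_one.2 h)
  have key : ∀ X : GL (Fin 2) F, Commute (pm X) (pm A) → (X : M₂) * A = (A : M₂) * X := by
    intro X hX
    obtain ⟨c, -, hc⟩ := exists_factor hX.symm
    have hc1 : c = 1 := by
      rcases h2 with h2 | h2
      · by_contra hne
        refine h2 ?_
        rw [← map_mul, pm_eq_one, Units.val_mul]
        exact sq_scalar_of_trace (trace_zero_of_factor hc hne)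
      · have := factor_sq hc
        have h3 : (c - 1) * (c - 1) = 0 := by linear_combination this + (1 - c) * h2
        exact sub_eq_zero.1 (mul_self_eq_zero.1 h3)
    rw [hc, hc1, one_smul]
  obtain ⟨a, b, hab⟩ := exists_combo hns (key B hB)
  have hBC : (B : M₂) * C = (C : M₂) * B := by
    rw [hab, combo]
    simp only [add_mul, mul_add, Matrix.smul_mul, Matrix.mul_smul, one_mul, mul_one, ← key C hC]
  exact (show Commute B C from Units.ext hBC).map pm

theorem nonScalar_jordan (r : F) : NonScalar (!![r, 1; 0, r] : M₂) := fun h => by simpa using h.1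

variable [Fintype F]

/-- an element which is not an involution is conjugate in the special group to another element of its
centraliser -/
theorem exists_mover (hq : 4 ≤ Fintype.card F) {A : GL (Fin 2) F} (hA : pm A ≠ 1) (h2 : pm A * pm A ≠ 1) :
    ∃ S : SL(2, F), Commute (pm (Matrix.SpecialLinearGroup.toGL S * A * (Matrix.SpecialLinearGroup.toGL S)⁻¹)) (pm A) ∧
      pm (Matrix.SpecialLinearGroup.toGL S * A * (Matrix.SpecialLinearGroup.toGL S)⁻¹) ≠ pm A := by
  classical
  have hns : NonScalar (A : M₂) := by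
    by_contra h; exact hA (pm_eq_one.2 h)
  set t := (A : M₂).trace with ht
  set d := (A : M₂).det with hd
  have ht0 : t ≠ 0 := fun e => h2 (by
    rw [← map_mul, pm_eq_one, Units.val_mul]; exact sq_scalar_of_trace e)
  have hd0 : d ≠ 0 := Matrix.GeneralLinearGroup.det_ne_zero A
  -- it suffices to reach a different element of the centraliser
  suffices ∃ (S : SL(2, F)) (a b : F), b ≠ 0 ∧ (a ≠ 0 ∨ b = 0) ∧
      ((Matrix.SpecialLinearGroup.toGL S * A * (Matrix.SpecialLinearGroup.toGL S)⁻¹ : GL (Fin 2) F) : M₂) =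
        combo (A : M₂) a b by
    obtain ⟨S, a, b, hb, ha, he⟩ := this
    refine ⟨S, ?_, fun e => ?_⟩
    · have hXA : ((Matrix.SpecialLinearGroup.toGL S * A * (Matrix.SpecialLinearGroup.toGL S)⁻¹ : GL (Fin 2) F) : M₂) *
          (A : M₂) = (A : M₂) * (Matrix.SpecialLinearGroup.toGL S * A * (Matrix.SpecialLinearGroup.toGL S)⁻¹ : GL (Fin 2) F) := by
        rw [he]; exact combo_comm _ _ _
      exact (show Commute (Matrix.SpecialLinearGroup.toGL S * A * (Matrix.SpecialLinearGroup.toGL S)⁻¹) A from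
        Units.ext hXA).map pm
    · obtain ⟨u, hu⟩ := Matrix.ProjGenLinGroup.mk_eq_mk_iff.1 e
      have h1 := congrArg Units.val hu
      rw [Units.val_mul, he, Matrix.GeneralLinearGroup.coe_scalar] at h1
      have h3 : combo (A : M₂) (a * u) (b * u) = combo (A : M₂) 0 1 := by
        have h4 : combo (A : M₂) 0 1 = (A : M₂) := by simp [combo]
        rw [h4]
        refine Eq.trans ?_ h1
        ext i j
        fin_cases i <;> fin_cases j <;> simp [combo] <;> ring
      have h5 := (combo_inj hns h3).1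
      rcases mul_eq_zero.1 h5 with h6 | h6
      · exact hb (ha.resolve_left (not_not.2 h6))
      · exact u.ne_zero h6
  by_cases hdd : ∃ r, t = r + r ∧ d = r * r
  · -- a double eigenvalue
    obtain ⟨r, htr, hdr⟩ := hdd
    have hr0 : r ≠ 0 := fun e => ht0 (by rw [htr, e, add_zero])
    have h20 : (2 : F) ≠ 0 := fun e => ht0 (by rw [htr]; linear_combination r * e)
    obtain ⟨s, hs0, hs⟩ : ∃ s : F, s ≠ 0 ∧ s * s ≠ 1 := by
      by_contra hc
      push Not at hc
      have hle : (Finset.univ : Finset F) ⊆ {0, 1, -1} := fun s _ => by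
        by_cases h0 : s = 0
        · simp [h0]
        · rcases mul_self_eq_one_iff.1 (hc s h0) with e | e <;> simp [e]
      have := (Finset.card_le_card hle).trans Finset.card_le_three
      rw [Finset.card_univ] at this
      omega
    let J : GL (Fin 2) F := Matrix.GeneralLinearGroup.mkOfDetNeZero !![r, 1; 0, r] (by
      rw [Matrix.det_fin_two]; simpa using hr0)
    obtain ⟨P, hP⟩ := exists_conj (g := J) (h := A) (nonScalar_jordan r) hns
      (by rw [← ht, htr]; simp [J, Matrix.trace_fin_two]) (by rw [← hd, hdr]; simp [J, Matrix.det_fin_two])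
    let D : GL (Fin 2) F := Matrix.GeneralLinearGroup.mkOfDetNeZero !![s, 0; 0, s⁻¹] (by
      rw [Matrix.det_fin_two]; simp [hs0])
    let S : SL(2, F) := ⟨((P * D * P⁻¹ : GL (Fin 2) F) : M₂), by
      rw [Units.val_mul, Units.val_mul, Matrix.det_units_conj]
      simp [D, Matrix.det_fin_two, hs0]⟩
    have hS : Matrix.SpecialLinearGroup.toGL S = P * D * P⁻¹ := Units.ext rfl
    refine ⟨S, r - r * (s * s), s * s, mul_ne_zero hs0 hs0, Or.inl ?_, ?_⟩
    · rw [show r - r * (s * s) = r * (1 - s * s) by ring]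
      exact mul_ne_zero hr0 (sub_ne_zero.2 (Ne.symm hs))
    · rw [hS, show P * D * P⁻¹ * A * (P * D * P⁻¹)⁻¹ = P * (D * J * D⁻¹) * P⁻¹ by rw [← hP]; group]
      have hDJ : ((D * J * D⁻¹ : GL (Fin 2) F) : M₂) = combo (J : M₂) (r - r * (s * s)) (s * s) := by
        have h1 : ((D * J : GL (Fin 2) F) : M₂) = combo (J : M₂) (r - r * (s * s)) (s * s) * (D : M₂) := by
          ext i j
          fin_cases i <;> fin_cases j <;>
            simp [D, J, combo, Matrix.mul_apply, Fin.sum_univ_two] <;> field_simp <;> ring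
        rw [Units.val_mul, h1, mul_assoc, Units.mul_inv, mul_one]
      rw [Units.val_mul, Units.val_mul, hDJ, ← hP, Units.val_mul, Units.val_mul]
      simp only [combo, mul_add, add_mul, Matrix.mul_smul, Matrix.smul_mul, mul_one, Units.mul_inv]
  · -- distinct eigenvalues or none
    have hfull : Full A := by
      by_cases hi : Irred t d
      · exact (full_irred hns hi).2
      · simp only [Irred, not_forall, not_not] at hi
        obtain ⟨r, hr⟩ := hi
        exact full_split (r := r) (s := t - r) (fun e => hdd ⟨r, by linear_combination -e, by linear_combination hr - r * e⟩)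
          (by rw [← ht]; ring) (by rw [← hd]; linear_combination hr)
    let A' : GL (Fin 2) F := Matrix.GeneralLinearGroup.mkOfDetNeZero (combo (A : M₂) t (-1)) (by
      rw [det_combo, ← ht, ← hd]; intro e; exact hd0 (by linear_combination e))
    have hA' : (A' : M₂) = combo (A : M₂) t (-1) := rfl
    obtain ⟨P, hP⟩ := exists_conj (g := A) (h := A') hns (fun h => hns ⟨by simpa [hA', combo] using h.1,
        by simpa [hA', combo] using h.2.1, by simpa [hA', combo] using h.2.2⟩)
      (by rw [hA', trace_combo', ← ht]; ring) (by rw [hA', det_combo, ← ht, ← hd]; ring)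
    obtain ⟨x, hx, hxd⟩ := hfull ((P : M₂).det)⁻¹ (inv_ne_zero (Matrix.GeneralLinearGroup.det_ne_zero P))
    let S : SL(2, F) := ⟨((P * x : GL (Fin 2) F) : M₂), by
      rw [Units.val_mul, Matrix.det_mul, hxd, mul_inv_cancel₀ (Matrix.GeneralLinearGroup.det_ne_zero P)]⟩
    have hS : Matrix.SpecialLinearGroup.toGL S = P * x := Units.ext rfl
    refine ⟨S, t, -1, neg_ne_zero.2 one_ne_zero, Or.inl ht0, ?_⟩
    rw [hS, show P * x * A * (P * x)⁻¹ = P * (x * A) * x⁻¹ * P⁻¹ by group,
      Subgroup.mem_centralizer_singleton_iff.1 hx, show P * (A * x) * x⁻¹ * P⁻¹ = P * A * P⁻¹ by group, hP, hA']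
where
  trace_combo' {A : M₂} {a b : F} : (combo A a b).trace = 2 * a + b * A.trace := by
    simp [combo, Matrix.trace_add, Matrix.trace_smul]; ring

/-- commuting with both elementary transvections in `PGL` -/
theorem eq_one_of_commute_transvections {B : GL (Fin 2) F}
    (h : ∀ S : SL(2, F), Commute (pm B) (pm (Matrix.SpecialLinearGroup.toGL S))) : pm B = 1 := by
  have key : ∀ S : SL(2, F), (S : M₂).trace = 2 → (B : M₂) * (S : M₂) = (S : M₂) * B := by
    intro S hS
    obtain ⟨c, -, hc⟩ := exists_factor (h S).symm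
    have hc1 : c = 1 := by
      by_contra hne
      have h20 : (2 : F) = 0 := hS ▸ trace_zero_of_factor hc hne
      have := factor_sq hc
      exact hne (sub_eq_zero.1 (mul_self_eq_zero.1
        (show (c - 1) * (c - 1) = 0 by linear_combination this + (1 - c) * h20)))
    rw [hc1, one_smul] at hc
    exact hc.symm
  have hU := key ⟨!![1, 1; 0, 1], by simp [Matrix.det_fin_two]⟩ (by simp [Matrix.trace_fin_two]; norm_num)
  have hL := key ⟨!![1, 0; 1, 1], by simp [Matrix.det_fin_two]⟩ (by simp [Matrix.trace_fin_two]; norm_num)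
  have u00 := congrFun (congrFun hU 0) 0
  have u01 := congrFun (congrFun hU 0) 1
  have l00 := congrFun (congrFun hL 0) 0
  simp [Matrix.mul_apply, Fin.sum_univ_two] at u00 u01 l00
  rw [pm_eq_one, GLTwo.NonScalar, not_not]
  refine ⟨?_, ?_, ?_⟩
  · first | exact l00 | linear_combination l00
  · first | exact u00 | exact u00.symm | linear_combination -u00
  · first | exact u01 | linear_combination u01

/-- two commuting involutions and a further element of the torus of the first -/
theorem no_commute_combo (h20 : (2 : F) ≠ 0) {I X P : GL (Fin 2) F} (hI : NonScalar (I : M₂))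
    (hIt : (I : M₂).trace = 0) (hXt : (X : M₂).trace = 0) (hXI : pm X ≠ pm I)
    (hc : Commute (pm X) (pm I)) {a b : F} (ha : a ≠ 0) (hb : b ≠ 0) (hP : (P : M₂) = combo (I : M₂) a b)
    (hXP : Commute (pm X) (pm P)) : False := by
  obtain ⟨μ, -, hμ⟩ := exists_factor hc
  obtain ⟨ν, -, hν⟩ := exists_factor hXP
  rcases mul_self_eq_one_iff.1 (factor_sq hμ) with e | e
  · rw [e, one_smul] at hμ
    obtain ⟨α, β, hαβ⟩ := exists_combo hI hμ
    have htr : (combo (I : M₂) α β).trace = 2 * α := by
      rw [show (combo (I : M₂) α β).trace = 2 * α + β * (I : M₂).trace by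
        simp [combo, Matrix.trace_add, Matrix.trace_smul]; ring, hIt, mul_zero, add_zero]
    rw [← hαβ, hXt] at htr
    have hα : α = 0 := (mul_eq_zero.1 htr.symm).resolve_left h20
    have hXv : (X : M₂) = β • (I : M₂) := by rw [hαβ, hα]; simp [combo]
    have hβ : β ≠ 0 := fun e => Matrix.GeneralLinearGroup.det_ne_zero X (by rw [hXv, e]; simp)
    refine hXI (Matrix.ProjGenLinGroup.mk_eq_mk_iff.2 ⟨(Units.mk0 β hβ)⁻¹, Units.ext ?_⟩)
    rw [Units.val_mul, hXv, Matrix.GeneralLinearGroup.coe_scalar, Units.val_inv_eq_inv_val, Units.val_mk0]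
    ext i j
    fin_cases i <;> fin_cases j <;> simp <;> field_simp
  · rw [e] at hμ
    have h1 : (X : M₂) * (P : M₂) = combo (I : M₂) a (-b) * (X : M₂) := by
      rw [hP, combo, combo, mul_add, add_mul]
      simp [Matrix.mul_smul, hμ]
    rw [h1, ← Matrix.smul_mul] at hν
    have h2 : combo (I : M₂) a (-b) = combo (I : M₂) (ν * a) (ν * b) := by
      have h3 := congrArg (· * ((X⁻¹ : GL (Fin 2) F) : M₂)) hν
      simp only [mul_assoc, Units.mul_inv, mul_one] at h3
      rw [h3, hP]
      simp [combo, smul_smul]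
    obtain ⟨e1, e2⟩ := combo_inj hI h2
    have hν1 : ν = 1 := (mul_eq_right₀ ha).1 e1.symm
    rw [hν1, one_mul] at e2
    exact hb ((mul_eq_zero.1 (show (2 : F) * b = 0 by linear_combination -e2)).resolve_left h20)

/-- A group between `PSL(2, F)` and `PGL(2, F)`. -/
structure Model (Q : Type u) [Group Q] (F : Type v) [Field F] [Fintype F] where
  ι : Q →* Matrix.ProjGenLinGroup (Fin 2) F
  inj : Function.Injective ι
  card : 4 ≤ Fintype.card F
  special : ∀ S : SL(2, F), pm (Matrix.SpecialLinearGroup.toGL S) ∈ ι.range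
  cases : Function.Surjective ι ∨ Nat.card Q = Nat.card (Matrix.ProjectiveSpecialLinearGroup (Fin 2) F)

variable {Q : Type u} [Group Q]

/-- no non-trivial solvable normal subgroups -/
theorem Model.solvable_normal_bot (P : Model Q F) (M : Subgroup Q) [hM : M.Normal] (hs : Group.IsSolvable M) :
    M = ⊥ := by
  set φ : Matrix.ProjectiveSpecialLinearGroup (Fin 2) F →* Matrix.ProjGenLinGroup (Fin 2) F :=
    Matrix.ProjectiveSpecialLinearGroup.toPGL with hφ
  have hrange : φ.range ≤ P.ι.range := by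
    rintro _ ⟨g, rfl⟩
    obtain ⟨S, rfl⟩ := QuotientGroup.mk'_surjective _ g
    exact P.special S
  haveI := Cfsg.Lib.Classical.isSimpleGroup_PSL_fin (F := F) (n := 2) le_rfl
    (fun _ => by rw [Nat.card_eq_fintype_card]; exact P.card)
  set N : Subgroup (Matrix.ProjectiveSpecialLinearGroup (Fin 2) F) := (M.map P.ι).comap φ with hN
  have hMn : ∀ a ∈ P.ι.range, ∀ b ∈ M.map P.ι, a * b * a⁻¹ ∈ M.map P.ι := by
    rintro _ ⟨a, rfl⟩ _ ⟨b, hb, rfl⟩
    exact ⟨a * b * a⁻¹, hM.conj_mem b hb a, by simp⟩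
  haveI : N.Normal := ⟨fun n hn g => by
    show φ (g * n * g⁻¹) ∈ M.map P.ι
    rw [map_mul, map_mul, map_inv]
    exact hMn _ (hrange ⟨g, rfl⟩) _ hn⟩
  have hNs : Group.IsSolvable N := by
    haveI := hs
    haveI : Group.IsSolvable (M.map P.ι) :=
      Group.isSolvable_of_isSolvable_injective (f := (M.equivMapOfInjective P.ι P.inj).symm.toMonoidHom)
        (M.equivMapOfInjective P.ι P.inj).symm.injective
    exact Group.isSolvable_of_isSolvable_injective (f := φ.subgroupComap (M.map P.ι))
      (fun a b e => Subtype.ext (Matrix.ProjectiveSpecialLinearGroup.toPGL_injective (congrArg Subtype.val e)))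
  have hNb : N = ⊥ := by
    refine (IsSimpleGroup.eq_bot_or_eq_top_of_normal N inferInstance).resolve_right fun e => ?_
    have hsol : Group.IsSolvable (Matrix.ProjectiveSpecialLinearGroup (Fin 2) F) := by
      rw [e] at hNs
      haveI := hNs
      exact Group.isSolvable_of_isSolvable_injective
        (f := (Subgroup.topEquiv (G := Matrix.ProjectiveSpecialLinearGroup (Fin 2) F)).symm.toMonoidHom)
        (Subgroup.topEquiv (G := Matrix.ProjectiveSpecialLinearGroup (Fin 2) F)).symm.injective
    have hcomm := IsSimpleGroup.comm_iff_isSolvable.2 hsol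
      (QuotientGroup.mk' _ (⟨!![1, 1; 0, 1], by simp [Matrix.det_fin_two]⟩ : SL(2, F)))
      (QuotientGroup.mk' _ (⟨!![1, 0; 1, 1], by simp [Matrix.det_fin_two]⟩ : SL(2, F)))
    have h1 := congrArg φ hcomm
    rw [map_mul, map_mul] at h1
    obtain ⟨c, -, hc⟩ := exists_factor (show Commute (pm (Matrix.SpecialLinearGroup.toGL
      (⟨!![1, 1; 0, 1], by simp [Matrix.det_fin_two]⟩ : SL(2, F)))) (pm (Matrix.SpecialLinearGroup.toGL
      (⟨!![1, 0; 1, 1], by simp [Matrix.det_fin_two]⟩ : SL(2, F)))) from h1)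
    change (!![1, 1; 0, 1] : M₂) * !![1, 0; 1, 1] = c • ((!![1, 0; 1, 1] : M₂) * !![1, 1; 0, 1]) at hc
    have e10 := congrFun (congrFun hc 1) 0
    have e00 := congrFun (congrFun hc 0) 0
    simp [Matrix.mul_apply, Fin.sum_univ_two] at e10 e00
    subst e10
    simp at e00
  rw [eq_bot_iff]
  intro m hm
  rw [Subgroup.mem_bot]
  obtain ⟨B, hB⟩ := Matrix.ProjGenLinGroup.mk_surjective (P.ι m)
  refine P.inj ?_
  rw [← hB, map_one]
  refine eq_one_of_commute_transvections fun S => ?_
  set s := pm (Matrix.SpecialLinearGroup.toGL S) with hs'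
  have h1 : P.ι m * s * (P.ι m)⁻¹ * s⁻¹ ∈ M.map P.ι := by
    rw [mul_assoc, mul_assoc, ← mul_assoc s]
    exact mul_mem ⟨m, hm, rfl⟩ (hMn _ (P.special S) _ (inv_mem ⟨m, hm, rfl⟩))
  obtain ⟨g, hg⟩ : P.ι m * s * (P.ι m)⁻¹ * s⁻¹ ∈ φ.range := by
    refine mul_mem ?_ (inv_mem ⟨QuotientGroup.mk' _ S, rfl⟩)
    exact Cfsg.Lib.Classical.PGLMax.conj_mem _ ⟨QuotientGroup.mk' _ S, rfl⟩
  have hg1 : g ∈ N := by show φ g ∈ M.map P.ι; rw [hg]; exact h1
  rw [hNb, Subgroup.mem_bot] at hg1
  rw [hg1, map_one] at hg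
  rw [hB]
  exact mul_inv_eq_iff_eq_mul.1 (mul_inv_eq_one.1 hg.symm)

end Cfsg.Lib.MinNonCA
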