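import Cfsg.Agent.MinNonCA.Basic

/-!
Solvable normal subgroups are central, given two suitable commuting elements which are involutions modulo the
centraliser.
-/

set_option autoImplicit false
set_option linter.unusedSectionVars false
set_option linter.style.haveILetI false

namespace Cfsg.Lib.MinNonCA

open Subgroup
open scoped commutatorElement

universe u

variable {G : Type u} [Group G]

/-- `y` lies in no solvable normal subgroup. -/
def Deep (y : G) : Prop := ¬ Group.IsSolvable (normalClosure ({y} : Set G))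

/-- Two elements, with their product, deep and squaring into the centraliser of `D`. -/
def Pair (D : Subgroup G) : Prop :=
  ∃ y y' : G, Deep y ∧ Deep y' ∧ Deep (y * y') ∧ y * y ∈ centralizer (D : Set G) ∧
    y' * y' ∈ centralizer (D : Set G) ∧ y * y' * (y * y') ∈ centralizer (D : Set G)

theorem Pair.mono {D E : Subgroup G} (hp : Pair D) (hle : E ≤ D) : Pair E := by
  obtain ⟨y, y', h1, h2, h3, h4, h5, h6⟩ := hp
  exact ⟨y, y', h1, h2, h3, centralizer_le hle h4, centralizer_le hle h5, centralizer_le hle h6⟩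

variable [Finite G]

theorem Deep.notMem {y : G} (hy : Deep y) {K : Subgroup G} [K.Normal] (hK : Group.IsSolvable K) : y ∉ K :=
  fun hyK => hy (GenDihedral.solvable_of_le (normalClosure_le_normal (Set.singleton_subset_iff.2 hyK)) hK)

theorem sq_comm {D : Subgroup G} {y v : G} (hy : y * y ∈ centralizer (D : Set G)) (hv : v ∈ D) :
    y * (y * v * y⁻¹) * y⁻¹ = v := by
  rw [show y * (y * v * y⁻¹) * y⁻¹ = (y * y) * v * (y * y)⁻¹ by group, ← mem_centralizer_iff.1 hy v hv,
    mul_inv_cancel_right]

/-- fixed vectors of a deep element which is an involution modulo the centraliser are central -/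
theorem Hyp.fixed_central (h : Hyp G) (V : Subgroup G) [V.Normal] (hVc : ∀ a ∈ V, ∀ b ∈ V, Commute a b)
    {y : G} (hy : Deep y) (hy2 : y * y ∈ centralizer (V : Set G)) {v : G} (hv : v ∈ V) (hvy : Commute y v) :
    v ∈ center G := by
  set K := centralizer (V : Set G) with hKdef
  haveI : K.Normal := normal_centralizer
  by_cases hK : Group.IsSolvable K
  swap
  · exact h.central_of_normal K hK fun k hk => (mem_centralizer_iff.1 hk v hv).symm
  have hVK : V ≤ K := fun a ha => mem_centralizer_iff.2 fun b hb => (hVc b hb a ha).eq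
  obtain ⟨w, hw, hwy⟩ : ∃ w ∈ V, ¬ Commute w y := by
    by_contra hc
    push Not at hc
    exact hy.notMem hK (mem_centralizer_iff.2 fun b hb => (hc b hb).eq)
  refine h.central_of_normal _ hy ?_
  have hle : normalClosure ({y} : Set G) ≤ centralizer ({v} : Set G) := by
    refine (closure_le _).2 fun x hx => ?_
    obtain ⟨a, ha, hax⟩ := Group.mem_conjugatesOfSet_iff.1 hx
    rw [Set.mem_singleton_iff] at ha
    subst ha
    obtain ⟨g, rfl⟩ := isConj_iff.1 hax
    have hg2 : g * a * g⁻¹ * (g * a * g⁻¹) ∈ K := by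
      rw [show g * a * g⁻¹ * (g * a * g⁻¹) = g * (a * a) * g⁻¹ by group]
      exact (inferInstance : K.Normal).conj_mem _ hy2 g
    exact mem_centralizer_singleton_iff.2 (h.star _ (h.ne_top (solvable_two_invol hK hy2 hg2)) v
      (mem_sup_left (hVK hv)) w (mem_sup_left (hVK hw)) a (mem_sup_right (subset_closure (Or.inl rfl)))
      (hVc w hw v hv) hvy hwy _ (mem_sup_right (subset_closure (Or.inr rfl)))).eq
  exact fun k hk => mem_centralizer_singleton_iff.1 (hle hk)

/-- abelian normal subgroups with a pair are central -/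
theorem Hyp.abelian_central (h : Hyp G) (V : Subgroup G) [V.Normal] (hVc : ∀ a ∈ V, ∀ b ∈ V, Commute a b)
    (hp : Pair V) : V ≤ center G := by
  obtain ⟨y, y', hy, hy', hyy, h2, h2', h22⟩ := hp
  -- each inverts modulo the centre
  have hinv : ∀ z : G, Deep z → z * z ∈ centralizer (V : Set G) → ∀ v ∈ V, v * (z * v * z⁻¹) ∈ center G := by
    intro z hz hz2 v hv
    have hv' : z * v * z⁻¹ ∈ V := (inferInstance : V.Normal).conj_mem v hv z
    refine h.fixed_central V hVc hz hz2 (mul_mem hv hv') ?_
    refine mul_inv_eq_iff_eq_mul.1 ?_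
    rw [show z * (v * (z * v * z⁻¹)) * z⁻¹ = (z * v * z⁻¹) * (z * (z * v * z⁻¹) * z⁻¹) by group,
      sq_comm hz2 hv]
    exact (hVc _ hv' _ hv).eq
  have hsq : ∀ v ∈ V, v * v ∈ center G := by
    intro v hv
    have hv' : y' * v * y'⁻¹ ∈ V := (inferInstance : V.Normal).conj_mem v hv y'
    have a1 := hinv y' hy' h2' v hv
    have a2 := hinv y hy h2 _ hv'
    have a3 := hinv (y * y') hyy h22 v hv
    rw [show y * y' * v * (y * y')⁻¹ = y * (y' * v * y'⁻¹) * y⁻¹ by group] at a3
    set w := y' * v * y'⁻¹ with hw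
    set x := y * w * y⁻¹ with hx
    have e : v * v = (v * w) * (v * x) * (w * x)⁻¹ := by
      have hxV : x ∈ V := (inferInstance : V.Normal).conj_mem _ hv' y
      have c1 : Commute w v := hVc _ hv' _ hv
      calc v * v = v * v * (w * x) * (w * x)⁻¹ := by group
        _ = v * (v * w) * x * (w * x)⁻¹ := by group
        _ = v * (w * v) * x * (w * x)⁻¹ := by rw [c1.eq]
        _ = _ := by group
    rw [e]
    exact mul_mem (mul_mem a1 a3) (inv_mem a2)
  -- so the conjugates of `y` act trivially modulo the centre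
  intro v₀ hv₀
  set J := normalClosure ({y} : Set G) with hJ
  have hact : ∀ j ∈ J, ∀ v ∈ V, j * v * j⁻¹ * v⁻¹ ∈ center G := by
    intro j hj
    induction hj using Subgroup.closure_induction with
    | mem x hx =>
      obtain ⟨a, ha, hax⟩ := Group.mem_conjugatesOfSet_iff.1 hx
      rw [Set.mem_singleton_iff] at ha
      subst ha
      obtain ⟨g, rfl⟩ := isConj_iff.1 hax
      intro v hv
      set v' := g⁻¹ * v * g with hv'
      have hv'V : v' ∈ V := by simpa using (inferInstance : V.Normal).conj_mem v hv g⁻¹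
      have c1 : a * v' * a⁻¹ * v'⁻¹ ∈ center G := by
        have c2 := hinv a hy h2 v' hv'V
        have e : a * v' * a⁻¹ * v'⁻¹ = v'⁻¹ * (v' * (a * v' * a⁻¹)) * v' * (v' * v')⁻¹ := by group
        rw [e]
        exact mul_mem ((inferInstance : (center G).Normal).conj_mem' _ c2 v') (inv_mem (hsq v' hv'V))
      have e : g * a * g⁻¹ * v * (g * a * g⁻¹)⁻¹ * v⁻¹ = g * (a * v' * a⁻¹ * v'⁻¹) * g⁻¹ := by
        rw [hv']; group
      rw [e]
      exact (inferInstance : (center G).Normal).conj_mem _ c1 g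
    | one => intro v _; simp
    | mul j k _ _ ihj ihk =>
      intro v hv
      have e : j * k * v * (j * k)⁻¹ * v⁻¹ =
          (j * (k * v * k⁻¹ * v⁻¹) * j⁻¹) * (j * v * j⁻¹ * v⁻¹) := by group
      rw [e]
      exact mul_mem ((inferInstance : (center G).Normal).conj_mem _ (ihk v hv) j) (ihj v hv)
    | inv j _ ihj =>
      intro v hv
      have e : j⁻¹ * v * j⁻¹⁻¹ * v⁻¹ = (j⁻¹ * (j * v * j⁻¹ * v⁻¹) * j)⁻¹ := by group
      rw [e]
      exact inv_mem ((inferInstance : (center G).Normal).conj_mem' _ (ihj v hv) j)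
  have hJn : ¬ Group.IsSolvable (⁅J, J⁆ : Subgroup G) := by
    intro hs
    refine hy ?_
    haveI := hs
    haveI : ((⁅J, J⁆ : Subgroup G).subgroupOf J).Normal := Subgroup.normal_subgroupOf
    refine GenDihedral.solvable_ext ((⁅J, J⁆ : Subgroup G).subgroupOf J)
      (Group.isSolvable_of_isSolvable_injective (f := (subgroupOfEquivOfLe (commutator_le_self J)).toMonoidHom)
        (subgroupOfEquivOfLe (commutator_le_self J)).injective) ?_
    refine Group.isSolvable_of_comm fun a b => ?_
    obtain ⟨a, rfl⟩ := QuotientGroup.mk_surjective a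
    obtain ⟨b, rfl⟩ := QuotientGroup.mk_surjective b
    rw [← QuotientGroup.mk_mul, ← QuotientGroup.mk_mul, QuotientGroup.eq, mem_subgroupOf]
    have := commutator_mem_commutator (inv_mem b.2) (inv_mem a.2)
    simpa [commutatorElement_def, mul_assoc] using this
  refine h.central_of_normal _ hJn ?_
  have hle : (⁅J, J⁆ : Subgroup G) ≤ centralizer ({v₀} : Set G) := by
    refine commutator_le.2 fun j hj k hk => mem_centralizer_singleton_iff.2 ?_
    obtain ⟨a, ha, ea⟩ : ∃ a ∈ center G, j * v₀ * j⁻¹ = a * v₀ :=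
      ⟨_, hact j hj v₀ hv₀, by group⟩
    obtain ⟨b, hb, eb⟩ : ∃ b ∈ center G, k * v₀ * k⁻¹ = b * v₀ :=
      ⟨_, hact k hk v₀ hv₀, by group⟩
    have ha' : ∀ g, g * a = a * g := mem_center_iff.1 ha
    have hb' : ∀ g, g * b = b * g := mem_center_iff.1 hb
    have ek : k⁻¹ * v₀ * k = b⁻¹ * v₀ := by
      have : v₀ = k⁻¹ * (b * v₀) * k := by rw [← eb]; group
      calc k⁻¹ * v₀ * k = b⁻¹ * (b * (k⁻¹ * v₀ * k)) := by group
        _ = b⁻¹ * (k⁻¹ * (b * v₀) * k) := by rw [← mul_assoc k⁻¹ b, hb' k⁻¹]; group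
        _ = b⁻¹ * v₀ := by rw [← this]
    have ej : j⁻¹ * v₀ * j = a⁻¹ * v₀ := by
      have : v₀ = j⁻¹ * (a * v₀) * j := by rw [← ea]; group
      calc j⁻¹ * v₀ * j = a⁻¹ * (a * (j⁻¹ * v₀ * j)) := by group
        _ = a⁻¹ * (j⁻¹ * (a * v₀) * j) := by rw [← mul_assoc j⁻¹ a, ha' j⁻¹]; group
        _ = a⁻¹ * v₀ := by rw [← this]
    have cc : ∀ c ∈ center G, ∀ g x : G, g * (c * x) * g⁻¹ = c * (g * x * g⁻¹) := fun c hc g x => by
      rw [← mul_assoc g c, mem_center_iff.1 hc g]; group
    have cc' : ∀ c ∈ center G, ∀ g x : G, g⁻¹ * (c * x) * g = c * (g⁻¹ * x * g) := fun c hc g x => by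
      rw [← mul_assoc g⁻¹ c, mem_center_iff.1 hc g⁻¹]; group
    refine mul_inv_eq_iff_eq_mul.1 ?_
    calc ⁅j, k⁆ * v₀ * ⁅j, k⁆⁻¹
        = j * (k * (j⁻¹ * (k⁻¹ * v₀ * k) * j) * k⁻¹) * j⁻¹ := by rw [commutatorElement_def]; group
      _ = b⁻¹ * (a⁻¹ * (b * (a * v₀))) := by
        rw [ek, cc' _ (inv_mem hb), ej, cc _ (inv_mem hb), cc _ (inv_mem ha), eb, cc _ (inv_mem hb),
          cc _ (inv_mem ha), cc _ hb, ea]
      _ = v₀ := by rw [← mul_assoc a⁻¹ b, ← mem_center_iff.1 (inv_mem ha) b]; group
  exact fun k hk => mem_centralizer_singleton_iff.1 (hle hk)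

/-- normal subgroups of class two and odd order modulo the centre with a pair outside the centraliser are
central, if their centres are -/
theorem Hyp.class_two_core (h : Hyp G) (D : Subgroup G) [D.Normal]
    (hD : ∀ a ∈ D, ∀ b ∈ D, a * b * a⁻¹ * b⁻¹ ∈ center G)
    (hodd : ∀ d ∈ D, ∃ n : ℕ, Odd n ∧ d ^ n ∈ center G) (hDs : Group.IsSolvable D)
    (hZ : D ⊓ centralizer (D : Set G) ≤ center G) {y y' : G} (hy : y ∉ centralizer (D : Set G))
    (hy' : y' ∉ centralizer (D : Set G)) (hyy : y * y' ∉ centralizer (D : Set G))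
    (h2 : y * y ∈ centralizer (D : Set G)) (h2' : y' * y' ∈ centralizer (D : Set G))
    (h22 : y * y' * (y * y') ∈ centralizer (D : Set G)) : D ≤ center G := by
  set C := centralizer (D : Set G) with hC
  have hinv : ∀ z : G, z ∉ C → z * z ∈ C → ∀ e ∈ D, e * (z * e * z⁻¹) ∈ center G := by
    intro z hz hz2 e he
    -- the fixed points of `z` are abelian
    have hfix : ∀ a ∈ D, ∀ b ∈ D, Commute a z → Commute b z → Commute a b := by
      intro a ha b hb haz hbz
      by_contra hab
      have hs : Group.IsSolvable ↥(D ⊔ zpowers z) := solvable_sup hDs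
        (Group.isSolvable_of_comm fun a b => by
          obtain ⟨_, i, rfl⟩ := a; obtain ⟨_, j, rfl⟩ := b; exact Subtype.ext (zpow_mul_comm z i j))
      refine hz (mem_centralizer_iff.2 fun d hd => ?_)
      exact (h.star _ (h.ne_top hs) z (mem_sup_right (mem_zpowers z)) a (mem_sup_left ha) b (mem_sup_left hb)
        haz hbz hab d (mem_sup_left hd)).eq
    set f := z * e * z⁻¹ with hf
    have hfD : f ∈ D := (inferInstance : D.Normal).conj_mem e he z
    set w := e * f with hw
    have hwD : w ∈ D := mul_mem he hfD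
    have hzf : z * f * z⁻¹ = e := sq_comm hz2 he
    -- `w ^ 2` is fixed
    set c := f * e * f⁻¹ * e⁻¹ with hc
    have hcZ : c ∈ center G := hD f hfD e he
    have hzw : z * w * z⁻¹ = c * w := by
      rw [hw, show z * (e * f) * z⁻¹ = (z * e * z⁻¹) * (z * f * z⁻¹) by group, hzf, ← hf, hc]; group
    have hzc : z * c * z⁻¹ = c := by rw [mem_center_iff.1 hcZ z, mul_inv_cancel_right]
    have hc2 : c * c = 1 := by
      have h1 : z * (z * w * z⁻¹) * z⁻¹ = w := sq_comm hz2 hwD
      rw [hzw, show z * (c * w) * z⁻¹ = (z * c * z⁻¹) * (z * w * z⁻¹) by group, hzc, hzw, ← mul_assoc] at h1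
      exact mul_eq_right.1 h1
    have hw2 : Commute (w * w) z := by
      refine (mul_inv_eq_iff_eq_mul.1 ?_).symm
      rw [show z * (w * w) * z⁻¹ = (z * w * z⁻¹) * (z * w * z⁻¹) by group, hzw,
        show c * w * (c * w) = c * (w * c) * w by group, mem_center_iff.1 hcZ w,
        show c * (c * w) * w = c * c * (w * w) by group, hc2, one_mul]
    -- fixed elements are central
    have hfc : ∀ d ∈ D, Commute d z → d ∈ center G := by
      intro d hd hdz
      refine hZ ⟨hd, mem_centralizer_iff.2 fun e' he' => ?_⟩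
      set f' := z * e' * z⁻¹ with hf'
      have hf'D : f' ∈ D := (inferInstance : D.Normal).conj_mem e' he' z
      set w' := e' * f' with hw'
      have hw'D : w' ∈ D := mul_mem he' hf'D
      set c' := f' * e' * f'⁻¹ * e'⁻¹ with hc'
      have hc'Z : c' ∈ center G := hD f' hf'D e' he'
      have hzf' : z * f' * z⁻¹ = e' := sq_comm hz2 he'
      have hzw' : z * w' * z⁻¹ = c' * w' := by
        rw [hw', show z * (e' * f') * z⁻¹ = (z * e' * z⁻¹) * (z * f' * z⁻¹) by group, hzf', ← hf', hc']; group
      have hzc' : z * c' * z⁻¹ = c' := by rw [mem_center_iff.1 hc'Z z, mul_inv_cancel_right]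
      have hc2' : c' * c' = 1 := by
        have h1 : z * (z * w' * z⁻¹) * z⁻¹ = w' := sq_comm hz2 hw'D
        rw [hzw', show z * (c' * w') * z⁻¹ = (z * c' * z⁻¹) * (z * w' * z⁻¹) by group, hzc', hzw',
          ← mul_assoc] at h1
        exact mul_eq_right.1 h1
      have hw2' : Commute (w' * w') z := by
        refine (mul_inv_eq_iff_eq_mul.1 ?_).symm
        rw [show z * (w' * w') * z⁻¹ = (z * w' * z⁻¹) * (z * w' * z⁻¹) by group, hzw',
          show c' * w' * (c' * w') = c' * (w' * c') * w' by group, mem_center_iff.1 hc'Z w',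
          show c' * (c' * w') * w' = c' * c' * (w' * w') by group, hc2', one_mul]
      have hdw : Commute d (w' * w') := hfix d hd _ (mul_mem hw'D hw'D) hdz hw2'
      -- `k = [d, e']` is killed by `4` and by an odd number
      set k := d * e' * d⁻¹ * e'⁻¹ with hk
      have hkZ : k ∈ center G := hD d hd e' he'
      have hk' : ∀ g, g * k = k * g := mem_center_iff.1 hkZ
      have hde : d * e' * d⁻¹ = k * e' := by rw [hk]; group
      have hdf : d * f' * d⁻¹ = k * f' := by
        calc d * f' * d⁻¹ = (d * z) * e' * (d * z)⁻¹ := by rw [hf']; group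
          _ = z * (d * e' * d⁻¹) * z⁻¹ := by rw [hdz.eq]; group
          _ = (z * k) * e' * z⁻¹ := by rw [hde]; group
          _ = k * f' := by rw [hk' z, hf']; group
      have hdw' : d * w' * d⁻¹ = k * k * w' := by
        rw [hw', show d * (e' * f') * d⁻¹ = (d * e' * d⁻¹) * (d * f' * d⁻¹) by group, hde, hdf,
          show k * e' * (k * f') = k * (e' * k) * f' by group, hk' e']; group
      have hk4 : k ^ 4 = 1 := by
        have h1 : d * (w' * w') * d⁻¹ = k ^ 4 * (w' * w') := by
          rw [show d * (w' * w') * d⁻¹ = (d * w' * d⁻¹) * (d * w' * d⁻¹) by group, hdw',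
            show k * k * w' * (k * k * w') = k * k * (w' * (k * k)) * w' by group,
            mem_center_iff.1 (mul_mem hkZ hkZ) w']
          simp [pow_succ, mul_assoc]
        rw [hdw.eq, mul_inv_cancel_right] at h1
        exact mul_eq_right.1 h1.symm
      obtain ⟨n, hn, hdn⟩ := hodd d hd
      have hkn : k ^ n = 1 := by
        have h1 : ∀ m : ℕ, d ^ m * e' * (d ^ m)⁻¹ = k ^ m * e' := by
          intro m
          induction m with
          | zero => simp
          | succ m ih =>
            rw [pow_succ' d, show d * d ^ m * e' * (d * d ^ m)⁻¹ = d * (d ^ m * e' * (d ^ m)⁻¹) * d⁻¹ by group,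
              ih, show d * (k ^ m * e') * d⁻¹ = (d * k ^ m) * e' * d⁻¹ by group,
              mem_center_iff.1 (pow_mem hkZ m) d, show k ^ m * d * e' * d⁻¹ = k ^ m * (d * e' * d⁻¹) by group,
              hde, ← mul_assoc, ← pow_succ]
        have h2 := h1 n
        rw [← mem_center_iff.1 hdn e', mul_inv_cancel_right] at h2
        exact mul_eq_right.1 h2.symm
      have h1 : k = 1 := by
        rw [← pow_one k]
        have := (pow_gcd_eq_one (a := k) (m := 4) (n := n)).2 ⟨hk4, hkn⟩
        rwa [show Nat.gcd 4 n = 1 from Nat.Coprime.pow_left 2 (Nat.coprime_two_left.2 hn)] at this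
      rw [hk] at h1
      exact (mul_inv_eq_iff_eq_mul.1 (mul_inv_eq_one.1 h1)).symm
    obtain ⟨n, ⟨k, hk⟩, hwn⟩ := hodd w hwD
    have h2w : w * w ∈ center G := hfc _ (mul_mem hwD hwD) hw2
    rw [hk, pow_succ, pow_mul, pow_two] at hwn
    exact (mul_mem_cancel_left (pow_mem h2w k)).1 hwn
  intro e he
  have he' : y' * e * y'⁻¹ ∈ D := (inferInstance : D.Normal).conj_mem e he y'
  set w := y' * e * y'⁻¹ with hw
  have a1 := hinv y' hy' h2' e he
  have a2 := hinv y hy h2 w he'
  have a3 := hinv (y * y') hyy h22 e he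
  rw [← hw] at a1
  rw [show y * y' * e * (y * y')⁻¹ = y * w * y⁻¹ by rw [hw]; group] at a3
  set x := y * w * y⁻¹ with hx
  have hee : e * e ∈ center G := by
    have c2 : w * e = e * w := by
      calc w * e = (e⁻¹ * (e * w)) * e := by group
        _ = e * w := by rw [mem_center_iff.1 a1 e⁻¹]; group
    have e2 : e * e = (e * w) * ((e * x) * (w * x)⁻¹) := by
      calc e * e = e * (e * w) * w⁻¹ := by group
        _ = e * (w * e) * w⁻¹ := by rw [c2]
        _ = _ := by group
    rw [e2]
    exact mul_mem a1 (mul_mem a3 (inv_mem a2))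
  obtain ⟨n, ⟨k, hk⟩, hen⟩ := hodd e he
  rw [hk, pow_succ, pow_mul, pow_two] at hen
  exact (mul_mem_cancel_left (pow_mem hee k)).1 hen

/-- normal subgroups of class two and odd order modulo the centre with a pair are central -/
theorem Hyp.class_two_central (h : Hyp G) (D : Subgroup G) [D.Normal]
    (hD : ∀ a ∈ D, ∀ b ∈ D, a * b * a⁻¹ * b⁻¹ ∈ center G)
    (hodd : ∀ d ∈ D, ∃ n : ℕ, Odd n ∧ d ^ n ∈ center G) (hp : Pair D) : D ≤ center G := by
  set C := centralizer (D : Set G) with hC
  haveI : C.Normal := normal_centralizer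
  by_cases hCs : Group.IsSolvable C
  swap
  · intro d hd
    exact h.central_of_normal C hCs fun k hk => (mem_centralizer_iff.1 hk d hd).symm
  have hDs : Group.IsSolvable D := by
    haveI : ((center G).subgroupOf D).Normal := Subgroup.normal_subgroupOf
    refine GenDihedral.solvable_ext ((center G).subgroupOf D)
      (Group.isSolvable_of_comm fun a b => Subtype.ext (Subtype.ext (mem_center_iff.1 b.2 _))) ?_
    refine Group.isSolvable_of_comm fun a b => ?_
    obtain ⟨a, rfl⟩ := QuotientGroup.mk_surjective a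
    obtain ⟨b, rfl⟩ := QuotientGroup.mk_surjective b
    rw [← QuotientGroup.mk_mul, ← QuotientGroup.mk_mul, QuotientGroup.eq, mem_subgroupOf]
    simpa [mul_assoc] using hD _ (inv_mem b.2) _ (inv_mem a.2)
  obtain ⟨y, y', hy, hy', hyy, h2, h2', h22⟩ := hp
  have hZ : D ⊓ C ≤ center G := h.abelian_central (D ⊓ C)
    (fun a ha b hb => (mem_centralizer_iff.1 hb.2 a ha.1))
    ⟨y, y', hy, hy', hyy, centralizer_le inf_le_left h2, centralizer_le inf_le_left h2',
      centralizer_le inf_le_left h22⟩
  exact h.class_two_core D hD hodd hDs hZ (hy.notMem hCs) (hy'.notMem hCs) (hyy.notMem hCs) h2 h2' h22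

/-- solvable normal subgroups are central, if those of class two modulo the centre are -/
theorem Hyp.solvable_central_of (h : Hyp G)
    (hcl : ∀ D : Subgroup G, D.Normal → Group.IsSolvable D →
      (∀ a ∈ D, ∀ b ∈ D, a * b * a⁻¹ * b⁻¹ ∈ center G) → D ≤ center G)
    (M : Subgroup G) [hM : M.Normal] (hMs : Group.IsSolvable M) : M ≤ center G := by
  suffices ∀ n, ∀ D : Subgroup G, Nat.card D = n → D.Normal → Group.IsSolvable D → D ≤ center G from
    this _ M rfl hM hMs
  intro n
  induction n using Nat.strong_induction_on with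
  | _ n ih =>
  intro D hn hD hDs
  haveI := hD
  by_cases hbot : D = ⊥
  · rw [hbot]; exact bot_le
  have hlt : (⁅D, D⁆ : Subgroup G) < D := by
    refine lt_of_le_of_ne (commutator_le_self D) fun e => hbot ?_
    by_contra hb
    haveI := (Subgroup.nontrivial_iff_ne_bot D).2 hb
    haveI := hDs
    refine (IsSolvable.commutator_lt_top_of_nontrivial D).ne ?_
    refine map_injective D.subtype_injective ?_
    rw [map_subtype_commutator, e, ← MonoidHom.range_eq_map, D.range_subtype]
  have hsub : (⁅D, D⁆ : Subgroup G) ≤ center G := by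
    refine ih (Nat.card (⁅D, D⁆ : Subgroup G)) ?_ _ rfl inferInstance (GenDihedral.solvable_of_le hlt.le hDs)
    rw [← hn]
    exact Set.ncard_lt_ncard (SetLike.coe_ssubset_coe.2 hlt) (Set.toFinite _)
  have hD2 : ∀ a ∈ D, ∀ b ∈ D, a * b * a⁻¹ * b⁻¹ ∈ center G := fun a ha b hb =>
    hsub (commutatorElement_def a b ▸ commutator_mem_commutator ha hb)
  exact hcl D hD hDs hD2

/-- solvable normal subgroups are central, given pairs and oddness modulo the centre -/
theorem Hyp.solvable_central (h : Hyp G)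
    (hp : ∀ D : Subgroup G, D.Normal → Group.IsSolvable (centralizer (D : Set G)) → Pair D)
    (hodd : ∀ D : Subgroup G, D.Normal → Group.IsSolvable D →
      (∀ a ∈ D, ∀ b ∈ D, a * b * a⁻¹ * b⁻¹ ∈ center G) → ∀ d ∈ D, ∃ n : ℕ, Odd n ∧ d ^ n ∈ center G)
    (M : Subgroup G) [hM : M.Normal] (hMs : Group.IsSolvable M) : M ≤ center G := by
  refine h.solvable_central_of (fun D hD hDs hD2 => ?_) M hMs
  haveI := hD
  by_cases hC : Group.IsSolvable (centralizer (D : Set G))
  · exact h.class_two_central D hD2 (hodd D hD hDs hD2) (hp D hD hC)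
  · haveI : (centralizer (D : Set G)).Normal := normal_centralizer
    intro d hd
    exact h.central_of_normal _ hC fun k hk => (mem_centralizer_iff.1 hk d hd).symm

end Cfsg.Lib.MinNonCA
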