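import Cfsg.Agent.MinNonCA.OddCentral
import Cfsg.Agent.MinNonCA.Radical
import Cfsg.Agent.MinNonCA.Linear
import Cfsg.Agent.GenDihedral.Red.Main
import Cfsg.Agent.Classical.Misc.SmallPSL

/-!
With a non-abelian Sylow 2-subgroup the quotient by the centre would be `PSL(2, q)` or `PGL(2, q)`, and then the
group would be a CA-group: the Sylow 2-subgroups are abelian.
-/

set_option autoImplicit false
set_option linter.unusedSectionVars false
set_option linter.style.haveILetI false

namespace Cfsg.Lib.MinNonCA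

open Subgroup

universe u

variable {G : Type u} [Group G] [Finite G] (h : Hyp G)
include h

theorem Hyp.quot_ns : ¬ Group.IsSolvable (G ⧸ center G) := fun hs =>
  h.ns (GenDihedral.solvable_ext (center G)
    (Group.isSolvable_of_comm fun a b => Subtype.ext (mem_center_iff.1 b.2 a)) hs)

theorem Hyp.sylow_not_center (T : Sylow 2 G) : ¬ (T : Subgroup G) ≤ center G := fun hle =>
  h.not_solvable_of_sylow T (center G) hle
    (Group.isSolvable_of_comm fun a b => Subtype.ext (mem_center_iff.1 b.2 a))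

variable {T : Sylow 2 G} (hT : ∃ a ∈ T, ∃ b ∈ T, ¬ Commute a b) {x : G} (hx : Pick T x)
include hT hx

/-- squares of the elements of `Hc x` moving `x` are central -/
theorem Hyp.sq_central {g : G} (hg : g ∈ Hc x) (hgx : ¬ Commute g x) : g * g ∈ center G := by
  classical
  haveI : Fact (Nat.Prime 2) := ⟨Nat.prime_two⟩
  have hH := h.Hc_ne_top hx.ne
  have hcomm2 : ∀ {k : G}, k ∈ Hc x → Commute (k * k) x := by
    intro k hk
    obtain ⟨c, hc, hkx⟩ : ∃ c ∈ center G, k * x * k⁻¹ = c * x := ⟨_, comm_mem_center hk, by group⟩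
    have hc2 : c * c = 1 := by
      have h1 : k * (x * x) * k⁻¹ = (k * x * k⁻¹) * (k * x * k⁻¹) := by group
      rw [mem_center_iff.1 hx.sq k, mul_inv_cancel_right, hkx, show c * x * (c * x) = c * (x * c) * x by group,
        mem_center_iff.1 hc x, show c * (c * x) * x = c * c * (x * x) by group] at h1
      exact mul_eq_right.1 h1.symm
    refine mul_inv_eq_iff_eq_mul.1 ?_
    rw [show k * k * x * (k * k)⁻¹ = k * (k * x * k⁻¹) * k⁻¹ by group, hkx,
      show k * (c * x) * k⁻¹ = (k * c) * x * k⁻¹ by group, mem_center_iff.1 hc k,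
      show c * k * x * k⁻¹ = c * (k * x * k⁻¹) by group, hkx, ← mul_assoc, hc2, one_mul]
  have hall : ∀ {k : G}, k ∈ Hc x → ¬ Commute k x → k * k ∉ center G → ∀ v ∈ Hc x, Commute v (k * k) := by
    intro k hk hkx _ v hv
    exact h.star _ hH (k * k) (mul_mem hk hk) k hk x (self_mem_Hc x)
      ((Commute.refl k).mul_right (Commute.refl k)) (hcomm2 hk).symm hkx v hv
  -- in the Sylow subgroup
  have hsq : ∀ t ∈ T, ¬ Commute t x → t * t ∈ center G := by
    intro t ht htx
    by_contra hc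
    exact hc (h.central_of_sylow_center T hT (mul_mem ht ht) fun s hs =>
      hall (hx.cen t ht) htx hc s (hx.cen s hs))
  by_contra hc
  set w := g * g with hw
  have hwH := hall hg hgx hc
  -- split into the 2-part and the odd part
  obtain ⟨k, m, hm, hkm⟩ : ∃ k m : ℕ, Odd m ∧ orderOf w = 2 ^ k * m := by
    obtain ⟨k, m, hm, hkm⟩ := Nat.exists_eq_pow_mul_and_not_dvd (orderOf_pos w).ne' 2 (by norm_num)
    exact ⟨k, m, Nat.odd_iff.2 (by omega), hkm⟩
  have h2T : w ^ m ∈ T := by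
    refine mem_sylow_of_commute T ?_ fun t ht => (hwH t (hx.cen t ht)).pow_right m
    obtain ⟨i, -, hi⟩ := (Nat.dvd_prime_pow Nat.prime_two).1 (orderOf_dvd_of_pow_eq_one
      (show (w ^ m) ^ 2 ^ k = 1 by rw [← pow_mul, mul_comm, ← hkm, pow_orderOf_eq_one]))
    exact ⟨i, hi⟩
  have h2c : w ^ m ∈ center G :=
    h.central_of_sylow_center T hT h2T fun t ht => (hwH t (hx.cen t ht)).pow_right m
  have hoc : w ^ 2 ^ k ∈ center G := by
    by_contra hno
    refine h.no_odd_central hT hx hno ?_ (fun v hv => (hwH v hv).pow_right _) hsq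
    refine hm.of_dvd_nat (orderOf_dvd_of_pow_eq_one ?_)
    rw [← pow_mul, ← hkm, pow_orderOf_eq_one]
  refine hc ?_
  have hcop : Nat.Coprime (2 ^ k) m := (Nat.coprime_two_left.2 hm).pow_left k
  have e := Nat.gcd_eq_gcd_ab (2 ^ k) m
  rw [hcop.gcd_eq_one] at e
  rw [← zpow_one w, show (1 : ℤ) = ((1 : ℕ) : ℤ) from rfl, e, zpow_add, zpow_mul, zpow_mul, zpow_natCast,
    zpow_natCast]
  exact mul_mem (zpow_mem hoc _) (zpow_mem h2c _)

omit hx in
/-- the centraliser of a central involution of the quotient is the largest possible -/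
theorem Hyp.exists_max_pick : ∃ x, Pick T x ∧ ∀ y, Pick T y → Hc x ≤ Hc y → Hc y = Hc x := by
  obtain ⟨x₁, hx₁⟩ := exists_pick T (h.sylow_not_center T)
  haveI : Nonempty {y : G // Pick T y} := ⟨⟨x₁, hx₁⟩⟩
  obtain ⟨⟨x, hx⟩, hmax⟩ := Finite.exists_max fun y : {y : G // Pick T y} => Nat.card (Hc y.1)
  exact ⟨x, hx, fun y hy hle => (eq_of_le_of_card_ge hle (hmax ⟨y, hy⟩)).symm⟩

/-- the centraliser modulo the centre is solvable -/
theorem Hyp.Hc_solvable : Group.IsSolvable (Hc x) := by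
  let φ : Hc x →* center G :=
    { toFun := fun g => ⟨g.1 * x * g.1⁻¹ * x⁻¹, comm_mem_center g.2⟩
      map_one' := Subtype.ext (by simp)
      map_mul' := fun a b => Subtype.ext (by
        show (a.1 * b.1) * x * (a.1 * b.1)⁻¹ * x⁻¹ = (a.1 * x * a.1⁻¹ * x⁻¹) * (b.1 * x * b.1⁻¹ * x⁻¹)
        have hb := mem_center_iff.1 (comm_mem_center b.2)
        calc a.1 * b.1 * x * (a.1 * b.1)⁻¹ * x⁻¹
            = (a.1 * (b.1 * x * b.1⁻¹ * x⁻¹)) * (x * a.1⁻¹ * x⁻¹) := by group
          _ = (b.1 * x * b.1⁻¹ * x⁻¹) * a.1 * (x * a.1⁻¹ * x⁻¹) := by rw [hb a.1]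
          _ = (b.1 * x * b.1⁻¹ * x⁻¹) * (a.1 * x * a.1⁻¹ * x⁻¹) := by group
          _ = _ := by rw [← hb (a.1 * x * a.1⁻¹ * x⁻¹)]) }
  haveI : Group.IsSolvable φ.ker := Group.isSolvable_of_comm fun a b => Subtype.ext (Subtype.ext
    (h.cent_comm hT hx (mul_inv_eq_iff_eq_mul.1 (mul_inv_eq_one.1 (congrArg Subtype.val a.2)))
      (mul_inv_eq_iff_eq_mul.1 (mul_inv_eq_one.1 (congrArg Subtype.val b.2)))).eq)
  haveI : Group.IsSolvable (center G) :=
    Group.isSolvable_of_comm fun a b => Subtype.ext (mem_center_iff.1 b.2 a)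
  exact Group.isSolvable_of_ker_le_range φ.ker.subtype φ (by simp)

end Cfsg.Lib.MinNonCA
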