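import Cfsg.Agent.MinNonCA.Quotient
import Cfsg.Agent.MinNonCA.Witness
import Cfsg.Agent.MinNonCA.Small
import Cfsg.Agent.Classical.Misc.PSLEmbed

/-!
The non-solvable minimal non-CA-groups are among the listed groups.
-/

set_option autoImplicit false
set_option linter.unusedSectionVars false
set_option linter.style.haveILetI false

namespace Cfsg.Lib.MinNonCA

open Subgroup
open scoped MatrixGroups

universe u

variable {G : Type u} [Group G] [Finite G]

theorem Hyp.forward (h : Hyp G) :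
    ∃ (F : Type) (_ : Field F) (_ : Fintype F), Nonempty (G ≃* Matrix.ProjectiveSpecialLinearGroup (Fin 2) F) ∧
      (((Fintype.card F).Prime ∧ 5 < Fintype.card F ∧ ¬ 16 ∣ Fintype.card F ^ 2 - 1) ∨
       (∃ p : ℕ, p.Prime ∧ p ≠ 2 ∧ (Fintype.card F = 3 ^ p ∨ Fintype.card F = 5 ^ p))) := by
  classical
  obtain ⟨F, iF, iF', hq, h5, ⟨e⟩⟩ := h.small_psl h.sylow_comm
  refine ⟨F, iF, iF', ⟨e⟩, ?_⟩
  have hne5 : Fintype.card F ≠ 5 := fun h5' => h.notCA ((ca_psl_small (Or.inr h5')).of_equiv e)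
  obtain ⟨p, hchar⟩ := CharP.exists F
  haveI := hchar
  obtain ⟨k, hp, hk⟩ := FiniteField.card F p
  haveI : Fact p.Prime := ⟨hp⟩
  have hp2 : p ≠ 2 := by
    intro e2
    rw [hk, e2] at hq
    have := (Nat.even_pow.2 ⟨even_two, k.pos.ne'⟩ : Even (2 ^ (k : ℕ)))
    rw [Nat.even_iff] at this
    omega
  -- no subfield with more than five elements
  have hsub : ∀ d : ℕ, d ∣ (k : ℕ) → d < (k : ℕ) → p ^ d ≤ 5 := by
    intro d hd hdk
    by_contra hlt
    have hd0 : d ≠ 0 := fun e0 => k.pos.ne' (Nat.eq_zero_of_zero_dvd (e0 ▸ hd))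
    letI : Fintype (GaloisField p d) := Fintype.ofFinite _
    letI : Algebra (ZMod p) F := ZMod.algebra F p
    have hK : Fintype.card (GaloisField p d) = p ^ d := by rw [← Nat.card_eq_fintype_card, GaloisField.card p d hd0]
    have hF' : Module.finrank (ZMod p) F = (k : ℕ) := by
      have h1 := Module.card_eq_pow_finrank (K := ZMod p) (V := F)
      rw [ZMod.card, hk] at h1
      exact (Nat.pow_right_injective hp.two_le h1).symm
    obtain ⟨i⟩ := FiniteField.nonempty_algHom_of_finrank_dvd (F := ZMod p) (K := GaloisField p d) (L := F)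
      (by rw [GaloisField.finrank p hd0, hF']; exact hd)
    have hodd : Fintype.card (GaloisField p d) % 2 = 1 := by
      rw [hK]; exact Nat.odd_iff.1 ((hp.odd_of_ne_two hp2).pow)
    have hmod : p ^ d % 2 = 1 := hK ▸ hodd
    obtain ⟨x, a, b, y, hax, hbx, hab, hyx⟩ := exists_non_ca hodd (by rw [hK]; omega)
    set ψ := e.symm.toMonoidHom.comp (Cfsg.Lib.Classical.PSLEmbed.pslMap i.toRingHom) with hψ
    have hψi : Function.Injective ψ :=
      e.symm.injective.comp (Cfsg.Lib.Classical.PSLEmbed.pslMap_injective i.toRingHom)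
    have htop : ψ.range ≠ ⊤ := by
      intro et
      have h1 : Nat.card (Matrix.ProjectiveSpecialLinearGroup (Fin 2) (GaloisField p d)) =
          Nat.card (Matrix.ProjectiveSpecialLinearGroup (Fin 2) F) := by
        rw [← Nat.card_congr e.toEquiv, ← Subgroup.card_top (G := G), ← et]
        exact Nat.card_congr (MonoidHom.ofInjective hψi).toEquiv
      have hlt' : p ^ d < p ^ (k : ℕ) := Nat.pow_lt_pow_right hp.one_lt hdk
      have c1 := Cfsg.Lib.PSLTwoDihedral.card_P (F := GaloisField p d) hodd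
      have c2 := Cfsg.Lib.PSLTwoDihedral.card_P (F := F) (by omega)
      rw [h1, hK] at c1
      rw [hk] at c2
      have h3 : (p ^ d) * ((p ^ d) ^ 2 - 1) = (p ^ (k : ℕ)) * ((p ^ (k : ℕ)) ^ 2 - 1) := c1.symm.trans c2
      exact absurd h3 (Nat.mul_lt_mul_of_lt_of_le hlt'
        (Nat.sub_le_sub_right (Nat.pow_le_pow_left hlt'.le 2) 1)
        (Nat.sub_pos_of_lt (Nat.one_lt_pow two_ne_zero (by omega)))).ne
    refine hyx (Commute.of_map (f := ψ) hψi ?_)
    exact h.star ψ.range htop (ψ x) ⟨x, rfl⟩ (ψ a) ⟨a, rfl⟩ (ψ b) ⟨b, rfl⟩ (hax.map ψ) (hbx.map ψ)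
      (fun hc => hab (Commute.of_map (f := ψ) hψi hc)) (ψ y) ⟨y, rfl⟩
  by_cases hk1 : (k : ℕ) = 1
  · refine Or.inl ⟨by rw [hk, hk1, pow_one]; exact hp, by omega, ?_⟩
    obtain ⟨s, hs⟩ : ∃ s, Fintype.card F = 8 * s + 3 ∨ Fintype.card F = 8 * s + 5 :=
      ⟨Fintype.card F / 8, by omega⟩
    rintro ⟨t, ht⟩
    have h1 : 1 ≤ Fintype.card F ^ 2 := Nat.one_le_pow _ _ (by omega)
    rcases hs with e' | e'
    · have : Fintype.card F ^ 2 = 16 * (4 * s * s + 3 * s) + 9 := by rw [e']; ring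
      omega
    · have : Fintype.card F ^ 2 = 16 * (4 * s * s + 5 * s + 1) + 9 := by rw [e']; ring
      omega
  · have hp5 : p ≤ 5 := by simpa using hsub 1 (one_dvd _) (by have := k.pos; omega)
    have hp35 : p = 3 ∨ p = 5 := by
      have := hp.two_le
      have h4 : p ≠ 4 := fun e4 => by rw [e4] at hp; norm_num at hp
      omega
    have hkp : (k : ℕ).Prime := by
      by_contra hnp
      obtain ⟨m, hm, hm2, hmk⟩ := Nat.exists_dvd_of_not_prime2 (by have := k.pos; omega) hnp
      have h1 := hsub m hm hmk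
      have h2 := Nat.pow_le_pow_right hp.pos hm2
      have h3 : 3 ^ 2 ≤ p ^ 2 := Nat.pow_le_pow_left (by omega) 2
      omega
    have hk2 : (k : ℕ) ≠ 2 := fun e2 => by
      rw [hk, e2] at hq
      rcases hp35 with rfl | rfl <;> norm_num at hq
    refine Or.inr ⟨k, hkp, hk2, ?_⟩
    rcases hp35 with rfl | rfl
    · exact Or.inl hk
    · exact Or.inr hk

end Cfsg.Lib.MinNonCA
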