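import Cfsg.Agent.MinNonCA.Basic
import Cfsg.Agent.Components.Misc.AlperinGoldschmidtChain
import Cfsg.Agent.S0215

/-!
The centre of a non-abelian Sylow 2-subgroup is central: fusion is controlled by the centraliser, then
Glauberman's Z*-theorem.
-/

set_option autoImplicit false
set_option linter.unusedSectionVars false
set_option linter.style.haveILetI false

namespace Cfsg.Lib.MinNonCA

open Subgroup

universe u

variable {G : Type u} [Group G] [Finite G]

/-- a 2-element commuting with a Sylow 2-subgroup lies in it -/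
theorem mem_sylow_of_commute (T : Sylow 2 G) {w : G} (hw : ∃ k, orderOf w = 2 ^ k)
    (hc : ∀ t ∈ T, Commute t w) : w ∈ T := by
  haveI : Fact (Nat.Prime 2) := ⟨Nat.prime_two⟩
  obtain ⟨k, hk⟩ := hw
  have hwp : IsPGroup 2 (zpowers w) := IsPGroup.of_card (n := k) (by rw [Nat.card_zpowers, hk])
  have hle : zpowers w ≤ normalizer ((T : Subgroup G) : Set G) := by
    refine le_trans (zpowers_le.2 ?_) (centralizer_le_normalizer _)
    exact mem_centralizer_iff.2 fun t ht => (hc t ht).eq
  have hp := T.2.to_sup_of_normal_left' hwp hle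
  have heq : (T : Subgroup G) ⊔ zpowers w = T := T.3 hp le_sup_left
  show w ∈ (T : Subgroup G)
  rw [← heq]
  exact mem_sup_right (mem_zpowers w)

/-- a central element times an element of a Sylow 2-subgroup which is a 2-element lies there -/
theorem mem_sylow_of_mul_center (T : Sylow 2 G) {y c : G} (hy : y ∈ T) (hc : c ∈ center G)
    (hyc : ∃ k, orderOf (y * c) = 2 ^ k) : y * c ∈ T := by
  haveI : Fact (Nat.Prime 2) := ⟨Nat.prime_two⟩
  refine mul_mem hy (mem_sylow_of_commute T ?_ fun t _ => mem_center_iff.1 hc t)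
  obtain ⟨k, hk⟩ := hyc
  obtain ⟨j, hj⟩ := IsPGroup.iff_orderOf.1 T.2 ⟨y, hy⟩
  rw [Subgroup.orderOf_mk] at hj
  have hcomm : Commute y⁻¹ (y * c) := by
    show y⁻¹ * (y * c) = y * c * y⁻¹
    rw [inv_mul_cancel_left, mem_center_iff.1 hc y, mul_inv_cancel_right]
  have h1 : c ^ 2 ^ (j + k) = 1 := by
    have e : c = y⁻¹ * (y * c) := by group
    rw [e, hcomm.mul_pow, pow_add, inv_pow, pow_mul y, ← hj, pow_orderOf_eq_one, one_pow, inv_one, one_mul,
      mul_comm (orderOf y), pow_mul, ← hk, pow_orderOf_eq_one, one_pow]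
  obtain ⟨i, -, hi⟩ := (Nat.dvd_prime_pow Nat.prime_two).1 (orderOf_dvd_of_pow_eq_one h1)
  exact ⟨i, hi⟩

/-- an element of a Sylow 2-subgroup with square central, fused only to itself there, and centralising the
solvable normal subgroups, is central -/
theorem central_of_closed (T : Sylow 2 G) {z : G} (hzT : z ∈ T) (hz2 : z * z ∈ center G)
    (hcl : ∀ g : G, g * z * g⁻¹ ∈ T → g * z * g⁻¹ = z)
    (hM : ∀ M : Subgroup G, M.Normal → Group.IsSolvable M → ∀ m ∈ M, Commute m z) : z ∈ center G := by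
  haveI : Fact (Nat.Prime 2) := ⟨Nat.prime_two⟩
  by_contra hzc
  obtain ⟨j, hj⟩ := IsPGroup.iff_orderOf.1 T.2 ⟨z, hzT⟩
  rw [Subgroup.orderOf_mk] at hj
  set π := QuotientGroup.mk' (center G) with hπ
  have hπ2 : orderOf (π z) = 2 := by
    refine orderOf_eq_prime ?_ fun e => hzc ((QuotientGroup.eq_one_iff z).1 e)
    rw [pow_two, ← map_mul]
    exact (QuotientGroup.eq_one_iff _).2 hz2
  set S : Sylow 2 (G ⧸ center G) := T.mapSurjective (QuotientGroup.mk'_surjective (center G)) with hS
  have hzS : π z ∈ S := mem_map_of_mem π hzT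
  obtain ⟨N, hN, hNodd, hNc⟩ := Cfsg.Agent.S0215.result S (π z) hπ2 hzS (by
    intro q hq
    obtain ⟨g, rfl⟩ := QuotientGroup.mk'_surjective (center G) q
    rw [← map_inv, ← map_mul, ← map_mul] at hq ⊢
    obtain ⟨y, hy, hyz⟩ := hq
    obtain ⟨c, hc, hyc⟩ := (QuotientGroup.mk'_eq_mk' _).1 hyz
    have hmem : g * z * g⁻¹ ∈ T := by
      rw [← hyc]
      refine mem_sylow_of_mul_center T hy hc ⟨j, ?_⟩
      rw [hyc, ← hj, ← MulAut.conj_apply, MulEquiv.orderOf_eq]
    rw [hcl g hmem])
  haveI := hN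
  set M := N.comap π with hMdef
  have hMs : Group.IsSolvable M := by
    haveI : Group.IsSolvable N := Cfsg.Agent.PF.isSolvable_of_odd N hNodd
    haveI : Group.IsSolvable (center G) := Group.isSolvable_of_comm fun a b =>
      Subtype.ext (mem_center_iff.1 b.2 a)
    have hle : center G ≤ M := fun c hc => by
      show π c ∈ N
      rw [hπ, QuotientGroup.mk'_apply, (QuotientGroup.eq_one_iff c).2 hc]; exact one_mem _
    refine Group.isSolvable_of_ker_le_range (inclusion hle) (π.subgroupComap N) ?_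
    rintro ⟨x, hx⟩ hx1
    exact ⟨⟨x, (QuotientGroup.eq_one_iff x).1 (congrArg Subtype.val hx1)⟩, rfl⟩
  have hMn : M.Normal := hN.comap π
  -- `z` commutes with all its conjugates
  have hcomm : ∀ g : G, Commute z (g * z * g⁻¹) := by
    intro g
    have hm : z * g * z⁻¹ * g⁻¹ ∈ M := by
      show π (z * g * z⁻¹ * g⁻¹) ∈ N
      rw [map_mul, map_mul, map_mul, map_inv, map_inv]
      exact hNc (π g)
    have h1 := (hM M hMn hMs _ hm).symm.eq
    have h2 : g * z * g⁻¹ = (z * g * z⁻¹ * g⁻¹)⁻¹ * z := by group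
    rw [h2]
    exact (Commute.inv_right (show Commute z (z * g * z⁻¹ * g⁻¹) from h1)).mul_right (Commute.refl z)
  -- so it equals them
  refine hzc (mem_center_iff.2 fun g => ?_)
  set z' := g * z * g⁻¹ with hz'
  have hp1 : IsPGroup 2 (zpowers z) := IsPGroup.of_card (n := j) (by rw [Nat.card_zpowers, hj])
  have hp2 : IsPGroup 2 (zpowers z') := IsPGroup.of_card (n := j) (by
    rw [Nat.card_zpowers, hz', ← MulAut.conj_apply, MulEquiv.orderOf_eq, hj])
  have hle : zpowers z' ≤ normalizer (zpowers z : Set G) := by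
    refine le_trans (zpowers_le.2 ?_) (centralizer_le_normalizer _)
    rw [zpowers_eq_closure, centralizer_closure, mem_centralizer_singleton_iff]
    exact (hcomm g).eq.symm
  obtain ⟨Q, hQ⟩ := (hp1.to_sup_of_normal_left' hp2 hle).exists_le_sylow
  obtain ⟨c, hcQ⟩ := MulAction.exists_smul_eq G Q T
  have key : ∀ x ∈ (Q : Subgroup G), c * x * c⁻¹ ∈ T := fun x hx => by
    show c * x * c⁻¹ ∈ (T : Subgroup G)
    rw [← hcQ]
    exact Subgroup.smul_mem_pointwise_smul x (MulAut.conj c) _ hx
  have e1 := hcl c (key z (hQ (mem_sup_left (mem_zpowers z))))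
  have e2 := key z' (hQ (mem_sup_right (mem_zpowers z')))
  have e3 : c * (g * z * g⁻¹) * c⁻¹ = c * z * c⁻¹ := by
    rw [show c * (g * z * g⁻¹) * c⁻¹ = (c * g) * z * (c * g)⁻¹ by group] at e2 ⊢
    rw [hcl (c * g) e2, e1]
  have e4 := mul_left_cancel (mul_right_cancel e3)
  calc g * z = g * z * g⁻¹ * g := by group
    _ = z * g := by rw [e4]

/-- the fusion of a non-central element of the centre of a non-abelian Sylow 2-subgroup -/
theorem Hyp.closed_of_nonabelian (h : Hyp G) (T : Sylow 2 G)
    (hT : ∃ a ∈ T, ∃ b ∈ T, ¬ Commute a b) {z : G} (hzT : z ∈ T) (hz : ∀ t ∈ T, Commute t z)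
    (hzc : z ∉ center G) (g : G) (hg : g * z * g⁻¹ ∈ T) : g * z * g⁻¹ = z := by
  haveI : Fact (Nat.Prime 2) := ⟨Nat.prime_two⟩
  open Cfsg.Lib.Misc.AGChain Cfsg.Lib.SolvStruct.Alperin in
  -- the local subgroups of good subgroups fix `z`
  have hloc : ∀ D : Subgroup G, Good T D → z ∈ D → ∀ x ∈ normalizer (D : Set G), Commute x z := by
    intro D hD hzD
    obtain ⟨hDT, hCD, ⟨hO, hDO, hcomm, hinf, hsup⟩, -⟩ := hD
    -- the centraliser in `T` is inside
    have hCT : ∀ c ∈ T, (∀ d ∈ D, Commute d c) → c ∈ D := by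
      intro c hc hcd
      have h1 := hCD (mem_centralizer_iff.2 fun d hd => (hcd d hd).eq)
      set O := (Cfsg.pPrimeCore 2 ↥(normalizer (D : Set G))).map (normalizer (D : Set G)).subtype with hOdef
      rw [← hsup] at h1
      obtain ⟨o, ho, d, hd, rfl⟩ := (Cfsg.Lib.Coprime.mem_sup_of_le_normalizer (show D ≤ normalizer (O : Set G) from fun e he => by
        refine le_trans ?_ (centralizer_le_normalizer (O : Set G)) he
        intro e he
        exact mem_centralizer_iff.2 fun o ho => hcomm o ho e he)).1 h1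
      obtain ⟨i, hi⟩ := IsPGroup.iff_orderOf.1 T.2 ⟨o * d, hc⟩
      obtain ⟨j, hj⟩ := IsPGroup.iff_orderOf.1 T.2 ⟨d, hDT hd⟩
      rw [Subgroup.orderOf_mk] at hi hj
      have hod : Commute o d := hcomm o ho d hd
      have hoo : o ^ 2 ^ (i + j) = 1 := by
        have e : o = o * d * d⁻¹ := by group
        have hc2 : Commute (o * d) d⁻¹ :=
          ((hod.symm.mul_right (Commute.refl d)).symm).inv_right
        have e1 : (o * d) ^ 2 ^ (i + j) = 1 := by
          rw [pow_add, pow_mul, ← hi, pow_orderOf_eq_one, one_pow]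
        have e2 : d ^ 2 ^ (i + j) = 1 := by
          rw [add_comm, pow_add, pow_mul, ← hj, pow_orderOf_eq_one, one_pow]
        rw [e, hc2.mul_pow, inv_pow, e1, e2, inv_one, one_mul]
      have hodd : Odd (orderOf o) := by
        obtain ⟨o', ho', rfl⟩ := ho
        rw [show orderOf ((normalizer (D : Set G)).subtype o') = orderOf o' from
          orderOf_injective _ (normalizer (D : Set G)).subtype_injective o']
        exact (Nat.coprime_two_right.1 (Cfsg.Lib.Components.coprime_card_pPrimeCore 2)).of_dvd_nat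
          (Subgroup.orderOf_dvd_natCard _ ho')
      have h1' : orderOf o = 1 := Nat.eq_one_of_dvd_coprimes
        ((Nat.coprime_two_left.2 hodd).pow_left (i + j)) (orderOf_dvd_of_pow_eq_one hoo) dvd_rfl
      rw [orderOf_eq_one_iff.1 h1', one_mul]
      exact hd
    by_cases hN : normalizer (D : Set G) = ⊤
    · exfalso
      haveI : D.Normal := normalizer_eq_top_iff.1 hN
      haveI : (centralizer (D : Set G)).Normal := normal_centralizer
      refine hzc (h.central_of_fixed (D ⊓ centralizer (D : Set G))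
        (fun a ha b hb => (mem_centralizer_iff.1 hb.2 a ha.1)) T ?_ hz)
      exact ⟨hzD, mem_centralizer_iff.2 fun d hd => (hz d (hDT hd)).eq⟩
    · -- a non-commuting pair of `N_T(D)`
      obtain ⟨a, ⟨haT, haN⟩, b, ⟨hbT, hbN⟩, hab⟩ : ∃ a ∈ (T : Subgroup G) ⊓ normalizer (D : Set G),
          ∃ b ∈ (T : Subgroup G) ⊓ normalizer (D : Set G), ¬ Commute a b := by
        by_contra hc
        push Not at hc
        have heq : (T : Subgroup G) ⊓ normalizer (D : Set G) = D := le_antisymm
          (fun c hc' => hCT c hc'.1 fun d hd => hc d ⟨hDT hd, le_normalizer hd⟩ c hc') (le_inf hDT le_normalizer)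
        by_cases hDeq : D = (T : Subgroup G)
        · subst hDeq
          obtain ⟨a, ha, b, hb, hab⟩ := hT
          exact hab (hc a ⟨ha, le_normalizer ha⟩ b ⟨hb, le_normalizer hb⟩)
        · haveI : Group.IsNilpotent (T : Subgroup G) := T.2.isNilpotent
          have hlt : D.subgroupOf (T : Subgroup G) < ⊤ := lt_top_iff_ne_top.2 fun e =>
            hDeq (le_antisymm hDT (subgroupOf_eq_top.1 e))
          obtain ⟨c, hc1, hc2⟩ := SetLike.exists_of_lt (Group.normalizerCondition_of_isNilpotent _ hlt)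
          refine hc2 (mem_subgroupOf.2 ?_)
          rw [← heq]
          refine ⟨c.2, mem_normalizer_iff.2 fun d => ?_⟩
          have h1 := mem_normalizer_iff.1 hc1
          constructor
          · intro hd
            exact (h1 ⟨d, hDT hd⟩).1 hd
          · intro hd
            have hdT : d ∈ (T : Subgroup G) := by
              have := mul_mem (mul_mem (inv_mem c.2) (hDT hd)) c.2
              simpa [mul_assoc] using this
            exact (h1 ⟨d, hdT⟩).2 hd
      exact h.star _ hN z (le_normalizer hzD) a haN b hbN (hz a haT) (hz b hbT) hab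
  -- run along a chain
  open Cfsg.Lib.Misc.AGChain Cfsg.Lib.SolvStruct.Alperin in
  have hchain : ∀ (A : Set G) (k : G), AG T A k → A = {z} → Commute k z := by
    intro A k hk
    induction hk with
    | last A D x hA hD hx =>
      intro hAz
      exact hloc D hD (hA (by rw [hAz]; rfl)) x hx
    | cons A D x k hA hD hx _ ih =>
      intro hAz
      have hxz : Commute x z := hloc D hD (hA (by rw [hAz]; rfl)) x hx
      refine hxz.mul_left (ih ?_)
      rw [hAz, cj, Set.image_singleton, mul_assoc, ← hxz.eq, inv_mul_cancel_left]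
  open Cfsg.Lib.Misc.AGChain Cfsg.Lib.SolvStruct.Alperin in
  have hgc : GC T {z} g⁻¹ := exists_gc T _ _ _ (Set.singleton_subset_iff.2 hzT) le_rfl (by
    rw [cj, Set.image_singleton, inv_inv]
    exact Set.singleton_subset_iff.2 hg)
  obtain ⟨c, hc, k, hk, hck⟩ := hgc
  have hgz : Commute g⁻¹ z := by
    rw [hck]
    exact Commute.mul_left (mem_centralizer_iff.1 hc z rfl).symm (hchain _ _ hk rfl)
  exact mul_inv_eq_iff_eq_mul.2 (show Commute g z by simpa using hgz.inv_left).eq

/-- the centre of a non-abelian Sylow 2-subgroup is central -/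
theorem Hyp.central_of_sylow_center (h : Hyp G) (T : Sylow 2 G)
    (hT : ∃ a ∈ T, ∃ b ∈ T, ¬ Commute a b) {z : G} (hzT : z ∈ T) (hz : ∀ t ∈ T, Commute t z) :
    z ∈ center G := by
  classical
  haveI : Fact (Nat.Prime 2) := ⟨Nat.prime_two⟩
  by_contra hzc
  obtain ⟨w, hw, hwc, hw2⟩ := exists_sq_mem (K := center G) (S := zpowers z)
    (T.2.to_le (zpowers_le.2 hzT)) (fun hle => hzc (hle (mem_zpowers z)))
  obtain ⟨i, rfl⟩ := mem_zpowers_iff.1 hw
  have hwT : z ^ i ∈ T := zpow_mem hzT i
  have hwz : ∀ t ∈ T, Commute t (z ^ i) := fun t ht => (hz t ht).zpow_right i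
  refine hwc (central_of_closed T hwT hw2 (h.closed_of_nonabelian T hT hwT hwz hwc) fun M hMn hMs => ?_)
  intro m hm
  haveI := hMn
  obtain ⟨a, ha, b, hb, hab⟩ := hT
  have hs : Group.IsSolvable ↥(M ⊔ (T : Subgroup G)) := solvable_sup hMs (GenDihedral.solvable_of_two T.2)
  exact h.star _ (h.ne_top hs) (z ^ i) (mem_sup_right hwT) a (mem_sup_right ha) b (mem_sup_right hb)
    (hwz a ha) (hwz b hb) hab m (mem_sup_left hm)

end Cfsg.Lib.MinNonCA
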