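import Cfsg.Agent.MinNonCA.DGroup

/-!
The Sylow 2-subgroups are abelian.
-/

set_option autoImplicit false
set_option linter.unusedSectionVars false
set_option linter.style.haveILetI false

namespace Cfsg.Lib.MinNonCA

open Subgroup Cfsg.Lib.GLTwo
open scoped MatrixGroups

universe u

variable {G : Type u} [Group G] [Finite G] (h : Hyp G)
include h

/-- an element with non-abelian centraliser commutes with everything commuting with it modulo the centre -/
theorem Hyp.full {y a b : G} (hy : y ∉ center G) (ha : Commute a y) (hb : Commute b y) (hab : ¬ Commute a b)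
    {g : G} (hg : g ∈ Hc y) : Commute g y :=
  h.star _ (h.Hc_ne_top hy) y (self_mem_Hc y) a (mem_Hc_of_commute ha) b (mem_Hc_of_commute hb) ha hb hab g hg

variable {T : Sylow 2 G} (hT : ∃ a ∈ T, ∃ b ∈ T, ¬ Commute a b)
include hT

theorem Hyp.exists_model {x : G} (hx : Pick T x) (hmax : ∀ y, Pick T y → Hc x ≤ Hc y → Hc y = Hc x) :
    ∃ (F : Type) (_ : Field F) (_ : Fintype F), Nonempty (Model (G ⧸ center G) F) := by
  classical
  haveI : Fact (Nat.Prime 2) := ⟨Nat.prime_two⟩
  set S : Sylow 2 (G ⧸ center G) := T.mapSurjective (QuotientGroup.mk'_surjective (center G)) with hS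
  obtain ⟨t₀, ht₀, ht₀x⟩ := h.exists_moved hT hx
  have ord2 : ∀ {y : G}, y ∉ center G → y * y ∈ center G → orderOf (pz G y) = 2 := fun hy hy2 =>
    orderOf_eq_prime (by rw [pow_two, ← map_mul, pz_eq_one]; exact hy2) fun e => hy (pz_eq_one.1 e)
  set H : Subgroup (G ⧸ center G) := centralizer ({pz G x} : Set (G ⧸ center G)) with hH
  set A : Subgroup (G ⧸ center G) := (centralizer ({x} : Set G)).map (pz G) with hA
  have memH : ∀ {g : G}, pz G g ∈ H ↔ g ∈ Hc x := Iff.rfl
  have memA : ∀ {g : G}, pz G g ∈ A → Commute g x := by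
    rintro g ⟨k, hk, hkg⟩
    obtain ⟨c, hc, rfl⟩ := (QuotientGroup.mk'_eq_mk' _).1 hkg
    exact (show Commute k x from mem_centralizer_singleton_iff.1 hk).mul_left (mem_center_iff.1 hc x).symm
  have hAH : A < H := by
    refine lt_of_le_of_ne ?_ fun e => ht₀x (memA (e ▸ memH.2 (hx.cen t₀ ht₀)))
    rintro _ ⟨k, hk, rfl⟩
    exact memH.2 (mem_Hc_of_commute (mem_centralizer_singleton_iff.1 hk))
  have hD : ∀ q ∈ H, q ∉ A → q ^ 2 = 1 := by
    intro q hq hqA
    obtain ⟨g, rfl⟩ := QuotientGroup.mk'_surjective (center G) q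
    rw [pow_two, ← map_mul, pz_eq_one]
    exact h.sq_central hT hx (memH.1 hq) fun hc =>
      hqA (mem_map_of_mem _ (mem_centralizer_singleton_iff.2 hc.eq))
  have hSH : (S : Subgroup (G ⧸ center G)) ≤ H := by
    rintro _ ⟨t, ht, rfl⟩
    exact memH.2 (hx.cen t ht)
  have h4 : 4 ∣ Nat.card H := by
    refine dvd_trans ?_ (card_dvd_of_le hSH)
    obtain ⟨n, hn⟩ := IsPGroup.iff_card.1 S.2
    rcases n with _ | _ | n
    · exfalso
      have h1 := Subgroup.card_eq_one.1 (hn.trans (pow_zero 2))
      have h2 : pz G x ∈ (S : Subgroup (G ⧸ center G)) := mem_map_of_mem _ hx.mem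
      rw [h1, mem_bot] at h2
      exact hx.ne (pz_eq_one.1 h2)
    · exfalso
      haveI : Fact (Nat.card (S : Subgroup (G ⧸ center G))).Prime := ⟨by rw [hn]; exact Nat.prime_two⟩
      have h2 : pz G x ∈ (S : Subgroup (G ⧸ center G)) := mem_map_of_mem _ hx.mem
      have h3 : pz G t₀ ∈ (S : Subgroup (G ⧸ center G)) := mem_map_of_mem _ ht₀
      have htop := zpowers_eq_top_of_prime_card (G := (S : Subgroup (G ⧸ center G))) (p := 2)
        (by rw [hn, pow_one]) (g := ⟨_, h2⟩) fun e => hx.ne (pz_eq_one.1 (congrArg Subtype.val e))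
      obtain ⟨i, hi⟩ := mem_zpowers_iff.1 (htop ▸ mem_top (⟨_, h3⟩ : (S : Subgroup (G ⧸ center G))))
      have hi' : (pz G x) ^ i = pz G t₀ := by simpa using congrArg Subtype.val hi
      rw [← map_zpow] at hi'
      obtain ⟨c, hc, hic⟩ := (QuotientGroup.mk'_eq_mk' _).1 hi'
      exact ht₀x (hic ▸ ((Commute.refl x).zpow_left i).mul_left (mem_center_iff.1 hc x).symm)
    · exact ⟨2 ^ n, by rw [hn]; ring⟩
  have hC : ∀ j ∈ H, orderOf j = 2 → (∀ k ∈ H, k * j = j * k) → centralizer ({j} : Set _) = H := by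
    intro j hj hj2 hjc
    have hjS : j ∈ S := mem_sylow_of_commute S ⟨1, by rw [hj2, pow_one]⟩ fun s hs => hjc s (hSH hs)
    obtain ⟨y, hy, rfl⟩ := hjS
    have hpy : Pick T y := by
      refine ⟨hy, fun e => ?_, ?_, fun t ht => mem_Hc.2 (hjc _ (memH.2 (hx.cen t ht)))⟩
      · rw [pz_eq_one.2 e, orderOf_one] at hj2; omega
      · rw [← pz_eq_one, map_mul, ← pow_two, ← hj2, pow_orderOf_eq_one]
    have hle : Hc x ≤ Hc y := fun g hg => mem_Hc.2 (hjc _ (memH.2 hg))
    refine SetLike.ext fun q => ?_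
    obtain ⟨g, rfl⟩ := QuotientGroup.mk'_surjective (center G) q
    exact SetLike.ext_iff.1 (hmax y hpy hle) g
  obtain ⟨N, hN, hNc, F, iF, iF', hF3, hiso⟩ := GenDihedral.main H A hAH hD h4 hC h.quot_ns
  haveI := hN
  have hN4 : ¬ 4 ∣ Nat.card N := by
    rcases hNc with ho | ⟨m, hm, he⟩
    · exact fun h4 => Nat.not_even_iff_odd.2 ho (even_iff_two_dvd.2 (dvd_trans (by norm_num) h4))
    · rw [he]
      rintro ⟨k, hk⟩
      exact Nat.not_even_iff_odd.2 hm ⟨k, by omega⟩
  have hNs : Group.IsSolvable N := GenDihedral.solvable_subgroup_not_four N hN4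
  -- a model of the quotient
  obtain ⟨P⟩ : Nonempty (Model ((G ⧸ center G) ⧸ N) F) := by
    rcases hiso with ⟨⟨e⟩⟩ | ⟨⟨e⟩⟩
    · exact ⟨{
        ι := Matrix.ProjectiveSpecialLinearGroup.toPGL.comp e.toMonoidHom
        inj := Matrix.ProjectiveSpecialLinearGroup.toPGL_injective.comp e.injective
        card := hF3
        special := fun s => ⟨e.symm (QuotientGroup.mk' _ s), by simp⟩
        cases := Or.inr (Nat.card_congr e.toEquiv) }⟩
    · exact ⟨{
        ι := e.toMonoidHom
        inj := e.injective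
        card := hF3
        special := fun s => ⟨e.symm _, e.apply_symm_apply _⟩
        cases := Or.inl e.surjective }⟩
  -- solvable normal subgroups lie in `N`
  have hrad : ∀ D : Subgroup G, D.Normal → Group.IsSolvable D → ∀ d ∈ D, pz G d ∈ N := by
    intro D hD hDs d hd
    set π₂ := (QuotientGroup.mk' N).comp (pz G) with hπ₂
    have hsurj : Function.Surjective π₂ :=
      (QuotientGroup.mk'_surjective N).comp (QuotientGroup.mk'_surjective (center G))
    haveI := hD.map π₂ hsurj
    haveI := hDs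
    have := P.solvable_normal_bot (D.map π₂)
      (Group.isSolvable_of_surjective (π₂.subgroupMap_surjective D))
    have h1 : π₂ d ∈ D.map π₂ := mem_map_of_mem _ hd
    rw [this, mem_bot] at h1
    exact (QuotientGroup.eq_one_iff _).1 h1
  -- `N` has odd order
  have hNodd : Odd (Nat.card N) := by
    rw [← Nat.not_even_iff_odd]
    intro hev
    obtain ⟨⟨u, hu⟩, hu2⟩ := exists_prime_orderOf_dvd_card' 2 hev.two_dvd
    rw [Subgroup.orderOf_mk] at hu2
    obtain ⟨R, hR⟩ := (IsPGroup.of_card (p := 2) (n := 1)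
      (by rw [Nat.card_zpowers, hu2, pow_one]) : IsPGroup 2 (zpowers u)).exists_le_sylow
    obtain ⟨c, hc⟩ := MulAction.exists_smul_eq (G ⧸ center G) R S
    set w := c * u * c⁻¹ with hw
    have hwS : w ∈ (S : Subgroup (G ⧸ center G)) := by
      rw [← hc, Sylow.coe_subgroup_smul]
      exact Subgroup.smul_mem_pointwise_smul u (MulAut.conj c) _ (hR (mem_zpowers u))
    have hwN : w ∈ N := hN.conj_mem u hu c
    have hw2 : orderOf w = 2 := by rw [hw, ← MulAut.conj_apply, MulEquiv.orderOf_eq, hu2]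
    have hzw : ∀ v ∈ (S : Subgroup (G ⧸ center G)) ⊓ N, v ∈ zpowers w := by
      intro v hv
      have hle : zpowers w ≤ (S : Subgroup (G ⧸ center G)) ⊓ N := zpowers_le.2 ⟨hwS, hwN⟩
      refine (eq_of_le_of_card_ge hle ?_).ge hv
      rw [Nat.card_zpowers, hw2]
      obtain ⟨n, hn⟩ := IsPGroup.iff_card.1
        (S.2.to_le (inf_le_left : (S : Subgroup (G ⧸ center G)) ⊓ N ≤ S))
      have hd := card_dvd_of_le (inf_le_right : (S : Subgroup (G ⧸ center G)) ⊓ N ≤ N)
      rw [hn] at hd ⊢
      rcases n with _ | _ | n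
      · norm_num
      · norm_num
      · exact absurd (dvd_trans ⟨2 ^ n, by ring⟩ hd) hN4
    have hz2 : ∀ v ∈ zpowers w, v = 1 ∨ v = w := by
      intro v hv
      rw [mem_zpowers_iff] at hv
      obtain ⟨i, rfl⟩ := hv
      rw [← zpow_mod_orderOf, hw2]
      rcases Int.emod_two_eq_zero_or_one i with e | e <;> rw [show ((2 : ℕ) : ℤ) = 2 from rfl, e] <;> simp
    obtain ⟨y, hy, hyw⟩ := hwS
    have hyp : Pick T y := by
      refine ⟨hy, fun e => ?_, ?_, fun t ht => mem_Hc.2 ?_⟩
      · rw [← hyw, pz_eq_one.2 e, orderOf_one] at hw2; omega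
      · rw [← pz_eq_one, map_mul, hyw, ← pow_two, ← hw2, pow_orderOf_eq_one]
      · rw [hyw]
        have ht' : pz G t ∈ (S : Subgroup (G ⧸ center G)) := mem_map_of_mem _ ht
        have hwS' : w ∈ (S : Subgroup (G ⧸ center G)) := ⟨y, hy, hyw⟩
        rcases hz2 (pz G t * w * (pz G t)⁻¹) (hzw _ (mem_inf.2 ⟨mul_mem (mul_mem ht' hwS') (inv_mem ht'), hN.conj_mem w hwN _⟩)) with e | e
        · exfalso
          rw [← MulAut.conj_apply, ← map_one (MulAut.conj (pz G t))] at e
          rw [(MulAut.conj (pz G t)).injective e, orderOf_one] at hw2; omega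
        · exact mul_inv_eq_iff_eq_mul.1 e
    -- Frattini
    have hgen : ∀ q : G ⧸ center G, ∃ n ∈ N, n * q ∈ centralizer ({w} : Set (G ⧸ center G)) := by
      intro q
      have hq : q * w * q⁻¹ ∈ N := hN.conj_mem w hwN q
      set w₀ : N := ⟨w, hwN⟩
      set w₁ : N := ⟨_, hq⟩
      have hcard : ∀ v : N, orderOf v = 2 → Nat.card (zpowers v) = 2 ^ (Nat.card N).factorization 2 := by
        intro v hv
        rw [Nat.card_zpowers, hv]
        have h1 : (Nat.card N).factorization 2 = 1 := by
          refine le_antisymm ?_ ((Nat.prime_two.dvd_iff_one_le_factorization Nat.card_pos.ne').1 hev.two_dvd)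
          by_contra hlt
          exact hN4 ((Nat.prime_two.pow_dvd_iff_le_factorization Nat.card_pos.ne').2 (show 2 ≤ _ by omega))
        rw [h1, pow_one]
      have ho0 : orderOf w₀ = 2 := by rw [Subgroup.orderOf_mk, hw2]
      have ho1 : orderOf w₁ = 2 := by rw [Subgroup.orderOf_mk, ← MulAut.conj_apply, MulEquiv.orderOf_eq, hw2]
      obtain ⟨n, hn⟩ := MulAction.exists_smul_eq N (Sylow.ofCard (zpowers w₁) (hcard w₁ ho1))
        (Sylow.ofCard (zpowers w₀) (hcard w₀ ho0))
      refine ⟨n, n.2, mem_centralizer_singleton_iff.2 ?_⟩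
      have hmem : n * w₁ * n⁻¹ ∈ zpowers w₀ := by
        have h1 : n * w₁ * n⁻¹ ∈ ((n • Sylow.ofCard (zpowers w₁) (hcard w₁ ho1) : Sylow 2 N) : Subgroup N) := by
          rw [Sylow.coe_subgroup_smul, Sylow.coe_ofCard]
          exact Subgroup.smul_mem_pointwise_smul _ (MulAut.conj n) _ (mem_zpowers _)
        rwa [hn, Sylow.coe_ofCard] at h1
      obtain ⟨i, hi⟩ := mem_zpowers_iff.1 hmem
      have hi' : w ^ i = n * (q * w * q⁻¹) * (n : G ⧸ center G)⁻¹ := by
        simpa using congrArg Subtype.val hi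
      rcases hz2 _ (show n * (q * w * q⁻¹) * (n : G ⧸ center G)⁻¹ ∈ zpowers w from ⟨i, hi'⟩) with e | e
      · exfalso
        have : w = 1 := by
          calc w = q⁻¹ * (n : G ⧸ center G)⁻¹ * (n * (q * w * q⁻¹) * (n : G ⧸ center G)⁻¹) * n * q := by group
            _ = 1 := by rw [e]; group
        rw [this, orderOf_one] at hw2; omega
      · refine mul_inv_eq_iff_eq_mul.1 ?_
        refine Eq.trans ?_ e
        group
    haveI hHs : Group.IsSolvable (Hc y) := h.Hc_solvable hT hyp
    have hcs : Group.IsSolvable (centralizer ({w} : Set (G ⧸ center G))) := by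
      rw [← hyw]
      refine Group.isSolvable_of_surjective (G := Hc y)
        (f := (pz G).subgroupComap (centralizer ({pz G y} : Set (G ⧸ center G)))) ?_
      intro q
      obtain ⟨g, hg⟩ := QuotientGroup.mk'_surjective (center G) q.1
      exact ⟨⟨g, show pz G g ∈ _ by rw [show pz G g = q.1 from hg]; exact q.2⟩, Subtype.ext hg⟩
    refine h.quot_ns (GenDihedral.solvable_ext N hNs ?_)
    haveI := hcs
    refine Group.isSolvable_of_surjective
      (f := (QuotientGroup.mk' N).comp (centralizer ({w} : Set (G ⧸ center G))).subtype) fun r => ?_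
    obtain ⟨q, rfl⟩ := QuotientGroup.mk'_surjective N r
    obtain ⟨n, hn, hnq⟩ := hgen q
    refine ⟨⟨_, hnq⟩, ?_⟩
    show QuotientGroup.mk' N (n * q) = QuotientGroup.mk' N q
    rw [map_mul, show QuotientGroup.mk' N n = 1 from (QuotientGroup.eq_one_iff n).2 hn, one_mul]
  -- so the radical is central
  have hdeep : ∀ y : G, y ∉ center G → y * y ∈ center G → Deep y := by
    intro y hy hy2 hs
    have h1 := Subgroup.orderOf_dvd_natCard N (hrad _ inferInstance hs y (subset_normalClosure rfl))
    rw [ord2 hy hy2] at h1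
    exact Nat.not_even_iff_odd.2 hNodd (even_iff_two_dvd.2 h1)
  have ht0c : t₀ ∉ center G := fun e => ht₀x (mem_center_iff.1 e x).symm
  have ht02 := h.sq_central hT hx (hx.cen t₀ ht₀) ht₀x
  have hxt : x * t₀ ∉ center G := fun e => ht₀x (by
    have h1 : Commute (x * t₀) x := (mem_center_iff.1 e x).symm
    have := (Commute.refl x).inv_left.mul_left h1
    rwa [inv_mul_cancel_left] at this)
  have hxt2 : x * t₀ * (x * t₀) ∈ center G := by
    rw [← pz_eq_one, map_mul, map_mul,
      show pz G x * pz G t₀ * (pz G x * pz G t₀) = pz G x * (pz G t₀ * pz G x) * pz G t₀ by group,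
      (mem_Hc.1 (hx.cen t₀ ht₀)).eq,
      show pz G x * (pz G x * pz G t₀) * pz G t₀ = (pz G x * pz G x) * (pz G t₀ * pz G t₀) by group,
      ← map_mul, ← map_mul, pz_eq_one.2 hx.sq, pz_eq_one.2 ht02, one_mul]
  have hcl : ∀ (D : Subgroup G) {c : G}, c ∈ center G → c ∈ centralizer (D : Set G) := fun D c hc =>
    mem_centralizer_iff.2 fun d _ => mem_center_iff.1 hc d
  have hpair : ∀ D : Subgroup G, D.Normal → Group.IsSolvable (centralizer (D : Set G)) → Pair D :=
    fun D _ _ => ⟨x, t₀, hdeep x hx.ne hx.sq, hdeep t₀ ht0c ht02, hdeep _ hxt hxt2, hcl D hx.sq, hcl D ht02,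
      hcl D hxt2⟩
  have hoddD : ∀ D : Subgroup G, D.Normal → Group.IsSolvable D →
      (∀ a ∈ D, ∀ b ∈ D, a * b * a⁻¹ * b⁻¹ ∈ center G) → ∀ d ∈ D, ∃ n : ℕ, Odd n ∧ d ^ n ∈ center G := by
    intro D hD hDs _ d hd
    refine ⟨Nat.card N, hNodd, ?_⟩
    rw [← pz_eq_one, map_pow]
    exact orderOf_dvd_iff_pow_eq_one.1 (Subgroup.orderOf_dvd_natCard N (hrad D hD hDs d hd))
  have hNbot : N = ⊥ := by
    set M := N.comap (pz G) with hM
    haveI : M.Normal := hN.comap _
    have hMs : Group.IsSolvable M := by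
      haveI := hNs
      haveI : Group.IsSolvable (center G) :=
        Group.isSolvable_of_comm fun a b => Subtype.ext (mem_center_iff.1 b.2 a)
      have hle : center G ≤ M := fun c hc => by
        show pz G c ∈ N
        rw [pz_eq_one.2 hc]; exact one_mem _
      refine Group.isSolvable_of_ker_le_range (inclusion hle) ((pz G).subgroupComap N) ?_
      rintro ⟨g, hg⟩ hg1
      exact ⟨⟨g, pz_eq_one.1 (congrArg Subtype.val hg1)⟩, rfl⟩
    have hle := h.solvable_central hpair hoddD M hMs
    rw [eq_bot_iff]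
    intro q hq
    obtain ⟨g, rfl⟩ := QuotientGroup.mk'_surjective (center G) q
    rw [mem_bot]
    exact pz_eq_one.2 (hle hq)
  let eb : ((G ⧸ center G) ⧸ N) ≃* G ⧸ center G :=
    (QuotientGroup.quotientMulEquivOfEq hNbot).trans QuotientGroup.quotientBot
  refine ⟨F, iF, iF', ⟨{
    ι := P.ι.comp eb.symm.toMonoidHom
    inj := P.inj.comp eb.symm.injective
    card := P.card
    special := fun s => ?_
    cases := ?_ }⟩⟩
  · obtain ⟨q, hq⟩ := P.special s
    exact ⟨eb q, by simpa using hq⟩
  · rcases P.cases with hs | hc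
    · exact Or.inl (hs.comp eb.symm.surjective)
    · exact Or.inr ((Nat.card_congr eb.symm.toEquiv).trans hc)

omit hT in
/-- the Sylow 2-subgroups are abelian -/
theorem Hyp.sylow_comm (T : Sylow 2 G) : ∀ a ∈ T, ∀ b ∈ T, Commute a b := by
  classical
  haveI : Fact (Nat.Prime 2) := ⟨Nat.prime_two⟩
  by_contra hcon
  push Not at hcon
  obtain ⟨a₀, ha₀, b₀, hb₀, hab₀⟩ := hcon
  have hT : ∃ a ∈ T, ∃ b ∈ T, ¬ Commute a b := ⟨a₀, ha₀, b₀, hb₀, hab₀⟩
  obtain ⟨x, hx, hmax⟩ := h.exists_max_pick hT
  obtain ⟨F, _, _, ⟨P⟩⟩ := h.exists_model hT hx hmax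
  obtain ⟨u, hu, a, b, ha, hb, hab⟩ : ∃ u, u ∉ center G ∧ ∃ a b, Commute a u ∧ Commute b u ∧ ¬ Commute a b := by
    by_contra hc
    push Not at hc
    exact h.notCA fun u hu a b ha hb => hc u hu a b ha hb
  have hne1 : ∀ {g : G}, g ∉ center G → P.ι (pz G g) ≠ 1 := fun {g} hg e =>
    hg (pz_eq_one.1 (P.inj (e.trans P.ι.map_one.symm)))
  by_cases hu2 : pz G u * pz G u = 1
  swap
  · -- not an involution: its centraliser is not maximal
    obtain ⟨U, hU⟩ := Matrix.ProjGenLinGroup.mk_surjective (P.ι (pz G u))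
    have hU1 : pm U ≠ 1 := by rw [pm, hU]; exact hne1 hu
    have hU2 : pm U * pm U ≠ 1 := by
      rw [pm, hU, ← map_mul]
      exact fun e => hu2 (P.inj (e.trans P.ι.map_one.symm))
    obtain ⟨s, hs1, hs2⟩ := exists_mover P.card hU1 hU2
    obtain ⟨σ, hσ⟩ := P.special s
    obtain ⟨g, rfl⟩ := QuotientGroup.mk'_surjective (center G) σ
    have hgu : P.ι (pz G g * pz G u * (pz G g)⁻¹) =
        pm (Matrix.SpecialLinearGroup.toGL s * U * (Matrix.SpecialLinearGroup.toGL s)⁻¹) := by
      rw [map_mul, map_mul, map_inv, map_mul, map_mul, map_inv]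
      exact congrArg₂ (· * ·) (congrArg₂ (· * ·) hσ hU.symm) (congrArg (·⁻¹) hσ)
    set u' := pz G g * pz G u * (pz G g)⁻¹ with hu'
    set C := centralizer ({pz G u} : Set (G ⧸ center G)) with hC
    have inj' : ∀ {p q : G ⧸ center G}, Commute (P.ι p) (P.ι q) → Commute p q := fun {p q} hpq =>
      P.inj (by rw [map_mul, map_mul]; exact hpq)
    have hCc : ∀ {p q : G ⧸ center G}, p ∈ C → q ∈ C → Commute p q := by
      intro p q hp hq
      obtain ⟨B, hB⟩ := Matrix.ProjGenLinGroup.mk_surjective (P.ι p)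
      obtain ⟨D, hD⟩ := Matrix.ProjGenLinGroup.mk_surjective (P.ι q)
      apply inj'
      rw [← hB, ← hD]
      refine pgl_cent_comm (A := U) hU1 (Or.inl hU2) ?_ ?_
      · rw [pm, hB, hU]; exact (show Commute p (pz G u) from mem_centralizer_singleton_iff.1 hp).map P.ι
      · rw [pm, hD, hU]; exact (show Commute q (pz G u) from mem_centralizer_singleton_iff.1 hq).map P.ι
    have hu'C : u' ∈ C := by
      refine mem_centralizer_singleton_iff.2 (inj' ?_).eq
      rw [hgu, ← hU]; exact hs1
    have huC : pz G u ∈ C := mem_centralizer_singleton_iff.2 rfl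
    have hCu' : ∀ q, Commute q u' → q ∈ C := by
      intro q hq
      obtain ⟨B, hB⟩ := Matrix.ProjGenLinGroup.mk_surjective (P.ι q)
      refine mem_centralizer_singleton_iff.2 (inj' ?_).eq
      rw [← hB, ← hU]
      refine pgl_cent_comm (A := Matrix.SpecialLinearGroup.toGL s * U * (Matrix.SpecialLinearGroup.toGL s)⁻¹)
        ?_ (Or.inl ?_) ?_ hs1.symm
      · rw [map_mul, map_mul, map_inv]
        intro e
        exact hU1 (conj_eq_one_iff.1 e)
      · rw [map_mul, map_mul, map_inv]
        intro e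
        refine hU2 (conj_eq_one_iff (a := pm (Matrix.SpecialLinearGroup.toGL s)).1 ?_)
        rw [← e]; group
      · rw [pm, hB, ← hgu]; exact hq.map P.ι
    set Y := (normalizer (C : Set (G ⧸ center G))).comap (pz G) with hY
    have hgY : g ∈ Y := by
      refine mem_normalizer_iff.2 fun q => ⟨fun hq => hCu' _ ?_, fun hq => ?_⟩
      · show _ * _ = _ * _
        rw [hu', show pz G g * q * (pz G g)⁻¹ * (pz G g * pz G u * (pz G g)⁻¹) =
          pz G g * (q * pz G u) * (pz G g)⁻¹ by group, mem_centralizer_singleton_iff.1 hq]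
        group
      · have h1 := hCc hq hu'C
        rw [hu'] at h1
        refine mem_centralizer_singleton_iff.2 ?_
        calc q * pz G u = (pz G g)⁻¹ * (pz G g * q * (pz G g)⁻¹ * (pz G g * pz G u * (pz G g)⁻¹)) * pz G g := by
              group
          _ = (pz G g)⁻¹ * (pz G g * pz G u * (pz G g)⁻¹ * (pz G g * q * (pz G g)⁻¹)) * pz G g := by rw [h1.eq]
          _ = pz G u * q := by group
    have hle : Hc u ≤ Y := fun k hk => le_normalizer (show pz G k ∈ C from hk)
    have hYt : Y ≠ ⊤ := by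
      intro e
      haveI : C.Normal := normalizer_eq_top_iff.1 (eq_top_iff.2 fun q _ => by
        obtain ⟨k, rfl⟩ := QuotientGroup.mk'_surjective (center G) q
        exact (e ▸ mem_top k : k ∈ Y))
      have hb' := P.solvable_normal_bot C (Group.isSolvable_of_comm fun p q => Subtype.ext (hCc p.2 q.2))
      rw [hb', mem_bot] at huC
      exact hu (pz_eq_one.1 huC)
    have hgc := h.star Y hYt u (hle (self_mem_Hc u)) a (hle (mem_Hc_of_commute ha)) b (hle (mem_Hc_of_commute hb))
      ha hb hab g hgY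
    refine hs2 ?_
    rw [← hgu, pm, hU, hu', (hgc.map (pz G)).eq, mul_inv_cancel_right]
  -- an involution: move it into the Sylow subgroup
  obtain ⟨v, hvT, hvc, hv2, c, d, hc, hd, hcd⟩ : ∃ v ∈ T, v ∉ center G ∧ v * v ∈ center G ∧
      ∃ c d, Commute c v ∧ Commute d v ∧ ¬ Commute c d := by
    obtain ⟨k, m, hm, hkm⟩ := Nat.exists_eq_pow_mul_and_not_dvd (orderOf_pos u).ne' 2 (by norm_num)
    have hm' : Odd m := Nat.odd_iff.2 (by omega)
    obtain ⟨i, hi⟩ := hm'
    have hpw : pz G (u ^ m) = pz G u := by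
      rw [map_pow, hi, pow_succ, pow_mul, pow_two, hu2, one_pow, one_mul]
    have hup : IsPGroup 2 (zpowers (u ^ m)) := by
      obtain ⟨j, -, hj⟩ := (Nat.dvd_prime_pow Nat.prime_two).1 (orderOf_dvd_of_pow_eq_one
        (show (u ^ m) ^ 2 ^ k = 1 by rw [← pow_mul, mul_comm, ← hkm, pow_orderOf_eq_one]))
      exact IsPGroup.of_card (n := j) (by rw [Nat.card_zpowers, hj])
    obtain ⟨R, hR⟩ := hup.exists_le_sylow
    obtain ⟨r, hr⟩ := MulAction.exists_smul_eq G R T
    refine ⟨r * u ^ m * r⁻¹, ?_, fun e => ?_, ?_, r * a * r⁻¹, r * b * r⁻¹, ?_, ?_, fun e => hab ?_⟩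
    · show r * u ^ m * r⁻¹ ∈ (T : Subgroup G)
      rw [← hr, Sylow.coe_subgroup_smul]
      exact Subgroup.smul_mem_pointwise_smul _ (MulAut.conj r) _ (hR (mem_zpowers _))
    · rw [← pz_eq_one, map_mul, map_mul, map_inv, conj_eq_one_iff, hpw, pz_eq_one] at e
      exact hu e
    · rw [← pz_eq_one, show r * u ^ m * r⁻¹ * (r * u ^ m * r⁻¹) = r * (u ^ m * u ^ m) * r⁻¹ by group, map_mul,
        map_mul, map_inv, conj_eq_one_iff, map_mul, hpw, hu2]
    · exact (ha.pow_right m).map (MulAut.conj r).toMonoidHom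
    · exact (hb.pow_right m).map (MulAut.conj r).toMonoidHom
    · exact Commute.of_map (f := (MulAut.conj r).toMonoidHom) (MulAut.conj r).injective e
  have hfull : ∀ k ∈ Hc v, Commute k v := fun k hk => h.full hvc hc hd hcd hk
  have hxv : Commute x v := hfull x (mem_Hc.2 (mem_Hc.1 (hx.cen v hvT)).symm)
  have hne : pz G v ≠ pz G x := by
    intro e
    obtain ⟨z, hz, rfl⟩ := (QuotientGroup.mk'_eq_mk' _).1 e
    exact hcd (h.cent_comm hT hx (hc.mul_right (mem_center_iff.1 hz c))
      (hd.mul_right (mem_center_iff.1 hz d)))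
  set S : Sylow 2 (G ⧸ center G) := T.mapSurjective (QuotientGroup.mk'_surjective (center G)) with hS
  -- the Sylow subgroup of the quotient is not abelian
  have hnab : ¬ ∀ p ∈ (S : Subgroup (G ⧸ center G)), ∀ q ∈ (S : Subgroup (G ⧸ center G)), Commute p q := by
    intro hab'
    exact hvc (h.central_of_sylow_center T hT hvT fun t ht =>
      hfull t (mem_Hc.2 (hab' _ (mem_map_of_mem _ ht) _ (mem_map_of_mem _ hvT))))
  obtain ⟨I, hI⟩ := Matrix.ProjGenLinGroup.mk_surjective (P.ι (pz G x))
  obtain ⟨X, hX⟩ := Matrix.ProjGenLinGroup.mk_surjective (P.ι (pz G v))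
  have hI1 : pm I ≠ 1 := by rw [pm, hI]; exact hne1 hx.ne
  have hX1 : pm X ≠ 1 := by rw [pm, hX]; exact hne1 hvc
  have h20 : (2 : F) ≠ 0 := by
    intro e
    refine hnab fun p hp q hq => ?_
    obtain ⟨B, hB⟩ := Matrix.ProjGenLinGroup.mk_surjective (P.ι p)
    obtain ⟨D, hD⟩ := Matrix.ProjGenLinGroup.mk_surjective (P.ι q)
    have hcom : ∀ w ∈ (S : Subgroup (G ⧸ center G)), Commute w (pz G x) := by
      rintro _ ⟨t, ht, rfl⟩
      exact mem_Hc.1 (hx.cen t ht)
    refine P.inj ?_
    rw [map_mul, map_mul, ← hB, ← hD]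
    refine pgl_cent_comm (A := I) hI1 (Or.inr e) ?_ ?_
    · rw [pm, hB, hI]; exact (hcom p hp).map P.ι
    · rw [pm, hD, hI]; exact (hcom q hq).map P.ι
  have hIn : NonScalar (I : Matrix (Fin 2) (Fin 2) F) := by
    by_contra hc'; exact hI1 (pm_eq_one.2 hc')
  have hXn : NonScalar (X : Matrix (Fin 2) (Fin 2) F) := by
    by_contra hc'; exact hX1 (pm_eq_one.2 hc')
  have hIt := trace_zero_of_sq hIn (by rw [pm, hI, ← map_mul, ← map_mul, pz_eq_one.2 hx.sq, map_one])
  have hXt := trace_zero_of_sq hXn (by rw [pm, hX, ← map_mul, ← map_mul, pz_eq_one.2 hv2, map_one])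
  set dI := (I : Matrix (Fin 2) (Fin 2) F).det with hdI
  have hdI0 : dI ≠ 0 := Matrix.GeneralLinearGroup.det_ne_zero I
  -- a further element of the torus
  obtain ⟨α, β, hα, hβ, B, hBc, q, hq⟩ : ∃ α β : F, α ≠ 0 ∧ β ≠ 0 ∧ ∃ B : GL (Fin 2) F,
      (B : Matrix (Fin 2) (Fin 2) F) = combo (I : Matrix (Fin 2) (Fin 2) F) α β ∧ ∃ q, P.ι q = pm B := by
    have hcombo : ∀ b : F, 1 + dI * (b * b) ≠ 0 → ∃ B : GL (Fin 2) F,
        (B : Matrix (Fin 2) (Fin 2) F) = combo (I : Matrix (Fin 2) (Fin 2) F) 1 b := fun b hb =>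
      ⟨Matrix.GeneralLinearGroup.mkOfDetNeZero (combo (I : Matrix (Fin 2) (Fin 2) F) 1 b) (by
        rw [det_combo, hIt, ← hdI]; intro e; exact hb (by linear_combination e)), rfl⟩
    rcases P.cases with hs | hcard
    · obtain ⟨b, hb0, hb⟩ : ∃ b : F, b ≠ 0 ∧ 1 + dI * (b * b) ≠ 0 := by
        by_contra hc'
        push Not at hc'
        obtain ⟨b₀, hb₀⟩ := exists_ne (0 : F)
        have hle : (Finset.univ : Finset F) ⊆ {0, b₀, -b₀} := fun w _ => by
          by_cases hw : w = 0
          · simp [hw]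
          · have e : w * w = b₀ * b₀ := mul_left_cancel₀ hdI0 (by
              linear_combination hc' w hw - hc' b₀ hb₀)
            rcases mul_self_eq_mul_self_iff.1 e with e | e <;> simp [e]
        have := (Finset.card_le_card hle).trans Finset.card_le_three
        rw [Finset.card_univ] at this
        have := P.card
        omega
      obtain ⟨B, hB⟩ := hcombo b hb
      exact ⟨1, b, one_ne_zero, hb0, B, hB, hs (pm B)⟩
    · by_cases h7 : 7 ≤ Fintype.card F
      swap
      · -- five elements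
        exfalso
        refine hnab fun p hp q' hq' => ?_
        obtain ⟨n, hn⟩ := IsPGroup.iff_card.1 S.2
        have hodd : ¬ Even (Fintype.card F) := fun he => h20 (by
          have hch := FiniteField.even_card_iff_char_two.2 (Nat.even_iff.1 he)
          haveI := ringChar.eq_iff.1 hch
          exact CharP.cast_eq_zero F 2)
        have h5 : Fintype.card F = 5 := by
          have := P.card
          interval_cases hF : Fintype.card F <;> simp_all (config := { decide := true })
        have hsmall := Cfsg.Lib.Classical.SmallPSL.card_psl h5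
        rw [← hcard] at hsmall
        have hd : 2 ^ n ∣ Nat.card (G ⧸ center G) := hn ▸ card_subgroup_dvd_card _
        have hQ : Nat.card (G ⧸ center G) = 60 := by norm_num at hsmall; omega
        rw [hQ] at hd
        have hn2 : n ≤ 2 := by
          by_contra hlt
          have := (pow_dvd_pow 2 (show 3 ≤ n by omega)).trans hd
          norm_num at this
        haveI : IsMulCommutative (S : Subgroup (G ⧸ center G)) := by
          interval_cases n
          · haveI : Subsingleton (S : Subgroup (G ⧸ center G)) := (Nat.card_eq_one_iff_unique.1 hn).1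
            exact ⟨⟨fun a b => Subsingleton.elim _ _⟩⟩
          · haveI : IsCyclic (S : Subgroup (G ⧸ center G)) := isCyclic_of_prime_card (p := 2) (by rw [hn, pow_one])
            exact ⟨⟨fun a b => IsCyclic.commGroup.mul_comm a b⟩⟩
          · exact IsPGroup.isMulCommutative_of_card_eq_prime_sq (p := 2) hn
        exact congrArg Subtype.val ((inferInstance : IsMulCommutative (S : Subgroup (G ⧸ center G))).is_comm.comm
          ⟨p, hp⟩ ⟨q', hq'⟩)
      obtain ⟨b, hb0, hb, hb'⟩ : ∃ b : F, b ≠ 0 ∧ 1 + dI * (b * b) ≠ 0 ∧ 1 - dI * (b * b) ≠ 0 := by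
        by_contra hc'
        push Not at hc'
        have hsq : ∀ w : F, w ≠ 0 → dI * (w * w) = -1 ∨ dI * (w * w) = 1 := by
          intro w hw
          by_cases h1 : 1 + dI * (w * w) = 0
          · exact Or.inl (by linear_combination h1)
          · exact Or.inr (by linear_combination -(hc' w hw h1))
        have hle : (Finset.univ : Finset F).card ≤ 5 := by
          let sol : F → Finset F := fun r => Finset.univ.filter fun w => dI * (w * w) = r
          have h2 : ∀ r, (sol r).card ≤ 2 := by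
            intro r
            by_cases hne : (sol r).Nonempty
            · obtain ⟨w₀, hw₀⟩ := hne
              refine (Finset.card_le_card (t := {w₀, -w₀}) fun w hw => ?_).trans Finset.card_le_two
              simp only [sol, Finset.mem_filter] at hw₀ hw
              rcases mul_self_eq_mul_self_iff.1 (mul_left_cancel₀ hdI0 (hw.2.trans hw₀.2.symm)) with e | e <;>
                simp [e]
            · rw [Finset.not_nonempty_iff_eq_empty.1 hne]; simp
          have hsub : (Finset.univ : Finset F) ⊆ {0} ∪ (sol (-1) ∪ sol 1) := fun w _ => by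
            by_cases hw : w = 0
            · simp [hw]
            · rcases hsq w hw with e | e <;> simp [sol, e]
          refine (Finset.card_le_card hsub).trans ((Finset.card_union_le _ _).trans ?_)
          have := Finset.card_union_le (sol (-1)) (sol 1)
          have := h2 (-1)
          have := h2 1
          rw [Finset.card_singleton]
          omega
        rw [Finset.card_univ] at hle
        omega
      obtain ⟨B, hB⟩ := hcombo b hb
      refine ⟨1 - dI * (b * b), 2 * b, hb', mul_ne_zero h20 hb0, B * B, ?_, ?_⟩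
      · rw [Units.val_mul, hB]
        have hII : (I : Matrix (Fin 2) (Fin 2) F) * (I : Matrix (Fin 2) (Fin 2) F) = (-dI) • 1 := by
          rw [Matrix.trace_fin_two] at hIt
          rw [hdI, Matrix.det_fin_two]
          ext i j
          fin_cases i <;> fin_cases j <;>
            simp only [Fin.zero_eta, Fin.mk_one, Matrix.mul_apply, Fin.sum_univ_two, Matrix.smul_apply,
              Matrix.one_apply_eq, Matrix.one_apply_ne, ne_eq, zero_ne_one, one_ne_zero, not_false_eq_true,
              smul_eq_mul, mul_one, mul_zero]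
          · linear_combination (I : Matrix (Fin 2) (Fin 2) F) 0 0 * hIt
          · linear_combination (I : Matrix (Fin 2) (Fin 2) F) 0 1 * hIt
          · linear_combination (I : Matrix (Fin 2) (Fin 2) F) 1 0 * hIt
          · linear_combination (I : Matrix (Fin 2) (Fin 2) F) 1 1 * hIt
        simp only [combo, add_mul, mul_add, Matrix.smul_mul, Matrix.mul_smul, one_mul, mul_one, hII, smul_smul]
        module
      · set φ : Matrix.ProjectiveSpecialLinearGroup (Fin 2) F →* Matrix.ProjGenLinGroup (Fin 2) F :=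
          Matrix.ProjectiveSpecialLinearGroup.toPGL
        have hle : φ.range ≤ P.ι.range := by
          rintro _ ⟨w, rfl⟩
          obtain ⟨s, rfl⟩ := QuotientGroup.mk'_surjective _ w
          exact P.special s
        have hcr : Nat.card P.ι.range ≤ Nat.card φ.range := by
          rw [Nat.card_congr (MonoidHom.ofInjective P.inj).toEquiv.symm, hcard,
            Nat.card_congr (MonoidHom.ofInjective
              (Matrix.ProjectiveSpecialLinearGroup.toPGL_injective (n := Fin 2) (R := F))).toEquiv]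
        have hm : pm (B * B) ∈ P.ι.range := by
          rw [← eq_of_le_of_card_ge hle hcr, map_mul]
          exact Cfsg.Lib.Classical.PGLMax.sq_mem _
        exact hm
  obtain ⟨p, rfl⟩ := QuotientGroup.mk'_surjective (center G) q
  have hBI : Commute (pm B) (pm I) :=
    (show Commute B I from Units.ext (by rw [Units.val_mul, Units.val_mul, hBc, combo_comm])).map pm
  have hp : p ∈ Hc x := by
    refine mem_Hc.2 (P.inj ?_)
    rw [map_mul, map_mul]
    show P.ι (pz G p) * P.ι (pz G x) = P.ι (pz G x) * P.ι (pz G p)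
    rw [show P.ι (pz G p) = pm B from hq, ← hI]
    exact hBI
  have hpx : Commute p x := by
    by_contra hc'
    have h1 := h.sq_central hT hx hp hc'
    have h2 : pm B * pm B = 1 := by
      rw [← hq, ← map_mul, ← map_mul, show QuotientGroup.mk' (center G) (p * p) = pz G (p * p) from rfl,
        pz_eq_one.2 h1, map_one]
    have h3 := trace_zero_of_sq (fun hns => ?_) h2
    · rw [hBc, show (combo (I : Matrix (Fin 2) (Fin 2) F) α β).trace =
        2 * α + β * (I : Matrix (Fin 2) (Fin 2) F).trace by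
          simp [combo, Matrix.trace_add, Matrix.trace_smul]; ring, hIt, mul_zero, add_zero] at h3
      exact hα ((mul_eq_zero.1 h3).resolve_left h20)
    · rw [hBc] at hns
      refine hIn ⟨?_, ?_, ?_⟩
      · simpa [combo, hβ] using hns.1
      · simpa [combo, hβ] using hns.2.1
      · simpa [combo, hβ] using hns.2.2
  have hpv : Commute p v := h.cent_comm hT hx hpx hxv.symm
  refine no_commute_combo h20 hIn hIt hXt (fun e => hne (P.inj ?_)) ?_ hα hβ hBc ?_
  · rw [← hX, ← hI]; exact e
  · rw [pm, hX, hI]; exact (mem_Hc.1 (hx.cen v hvT)).map P.ι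
  · rw [← hq, pm, hX]; exact ((hpv.symm).map (pz G)).map P.ι

end Cfsg.Lib.MinNonCA
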