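import Cfsg.Agent.MinNonCA.Tools
import Cfsg.Agent.Transfer.IndexPrimeTo

/-!
The proper normal subgroups are solvable.
-/

set_option autoImplicit false
set_option linter.unusedSectionVars false
set_option linter.style.haveILetI false

namespace Cfsg.Lib.MinNonCA

open Subgroup
open scoped MatrixGroups

universe u

variable {G : Type u} [Group G] [Finite G] (h : Hyp G)
include h

theorem Hyp.perfect_core (L' : Subgroup G) [L'.Normal] (hns : ¬ Group.IsSolvable L') :
    ∃ L : Subgroup G, L.Normal ∧ L ≤ L' ∧ ¬ Group.IsSolvable L ∧ commutator L = ⊤ := by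
  classical
  obtain ⟨⟨L, hLn, hLle, hLs⟩, hmin⟩ :=
    @Finite.exists_min {L : Subgroup G // L.Normal ∧ L ≤ L' ∧ ¬ Group.IsSolvable L} ℕ _
      ⟨⟨L', inferInstance, le_rfl, hns⟩⟩ _ fun L => Nat.card L.1
  haveI := hLn
  have hD : ¬ Group.IsSolvable (⁅L, L⁆ : Subgroup G) := by
    intro hs
    refine hLs ?_
    haveI : ((⁅L, L⁆ : Subgroup G).subgroupOf L).Normal := Subgroup.normal_subgroupOf
    haveI := hs
    refine GenDihedral.solvable_ext ((⁅L, L⁆ : Subgroup G).subgroupOf L)
      (Group.isSolvable_of_isSolvable_injective (f := (subgroupOfEquivOfLe (commutator_le_self L)).toMonoidHom)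
        (subgroupOfEquivOfLe (commutator_le_self L)).injective) ?_
    refine Group.isSolvable_of_comm fun a b => ?_
    obtain ⟨a, rfl⟩ := QuotientGroup.mk_surjective a
    obtain ⟨b, rfl⟩ := QuotientGroup.mk_surjective b
    rw [← QuotientGroup.mk_mul, ← QuotientGroup.mk_mul, QuotientGroup.eq, mem_subgroupOf]
    have := commutator_mem_commutator (inv_mem b.2) (inv_mem a.2)
    simpa [commutatorElement_def, mul_assoc] using this
  have he : (⁅L, L⁆ : Subgroup G) = L := eq_of_le_of_card_ge (commutator_le_self L)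
    (hmin ⟨⁅L, L⁆, inferInstance, (commutator_le_self L).trans hLle, hD⟩)
  refine ⟨L, hLn, hLle, hLs, ?_⟩
  refine map_injective L.subtype_injective ?_
  rw [map_subtype_commutator, he, ← MonoidHom.range_eq_map, L.range_subtype]

/-- a proper subgroup is a CA-group -/
theorem Hyp.sub_ca {L : Subgroup G} (hL : L ≠ ⊤) {x a b : L} (hx : x ∉ center L) (ha : Commute a x)
    (hb : Commute b x) : Commute a b := by
  by_contra hab
  refine hx (mem_center_iff.2 fun g => ?_)
  exact Subtype.ext (h.star L hL x x.2 a a.2 b b.2 (congrArg Subtype.val ha.eq) (congrArg Subtype.val hb.eq)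
    (fun e => hab (Subtype.ext e.eq)) g g.2).eq

variable (hab : ∀ T : Sylow 2 G, ∀ a ∈ T, ∀ b ∈ T, Commute a b)
include hab

/-- the Sylow 2-subgroups of normal subgroups are abelian -/
theorem Hyp.sylow_normal_comm (L : Subgroup G) [L.Normal] (P : Sylow 2 L) : ∀ a ∈ P, ∀ b ∈ P, Commute a b := by
  haveI : Fact (Nat.Prime 2) := ⟨Nat.prime_two⟩
  obtain ⟨R, hR⟩ := (P.2.map L.subtype).exists_le_sylow
  intro a ha b hb
  exact Subtype.ext (hab R a (hR (mem_map_of_mem _ ha)) b (hR (mem_map_of_mem _ hb))).eq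

/-- every proper normal subgroup is solvable -/
theorem Hyp.normal_solvable (L' : Subgroup G) [L'.Normal] (hL' : L' ≠ ⊤) : Group.IsSolvable L' := by
  classical
  haveI : Fact (Nat.Prime 2) := ⟨Nat.prime_two⟩
  by_contra hns
  obtain ⟨L, hLn, hLle, hLs, hperf⟩ := h.perfect_core L' hns
  haveI := hLn
  have hLt : L ≠ ⊤ := fun e => hL' (top_le_iff.1 (e ▸ hLle))
  have hodd : Odd (Nat.card (center L)) := odd_center hperf (default : Sylow 2 L) (h.sylow_normal_comm hab L _)
  have hev : Even (Nat.card L) := by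
    rw [← Nat.not_odd_iff_even]
    exact fun ho => hLs (Cfsg.Agent.PF.isSolvable_of_odd _ ho)
  have hnc : ∀ {u : L}, orderOf u = 2 → u ∉ center L := by
    intro u hu huc
    have := hodd.of_dvd_nat (Subgroup.orderOf_dvd_natCard _ huc)
    rw [hu] at this
    exact absurd this (by decide)
  have hcyc : ∀ P : Sylow 2 L, ¬ IsCyclic P := by
    intro P hP
    have hP2 : 2 ∣ Nat.card P := P.dvd_card_of_dvd_card hev.two_dvd
    obtain ⟨⟨z, hz⟩, hz2⟩ := exists_prime_orderOf_dvd_card' 2 hP2
    refine (orderOf_eq_one_iff.not.1 (by rw [hz2]; decide) :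
      (⟨z, hz⟩ : (P : Subgroup L)) ≠ 1) (Subtype.ext ?_)
    refine fixed_eq_one hperf P (h.sylow_normal_comm hab L P) hz fun n hn => mul_inv_eq_iff_eq_mul.1 ?_
    have hm : n * z * n⁻¹ ∈ (P : Subgroup L) := (mem_normalizer_iff.1 hn z).1 hz
    have hm2 : orderOf (⟨_, hm⟩ : (P : Subgroup L)) = 2 := by
      rw [Subgroup.orderOf_mk, ← MulAut.conj_apply, MulEquiv.orderOf_eq]
      rwa [Subgroup.orderOf_mk] at hz2
    obtain ⟨g, hg⟩ := hP.exists_generator
    obtain ⟨w, hw, huniq⟩ : ∃ w : (P : Subgroup L), orderOf w = 2 ∧ ∀ v : (P : Subgroup L), orderOf v = 2 → v = w := by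
      haveI := hP
      haveI := Fintype.ofFinite (P : Subgroup L)
      have h1 := IsCyclic.card_orderOf_eq_totient (α := (P : Subgroup L)) (d := 2)
        (by rw [← Nat.card_eq_fintype_card]; exact hP2)
      rw [Nat.totient_two, Finset.card_eq_one] at h1
      obtain ⟨w, hw⟩ := h1
      have h2 : ∀ v, orderOf v = 2 ↔ v = w := fun v => by
        have := Finset.ext_iff.1 hw v
        simpa using this
      exact ⟨w, (h2 w).2 rfl, fun v hv => (h2 v).1 hv⟩
    exact congrArg Subtype.val ((huniq _ hm2).trans (huniq _ hz2).symm)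
  obtain ⟨F, i1, i2, A, i3, i4, hF, -, ⟨e⟩⟩ : ∃ (F : Type) (_ : Field F) (_ : Fintype F) (A : Type) (_ : CommGroup A)
      (_ : Finite A), CharP F 2 ∧ Odd (Nat.card A) ∧ Nonempty (L ≃* Matrix.SpecialLinearGroup (Fin 2) F × A) := by
    rcases Cfsg.Agent.S2202.result hev (fun u hu => ⟨⟨fun a b => Subtype.ext (h.sub_ca hLt (hnc hu)
        (mem_centralizer_singleton_iff.1 a.2) (mem_centralizer_singleton_iff.1 b.2)).eq⟩⟩) with hc | hn | he
    · exact absurd (hc default) (hcyc default)
    · exfalso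
      obtain ⟨P⟩ := (inferInstance : Nonempty (Sylow 2 L))
      haveI := hn P
      refine hLs (GenDihedral.solvable_ext (P : Subgroup L) (GenDihedral.solvable_of_two P.2) ?_)
      refine Cfsg.Agent.PF.isSolvable_of_odd _ (Nat.not_even_iff_odd.1 fun hev => ?_)
      rw [← index_eq_card] at hev
      exact P.not_dvd_index hev.two_dvd
    · exact he
  haveI := hF
  let φ : L ≃* SL(2, F) :=
    { toFun := fun x => (e x).1
      invFun := fun s => e.symm (s, 1)
      left_inv := fun x => e.injective (by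
        rw [e.apply_symm_apply]; exact Prod.ext rfl (factor_trivial hperf e _).symm)
      right_inv := fun s => by simp
      map_mul' := fun x y => by simp }
  have hcenL : center L = ⊥ := by
    rw [eq_bot_iff]
    intro x hx
    have : φ x ∈ center SL(2, F) := mem_center_iff.2 fun s => φ.symm.injective (by
      rw [map_mul, map_mul, φ.symm_apply_apply]; exact mem_center_iff.1 hx _)
    rw [GenDihedral.center_sl_two, mem_bot] at this
    exact mem_bot.2 (φ.injective (this.trans (map_one φ).symm))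
  have hLZ : ∀ g ∈ L, g ∈ center G → g = 1 := by
    intro g hg hgc
    have h1 : (⟨g, hg⟩ : L) ∈ center L := mem_center_iff.2 fun k => Subtype.ext (mem_center_iff.1 hgc k)
    rw [hcenL, mem_bot] at h1
    exact congrArg Subtype.val h1
  have hCL : ∀ g, (∀ l ∈ L, Commute l g) → g ∈ center G := fun g hg => h.central_of_normal L hLs hg
  -- Sylow 2-subgroups lie in `L` times the centre
  have hTfac : ∀ T : Sylow 2 G, ∀ t ∈ T, ∃ l ∈ L, l⁻¹ * t ∈ center G := by
    intro T t ht
    obtain ⟨P, hP⟩ := Cfsg.Lib.Transfer.exists_sylow_subgroupOf T L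
    let P' : Sylow 2 SL(2, F) := P.mapSurjective (f := φ.toMonoidHom) φ.surjective
    obtain ⟨m, hm⟩ := GenDihedral.inner_of_fix_sylow (MulAut.congr φ (MulAut.conjNormal t)) P' (fun x hx => by
      replace hx : x ∈ (P : Subgroup L).map φ.toMonoidHom := hx
      obtain ⟨y, hy, rfl⟩ := hx
      show φ (MulAut.conjNormal t (φ.symm (φ y))) = φ y
      rw [φ.symm_apply_apply]
      refine congrArg φ (Subtype.ext ?_)
      rw [MulAut.conjNormal_apply]
      rw [hP, SetLike.mem_coe, mem_subgroupOf] at hy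
      exact mul_inv_eq_iff_eq_mul.2 (hab T t ht y hy))
    refine ⟨(φ.symm m : L), (φ.symm m).2, hCL _ fun x hx => ?_⟩
    have h1 := MulEquiv.ext_iff.1 hm (φ ⟨x, hx⟩)
    change φ (MulAut.conjNormal t (φ.symm (φ ⟨x, hx⟩))) = m * φ ⟨x, hx⟩ * m⁻¹ at h1
    rw [φ.symm_apply_apply] at h1
    have h2 := congrArg (fun y => ((φ.symm y : L) : G)) h1
    simp only [φ.symm_apply_apply, map_mul, map_inv, Subgroup.coe_mul, Subgroup.coe_inv,
      MulAut.conjNormal_apply] at h2
    show x * (((φ.symm m : L) : G)⁻¹ * t) = ((φ.symm m : L) : G)⁻¹ * t * x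
    calc x * (((φ.symm m : L) : G)⁻¹ * t)
        = ((φ.symm m : L) : G)⁻¹ * (((φ.symm m : L) : G) * x * ((φ.symm m : L) : G)⁻¹) * t := by group
      _ = ((φ.symm m : L) : G)⁻¹ * (t * x * t⁻¹) * t := by rw [h2]
      _ = ((φ.symm m : L) : G)⁻¹ * t * x := by group
  -- centralisers of involutions of `L`
  have hCu : ∀ u : L, orderOf u = 2 → ∀ a b : G, Commute a u → Commute b u → Commute a b := by
    intro u hu a b ha hb
    obtain ⟨P, hP⟩ := (IsPGroup.of_card (p := 2) (n := 1)
      (by rw [Nat.card_zpowers, hu, pow_one]) : IsPGroup 2 (zpowers u)).exists_le_sylow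
    have huP : u ∈ (P : Subgroup L) := hP (mem_zpowers u)
    have hPc := h.sylow_normal_comm hab L P
    set S : Subgroup G := (P : Subgroup L).map L.subtype with hS
    have hN : ∀ c : G, Commute c (u : G) → c ∈ normalizer (S : Set G) := by
      have key : ∀ c : G, Commute c (u : G) → ∀ x ∈ S, c * x * c⁻¹ ∈ S := by
        rintro c hc _ ⟨y, hy, rfl⟩
        have hmem : c * (y : G) * c⁻¹ ∈ L := hLn.conj_mem _ y.2 c
        refine ⟨⟨_, hmem⟩, mem_sylow_of_commute P ?_ fun w hw => ?_, rfl⟩
        · obtain ⟨k, hk⟩ := IsPGroup.iff_orderOf.1 P.2 ⟨y, hy⟩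
          rw [Subgroup.orderOf_mk, ← Subgroup.orderOf_coe] at hk
          exact ⟨k, by rw [Subgroup.orderOf_mk, ← MulAut.conj_apply, MulEquiv.orderOf_eq, hk]⟩
        · refine h.sub_ca hLt (hnc hu) (hPc w hw u huP) (Subtype.ext ?_)
          show c * y * c⁻¹ * u = u * (c * y * c⁻¹)
          have h1 : (y : G) * u = u * y := congrArg Subtype.val (hPc y hy u huP).eq
          rw [mul_assoc, hc.inv_left.eq, ← mul_assoc, mul_assoc c, h1, ← mul_assoc, hc.eq]
          group
      intro c hc
      refine mem_normalizer_iff.2 fun x => ⟨key c hc x, fun hx => ?_⟩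
      have := key c⁻¹ hc.inv_left _ hx
      rwa [show c⁻¹ * (c * x * c⁻¹) * c⁻¹⁻¹ = x by group] at this
    have hNt : normalizer (S : Set G) ≠ ⊤ := by
      intro hNt
      haveI hSn : S.Normal := normalizer_eq_top_iff.1 hNt
      haveI : (P : Subgroup L).Normal := ⟨fun x hx g => by
        obtain ⟨y, hy, e⟩ := hSn.conj_mem (x : G) (mem_map_of_mem _ hx) (g : G)
        rwa [show g * x * g⁻¹ = y from Subtype.ext e.symm]⟩
      refine hLs (GenDihedral.solvable_ext (P : Subgroup L) (GenDihedral.solvable_of_two P.2) ?_)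
      refine Cfsg.Agent.PF.isSolvable_of_odd _ (Nat.not_even_iff_odd.1 fun hev => ?_)
      rw [← index_eq_card] at hev
      exact P.not_dvd_index hev.two_dvd
    by_contra hcon
    have hall := h.star _ hNt (u : G) (hN _ (Commute.refl _)) a (hN a ha) b (hN b hb) ha hb hcon
    have hu1 : u = 1 := fixed_eq_one hperf P hPc huP fun n hn =>
      Subtype.ext (hall n (le_normalizer_map L.subtype (mem_map_of_mem _ hn))).eq
    rw [hu1, orderOf_one] at hu
    omega
  -- the quotient by the centre
  obtain ⟨F', j1, j2, A', j3, j4, hF', -, ⟨e'⟩⟩ : ∃ (F' : Type) (_ : Field F') (_ : Fintype F') (A' : Type)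
      (_ : CommGroup A') (_ : Finite A'), CharP F' 2 ∧ Odd (Nat.card A') ∧
      Nonempty ((G ⧸ center G) ≃* Matrix.SpecialLinearGroup (Fin 2) F' × A') := by
    have hQev : Even (Nat.card (G ⧸ center G)) := by
      rw [← Nat.not_odd_iff_even]
      exact fun ho => h.quot_ns (Cfsg.Agent.PF.isSolvable_of_odd _ ho)
    have hQC : ∀ q : G ⧸ center G, orderOf q = 2 → IsMulCommutative ↥(centralizer ({q} : Set (G ⧸ center G))) := by
      intro q hq
      obtain ⟨S, hS⟩ := (IsPGroup.of_card (p := 2) (n := 1)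
        (by rw [Nat.card_zpowers, hq, pow_one]) : IsPGroup 2 (zpowers q)).exists_le_sylow
      obtain ⟨c, hc⟩ := MulAction.exists_smul_eq (G ⧸ center G) S
        ((default : Sylow 2 G).mapSurjective (QuotientGroup.mk'_surjective (center G)))
      have hcq : c * q * c⁻¹ ∈ (default : Sylow 2 G).mapSurjective (QuotientGroup.mk'_surjective (center G)) := by
        rw [← hc]
        exact Subgroup.smul_mem_pointwise_smul q (MulAut.conj c) _ (hS (mem_zpowers q))
      obtain ⟨t, ht, htq⟩ := hcq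
      obtain ⟨l, hl, hlt⟩ := hTfac _ t ht
      have hlq : pz G l = c * q * c⁻¹ := by
        rw [← htq, show t = l * (l⁻¹ * t) by group, map_mul, show pz G (l⁻¹ * t) = 1 from pz_eq_one.2 hlt,
          mul_one]
      have hlq2 : orderOf (pz G l) = 2 := by rw [hlq, ← MulAut.conj_apply, MulEquiv.orderOf_eq, hq]
      have hl2 : orderOf (⟨l, hl⟩ : L) = 2 := by
        refine orderOf_eq_prime (Subtype.ext ?_) fun e => ?_
        · show l ^ 2 = 1
          exact hLZ _ (pow_mem hl 2) (pz_eq_one.1 (by rw [map_pow, ← hlq2, pow_orderOf_eq_one]))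
        · rw [show l = 1 from congrArg Subtype.val e, map_one, orderOf_one] at hlq2; omega
      refine ⟨⟨fun a b => Subtype.ext ?_⟩⟩
      obtain ⟨α, hα⟩ := QuotientGroup.mk'_surjective (center G) (c * a.1 * c⁻¹)
      obtain ⟨β, hβ⟩ := QuotientGroup.mk'_surjective (center G) (c * b.1 * c⁻¹)
      have hcomm : ∀ (γ : G) (d : centralizer ({q} : Set (G ⧸ center G))), pz G γ = c * d.1 * c⁻¹ →
          Commute γ l := by
        intro γ d hd
        refine mul_inv_eq_iff_eq_mul.1 (mul_inv_eq_one.1 (hLZ _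
          (mul_mem (hLn.conj_mem l hl γ) (inv_mem hl)) (comm_mem_center (mem_Hc.2 ?_))))
        show pz G γ * pz G l = pz G l * pz G γ
        rw [hd, hlq, show c * d.1 * c⁻¹ * (c * q * c⁻¹) = c * (d.1 * q) * c⁻¹ by group,
          mem_centralizer_singleton_iff.1 d.2]
        group
      have h1 := ((hCu ⟨l, hl⟩ hl2 α β (hcomm α a hα) (hcomm β b hβ)).map (pz G)).eq
      rw [show pz G α = c * a.1 * c⁻¹ from hα, show pz G β = c * b.1 * c⁻¹ from hβ] at h1
      show a.1 * b.1 = b.1 * a.1
      calc a.1 * b.1 = c⁻¹ * (c * a.1 * c⁻¹ * (c * b.1 * c⁻¹)) * c := by group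
        _ = c⁻¹ * (c * b.1 * c⁻¹ * (c * a.1 * c⁻¹)) * c := by rw [h1]
        _ = b.1 * a.1 := by group
    rcases Cfsg.Agent.S2202.result hQev hQC with hc | hn | he
    · exfalso
      obtain ⟨P⟩ := (inferInstance : Nonempty (Sylow 2 L))
      set f : L →* G ⧸ center G := (pz G).comp L.subtype with hf
      have hfinj : Function.Injective f := (injective_iff_map_eq_one f).2 fun x hx =>
        Subtype.ext (hLZ _ x.2 (pz_eq_one.1 hx))
      obtain ⟨R, hR⟩ := (P.2.map f).exists_le_sylow
      haveI := hc R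
      haveI : IsCyclic ((P : Subgroup L).map f) := isCyclic_of_injective (Subgroup.inclusion hR)
        (Subgroup.inclusion_injective hR)
      exact hcyc P (((P : Subgroup L).equivMapOfInjective f hfinj).isCyclic.2 inferInstance)
    · exfalso
      obtain ⟨P⟩ := (inferInstance : Nonempty (Sylow 2 (G ⧸ center G)))
      haveI := hn P
      refine h.quot_ns (GenDihedral.solvable_ext (P : Subgroup (G ⧸ center G)) (GenDihedral.solvable_of_two P.2) ?_)
      refine Cfsg.Agent.PF.isSolvable_of_odd _ (Nat.not_even_iff_odd.1 fun hev => ?_)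
      rw [← index_eq_card] at hev
      exact P.not_dvd_index hev.two_dvd
    · exact he
  haveI := hF'
  -- the abelian factor is trivial
  have hA' : ∀ a : A', a = 1 := by
    intro a
    obtain ⟨g, hg⟩ := QuotientGroup.mk'_surjective (center G) (e'.symm (1, a))
    have hsnd : ∀ l : L, (e' (pz G l)).2 = 1 := by
      intro l
      have h1 := Abelianization.commutator_subset_ker
        (((MonoidHom.snd SL(2, F') A').comp e'.toMonoidHom).comp ((pz G).comp L.subtype))
      rw [hperf] at h1
      exact h1 (mem_top l)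
    have hgc : g ∈ center G := hCL g fun l hl => by
      refine (mul_inv_eq_iff_eq_mul.1 (mul_inv_eq_one.1 (hLZ (g * l * g⁻¹ * l⁻¹)
        (mul_mem (hLn.conj_mem l hl g) (inv_mem hl)) (comm_mem_center (mem_Hc.2 ?_))))).symm
      refine e'.injective ?_
      rw [map_mul, map_mul, show pz G g = e'.symm (1, a) from hg, e'.apply_symm_apply]
      exact Prod.ext (by simp) (mul_comm _ _)
    have h1 : e'.symm (1, a) = 1 := hg ▸ pz_eq_one.2 hgc
    simpa using congrArg Prod.snd (e'.symm.injective (h1.trans (map_one e'.symm).symm))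
  let ψ : G →* SL(2, F') := (MonoidHom.fst SL(2, F') A').comp (e'.toMonoidHom.comp (pz G))
  have hψker : ∀ g, ψ g = 1 → g ∈ center G := fun g hg => pz_eq_one.1 (e'.injective (by
    rw [map_one]; exact Prod.ext hg (hA' _)))
  have hψs : Function.Surjective ψ := fun s => by
    obtain ⟨g, hg⟩ := QuotientGroup.mk'_surjective (center G) (e'.symm (s, 1))
    exact ⟨g, by show (e' (pz G g)).1 = s; rw [show pz G g = e'.symm (s, 1) from hg, e'.apply_symm_apply]⟩
  -- `L` covers the quotient
  have h4 : 4 ≤ Fintype.card F' := by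
    by_contra hlt
    have h2 : Fintype.card F' = 2 := by
      obtain ⟨m, -, hm⟩ := FiniteField.card F' 2
      rcases Nat.lt_or_ge (m : ℕ) 2 with hm2 | hm2
      · have := m.pos; rw [hm, show (m : ℕ) = 1 by omega, pow_one]
      · have := Nat.pow_le_pow_right two_pos hm2; omega
    obtain ⟨σ⟩ := Cfsg.Lib.Classical.SmallPSL.sl_two h2
    have hQ : Group.IsSolvable (G ⧸ center G) := by
      haveI : Group.IsSolvable (Equiv.Perm (Fin 3)) := by
        haveI : Group.IsSolvable (Equiv.Perm.sign : Equiv.Perm (Fin 3) →* ℤˣ).ker :=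
          Group.isSolvable_of_comm fun a b => Subtype.ext ((show ∀ a b : Equiv.Perm (Fin 3),
            Equiv.Perm.sign a = 1 → Equiv.Perm.sign b = 1 → a * b = b * a by decide +kernel) a.1 b.1 a.2 b.2)
        exact Group.isSolvable_of_ker_le_range (Equiv.Perm.sign : Equiv.Perm (Fin 3) →* ℤˣ).ker.subtype
          (Equiv.Perm.sign : Equiv.Perm (Fin 3) →* ℤˣ) (by rw [Subgroup.range_subtype])
      exact Group.isSolvable_of_isSolvable_injective
        (f := σ.toMonoidHom.comp ((MonoidHom.fst SL(2, F') A').comp e'.toMonoidHom))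
        ((injective_iff_map_eq_one _).2 fun q hq => e'.injective (by
          rw [map_one]
          exact Prod.ext (σ.injective (hq.trans (map_one σ).symm)) (hA' _)))
    exact h.quot_ns hQ
  haveI := Cfsg.Lib.Classical.isSimpleGroup_PSL_fin (F := F') (n := 2) le_rfl
    (fun _ => by rw [Nat.card_eq_fintype_card]; exact h4)
  haveI : Nontrivial SL(2, F') := (GenDihedral.slEquiv (F := F')).toEquiv.nontrivial
  haveI : IsSimpleGroup SL(2, F') := IsSimpleGroup.isSimpleGroup_of_surjective
    (GenDihedral.slEquiv (F := F')).symm.toMonoidHom (GenDihedral.slEquiv (F := F')).symm.surjective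
  haveI := hLn.map ψ hψs
  have hLtop : L.map ψ = ⊤ := by
    refine (IsSimpleGroup.eq_bot_or_eq_top_of_normal (L.map ψ) inferInstance).resolve_left fun e => hLs ?_
    refine Group.isSolvable_of_comm fun x y => Subtype.ext (mem_center_iff.1 (hψker _ ?_) x.1)
    have : ψ y.1 ∈ L.map ψ := mem_map_of_mem _ y.2
    rwa [e, mem_bot] at this
  have hfac : ∀ g : G, ∃ l ∈ L, l⁻¹ * g ∈ center G := by
    intro g
    obtain ⟨l, hl, hlg⟩ : ψ g ∈ L.map ψ := hLtop ▸ mem_top _
    exact ⟨l, hl, hψker _ (by rw [map_mul, map_inv, hlg, inv_mul_cancel])⟩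
  -- so the group is CA
  refine h.notCA fun x hx a b ha hb => ?_
  obtain ⟨l, hl, hlx⟩ := hfac x
  obtain ⟨la, hla, hza⟩ := hfac a
  obtain ⟨lb, hlb, hzb⟩ := hfac b
  have hkey : ∀ {p q lp lq : G}, lp⁻¹ * p ∈ center G → lq⁻¹ * q ∈ center G → (Commute p q ↔ Commute lp lq) := by
    intro p q lp lq hp hq
    obtain ⟨cp, hcp, rfl⟩ : ∃ c ∈ center G, p = lp * c := ⟨_, hp, by group⟩
    obtain ⟨cq, hcq, rfl⟩ : ∃ c ∈ center G, q = lq * c := ⟨_, hq, by group⟩
    have e1 : ∀ w, Commute w cp := fun w => mem_center_iff.1 hcp w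
    have e2 : ∀ w, Commute w cq := fun w => mem_center_iff.1 hcq w
    constructor
    · intro hpq
      have h1 := (hpq.mul_left ((e1 _).inv_right.symm)).mul_right (e2 _).inv_right
      simpa using h1
    · intro hll
      exact (hll.mul_right (e2 lp)).mul_left (e1 _).symm
  refine (hkey hza hzb).2 ?_
  have hl1 : φ ⟨l, hl⟩ ≠ 1 := fun e => hx (by
    have : l = 1 := congrArg Subtype.val (φ.injective (e.trans (map_one φ).symm))
    simpa [this] using hlx)
  have h1 := sl_two_cent_comm hl1
    ((show Commute (⟨la, hla⟩ : L) ⟨l, hl⟩ from Subtype.ext ((hkey hza hlx).1 ha).eq).map φ.toMonoidHom)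
    ((show Commute (⟨lb, hlb⟩ : L) ⟨l, hl⟩ from Subtype.ext ((hkey hzb hlx).1 hb).eq).map φ.toMonoidHom)
  exact congrArg Subtype.val (φ.injective (by rw [map_mul, map_mul]; exact h1.eq) :
    (⟨la, hla⟩ : L) * ⟨lb, hlb⟩ = ⟨lb, hlb⟩ * ⟨la, hla⟩)

end Cfsg.Lib.MinNonCA
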