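import Cfsg.Agent.MinNonCA.Fusion
import Cfsg.Agent.BenderSE.Final

/-!
With a non-abelian Sylow 2-subgroup: the centraliser of a central involution of the quotient by the centre, and
no element of odd order is central in it (the centraliser of such an element would be strongly embedded).
-/

set_option autoImplicit false
set_option linter.unusedSectionVars false
set_option linter.style.haveILetI false

namespace Cfsg.Lib.MinNonCA

open Subgroup

universe u

variable {G : Type u} [Group G]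

/-- The projection modulo the centre. -/
abbrev pz (G : Type u) [Group G] : G →* G ⧸ center G := QuotientGroup.mk' (center G)

/-- The elements commuting with `y` modulo the centre. -/
def Hc (y : G) : Subgroup G := (centralizer ({pz G y} : Set (G ⧸ center G))).comap (pz G)

theorem mem_Hc {y g : G} : g ∈ Hc y ↔ Commute (pz G g) (pz G y) := by
  rw [Hc, mem_comap, mem_centralizer_singleton_iff]; rfl

theorem pz_eq_one {g : G} : pz G g = 1 ↔ g ∈ center G := QuotientGroup.eq_one_iff g

theorem self_mem_Hc (y : G) : y ∈ Hc y := mem_Hc.2 (Commute.refl _)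

theorem mem_Hc_of_commute {y g : G} (hc : Commute g y) : g ∈ Hc y := mem_Hc.2 (hc.map (pz G))

theorem comm_mem_center {y g : G} (hg : g ∈ Hc y) : g * y * g⁻¹ * y⁻¹ ∈ center G := by
  rw [← pz_eq_one, map_mul, map_mul, map_mul, map_inv, map_inv, (mem_Hc.1 hg).eq, mul_inv_cancel_right,
    mul_inv_cancel]

/-- The element `x`: in the Sylow subgroup, an involution modulo the centre, central modulo the centre. -/
structure Pick (T : Sylow 2 G) (x : G) : Prop where
  mem : x ∈ T
  ne : x ∉ center G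
  sq : x * x ∈ center G
  cen : ∀ t ∈ T, t ∈ Hc x

variable [Finite G]

theorem exists_pick (T : Sylow 2 G) (hT : ¬ (T : Subgroup G) ≤ center G) : ∃ x, Pick T x := by
  haveI : Fact (Nat.Prime 2) := ⟨Nat.prime_two⟩
  set S := (T : Subgroup G).map (pz G) with hS
  have hSp : IsPGroup 2 S := T.2.map _
  haveI : Nontrivial S := by
    rw [Subgroup.nontrivial_iff_ne_bot, Ne, hS, Subgroup.map_eq_bot_iff, QuotientGroup.ker_mk']
    exact hT
  haveI := hSp.center_nontrivial
  obtain ⟨c, hc⟩ := exists_prime_orderOf_dvd_card' 2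
    (show 2 ∣ Nat.card (center S) from by
      obtain ⟨n, hn⟩ := IsPGroup.iff_card.1 (hSp.to_subgroup (center S))
      rcases n with _ | n
      · exact absurd hn (Finite.one_lt_card (α := center S)).ne'
      · exact hn ▸ dvd_pow_self 2 (by omega))
  obtain ⟨x, hxT, hx⟩ := (c.1).2
  have hox : orderOf (pz G x) = 2 := by rw [hx, Subgroup.orderOf_coe, Subgroup.orderOf_coe, hc]
  refine ⟨x, hxT, fun e => ?_, ?_, fun t ht => mem_Hc.2 ?_⟩
  · rw [pz_eq_one.2 e, orderOf_one] at hox; omega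
  · rw [← pz_eq_one, map_mul, ← pow_two, ← hox, pow_orderOf_eq_one]
  · rw [hx]
    exact congrArg Subtype.val (mem_center_iff.1 c.2 ⟨pz G t, mem_map_of_mem _ ht⟩)

/-- the centraliser modulo the centre of a non-central element is proper -/
theorem Hyp.Hc_ne_top (h : Hyp G) {y : G} (hy : y ∉ center G) : Hc y ≠ ⊤ := by
  intro htop
  have hc : ∀ g : G, g * y * g⁻¹ * y⁻¹ ∈ center G := fun g => comm_mem_center (htop ▸ mem_top g)
  let φ : G →* center G :=
    { toFun := fun g => ⟨g * y * g⁻¹ * y⁻¹, hc g⟩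
      map_one' := Subtype.ext (by simp)
      map_mul' := fun a b => Subtype.ext (by
        show a * b * y * (a * b)⁻¹ * y⁻¹ = (a * y * a⁻¹ * y⁻¹) * (b * y * b⁻¹ * y⁻¹)
        have hb := mem_center_iff.1 (hc b)
        calc a * b * y * (a * b)⁻¹ * y⁻¹ = (a * (b * y * b⁻¹ * y⁻¹)) * (y * a⁻¹ * y⁻¹) := by group
          _ = (b * y * b⁻¹ * y⁻¹) * a * (y * a⁻¹ * y⁻¹) := by rw [hb a]
          _ = (b * y * b⁻¹ * y⁻¹) * (a * y * a⁻¹ * y⁻¹) := by group
          _ = _ := by rw [← hb (a * y * a⁻¹ * y⁻¹)]) }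
  haveI : IsMulCommutative (center G) := inferInstance
  have hK : ¬ Group.IsSolvable φ.ker := by
    intro hs
    refine h.ns (GenDihedral.solvable_ext φ.ker hs ?_)
    refine Group.isSolvable_of_comm fun a b => ?_
    obtain ⟨a, rfl⟩ := QuotientGroup.mk_surjective a
    obtain ⟨b, rfl⟩ := QuotientGroup.mk_surjective b
    rw [← QuotientGroup.mk_mul, ← QuotientGroup.mk_mul, QuotientGroup.eq, MonoidHom.mem_ker, map_mul, map_inv,
      map_mul, map_mul]
    have := mem_center_iff.1 (φ a).2 ((φ b : center G) : G)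
    rw [show φ a * φ b = φ b * φ a from Subtype.ext this.symm, inv_mul_cancel]
  refine hy (h.central_of_normal φ.ker hK fun g hg => ?_)
  exact mul_inv_eq_iff_eq_mul.1 (mul_inv_eq_one.1 (congrArg Subtype.val hg))

section

variable (h : Hyp G) {T : Sylow 2 G} (hT : ∃ a ∈ T, ∃ b ∈ T, ¬ Commute a b) {x : G} (hx : Pick T x)
include h hT hx

theorem Hyp.exists_moved : ∃ t ∈ T, ¬ Commute t x := by
  by_contra hc
  push Not at hc
  exact hx.ne (h.central_of_sylow_center T hT hx.mem hc)

theorem Hyp.cent_comm {a b : G} (ha : Commute a x) (hb : Commute b x) : Commute a b := by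
  by_contra hab
  obtain ⟨t, ht, htx⟩ := h.exists_moved hT hx
  exact htx (h.star _ (h.Hc_ne_top hx.ne) x (self_mem_Hc x) a (mem_Hc_of_commute ha) b (mem_Hc_of_commute hb)
    ha hb hab t (hx.cen t ht))

/-- no element of odd order centralises `Hc x` -/
theorem Hyp.no_odd_central {o : G} (hoc : o ∉ center G) (ho : Odd (orderOf o))
    (hoH : ∀ g ∈ Hc x, Commute g o) (hsq : ∀ t ∈ T, ¬ Commute t x → t * t ∈ center G) : False := by
  classical
  haveI : Fact (Nat.Prime 2) := ⟨Nat.prime_two⟩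
  set Y : Subgroup G := centralizer ({o} : Set G) with hY
  have memY : ∀ {g : G}, g ∈ Y ↔ Commute g o := fun {g} => mem_centralizer_singleton_iff
  have hTY : ∀ t ∈ T, Commute t o := fun t ht => hoH t (hx.cen t ht)
  have hxo : Commute x o := hTY x hx.mem
  have hstar : ∀ H : Subgroup G, H ≠ ⊤ → o ∈ H → ∀ a ∈ H, ∀ b ∈ H, Commute a o → Commute b o →
      ¬ Commute a b → H ≤ Y := fun H hH hoH a ha b hb hao hbo hab g hg =>
    memY.2 (h.star H hH o hoH a ha b hb hao hbo hab g hg)
  obtain ⟨t₀, ht₀, ht₀x⟩ := h.exists_moved hT hx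
  obtain ⟨a₀, ha₀, b₀, hb₀, hab₀⟩ := hT
  -- the centralisers of involutions modulo the centre
  have hkey : ∀ y ∈ T, y ∉ center G → y * y ∈ center G → Hc y ≤ Y := by
    intro y hy hyc hy2
    have hoy : o ∈ Hc y := mem_Hc_of_commute (hTY y hy).symm
    by_cases hyx : Commute y x
    · have hTy : ∀ t ∈ T, t ∈ Hc y := by
        intro t ht
        by_cases htx : Commute t x
        · exact mem_Hc_of_commute (h.cent_comm ⟨a₀, ha₀, b₀, hb₀, hab₀⟩ hx htx hyx)
        · refine mem_Hc.2 ?_
          have h1 : pz G t * pz G t = 1 := by rw [← map_mul, pz_eq_one]; exact hsq t ht htx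
          have h2 : pz G y * pz G y = 1 := by rw [← map_mul, pz_eq_one]; exact hy2
          have h3 : pz G (t * y) * pz G (t * y) = 1 := by
            rw [← map_mul, pz_eq_one]
            refine hsq _ (mul_mem ht hy) fun hc => htx ?_
            have := hc.mul_left hyx.inv_left
            rwa [mul_inv_cancel_right] at this
          rw [map_mul] at h3
          have h4 := inv_eq_of_mul_eq_one_right h3
          rw [mul_inv_rev, inv_eq_of_mul_eq_one_right h1, inv_eq_of_mul_eq_one_right h2] at h4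
          exact h4.symm
      exact hstar _ (h.Hc_ne_top hyc) hoy a₀ (hTy a₀ ha₀) b₀ (hTy b₀ hb₀) (hTY a₀ ha₀) (hTY b₀ hb₀) hab₀
    · exact hstar _ (h.Hc_ne_top hyc) hoy x (mem_Hc.2 (mem_Hc.1 (hx.cen y hy)).symm) y (self_mem_Hc y) hxo
        (hTY y hy) (fun hc => hyx hc.symm)
  -- the quotient
  have hZY : center G ≤ Y := fun c hc => memY.2 (mem_center_iff.1 hc o).symm
  set Yb : Subgroup (G ⧸ center G) := Y.map (pz G) with hYb
  have hYbY : ∀ {g : G}, pz G g ∈ Yb → g ∈ Y := by
    rintro g ⟨y, hy, hyg⟩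
    obtain ⟨c, hc, rfl⟩ := (QuotientGroup.mk'_eq_mk' _).1 hyg
    exact mul_mem hy (hZY hc)
  set S : Sylow 2 (G ⧸ center G) := T.mapSurjective (QuotientGroup.mk'_surjective (center G)) with hS
  have hSY : (S : Subgroup (G ⧸ center G)) ≤ Yb := map_mono fun t ht => memY.2 (hTY t ht)
  have hcS : ∀ u ∈ (S : Subgroup (G ⧸ center G)), orderOf u = 2 →
      ∀ v, Commute v u → v ∈ Yb := by
    rintro _ ⟨y, hy, rfl⟩ hu v hv
    obtain ⟨g, rfl⟩ := QuotientGroup.mk'_surjective (center G) v
    refine mem_map_of_mem _ (hkey y hy (fun e => ?_) ?_ (mem_Hc.2 hv))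
    · rw [pz_eq_one.2 e, orderOf_one] at hu; omega
    · rw [← pz_eq_one, map_mul, ← pow_two, ← hu, pow_orderOf_eq_one]
  have hconj : ∀ u ∈ Yb, orderOf u = 2 → ∃ c ∈ Yb, c * u * c⁻¹ ∈ (S : Subgroup (G ⧸ center G)) := by
    intro u hu hu2
    have hup : IsPGroup 2 (zpowers (⟨u, hu⟩ : Yb)) :=
      IsPGroup.of_card (n := 1) (by rw [Nat.card_zpowers, Subgroup.orderOf_mk, hu2, pow_one])
    obtain ⟨P, hP⟩ := hup.exists_le_sylow
    obtain ⟨c, hc⟩ := MulAction.exists_smul_eq Yb P (S.subtype hSY)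
    refine ⟨c, c.2, ?_⟩
    have h1 : c * ⟨u, hu⟩ * c⁻¹ ∈ ((c • P : Sylow 2 Yb) : Subgroup Yb) := by
      rw [Sylow.coe_subgroup_smul]
      exact Subgroup.smul_mem_pointwise_smul _ (MulAut.conj c) _ (hP (mem_zpowers _))
    rw [hc] at h1
    exact h1
  have hcY : ∀ u ∈ Yb, orderOf u = 2 → ∀ v, Commute v u → v ∈ Yb := by
    intro u hu hu2 v hv
    obtain ⟨c, hc, hcu⟩ := hconj u hu hu2
    have h1 := hcS _ hcu (by rw [← MulAut.conj_apply, MulEquiv.orderOf_eq, hu2]) (c * v * c⁻¹) (by
      show c * v * c⁻¹ * (c * u * c⁻¹) = c * u * c⁻¹ * (c * v * c⁻¹)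
      rw [show c * v * c⁻¹ * (c * u * c⁻¹) = c * (v * u) * c⁻¹ by group, hv.eq]; group)
    simpa [mul_assoc] using mul_mem (mul_mem (inv_mem hc) h1) hc
  have hNT : normalizer ((T : Subgroup G) : Set G) ≤ Y := by
    refine hstar _ (fun e => ?_) ?_ a₀ (le_normalizer ha₀) b₀ (le_normalizer hb₀) (hTY a₀ ha₀) (hTY b₀ hb₀) hab₀
    · haveI : (T : Subgroup G).Normal := normalizer_eq_top_iff.1 e
      exact h.not_solvable_of_sylow T (T : Subgroup G) le_rfl (GenDihedral.solvable_of_two T.2)
    · exact centralizer_le_normalizer _ (mem_centralizer_iff.2 fun t ht => (hTY t ht).eq)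
  have hNS : ∀ q, (∀ s, s ∈ (S : Subgroup (G ⧸ center G)) ↔ q * s * q⁻¹ ∈ (S : Subgroup (G ⧸ center G))) →
      q ∈ Yb := by
    intro q hq
    obtain ⟨g, rfl⟩ := QuotientGroup.mk'_surjective (center G) q
    refine mem_map_of_mem _ (hNT (mem_normalizer_iff.2 fun t => ⟨fun ht => ?_, fun ht => ?_⟩))
    · obtain ⟨y, hy, hyt⟩ := (hq (pz G t)).1 (mem_map_of_mem _ ht)
      rw [← map_inv, ← map_mul, ← map_mul] at hyt
      obtain ⟨c, hc, hyc⟩ := (QuotientGroup.mk'_eq_mk' _).1 hyt
      rw [← hyc]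
      obtain ⟨j, hj⟩ := IsPGroup.iff_orderOf.1 T.2 ⟨t, ht⟩
      refine mem_sylow_of_mul_center T hy hc ⟨j, ?_⟩
      rw [hyc, ← MulAut.conj_apply, MulEquiv.orderOf_eq]
      rwa [Subgroup.orderOf_mk] at hj
    · have h1 : pz G t ∈ (S : Subgroup (G ⧸ center G)) := (hq (pz G t)).2 (by
        rw [← map_inv, ← map_mul, ← map_mul]; exact mem_map_of_mem _ ht)
      obtain ⟨y, hy, hyt⟩ := h1
      obtain ⟨c, hc, hyc⟩ := (QuotientGroup.mk'_eq_mk' _).1 hyt
      rw [← hyc]
      obtain ⟨j, hj⟩ := IsPGroup.iff_orderOf.1 T.2 ⟨_, ht⟩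
      rw [Subgroup.orderOf_mk, ← MulAut.conj_apply, MulEquiv.orderOf_eq] at hj
      exact mem_sylow_of_mul_center T hy hc ⟨j, by rw [hyc, hj]⟩
  -- strongly embedded
  have hYne : Yb ≠ ⊤ := fun e => hoc (mem_center_iff.2 fun g =>
    (memY.1 (hYbY (e ▸ mem_top (pz G g)))).eq)
  have hox : orderOf (pz G x) = 2 := orderOf_eq_prime (by rw [pow_two, ← map_mul, pz_eq_one]; exact hx.sq)
    fun e => hx.ne (pz_eq_one.1 e)
  have hxYb : pz G x ∈ Yb := hSY (mem_map_of_mem _ hx.mem)
  have hSE : Cfsg.IsStronglyEmbedded Yb := by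
    refine ⟨hYne, ?_, fun g hg => ?_⟩
    · exact even_iff_two_dvd.2 (hox ▸ Subgroup.orderOf_dvd_natCard _ hxYb)
    · refine Nat.not_even_iff_odd.1 fun hev => hg ?_
      obtain ⟨⟨u, hu⟩, hu2⟩ := exists_prime_orderOf_dvd_card' 2 hev.two_dvd
      rw [Subgroup.orderOf_mk] at hu2
      have memg : ∀ {v}, v ∈ Yb.map (MulAut.conj g).toMonoidHom ↔ g⁻¹ * v * g ∈ Yb := by
        intro v
        rw [mem_map_equiv, MulAut.conj_symm_apply]
      have hcg : ∀ v ∈ Yb.map (MulAut.conj g).toMonoidHom, orderOf v = 2 → ∀ w, Commute w v →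
          g⁻¹ * w * g ∈ Yb := by
        intro v hv hv2 w hw
        refine hcY _ (memg.1 hv) ?_ _ ?_
        · rw [← MulAut.conj_symm_apply, MulEquiv.orderOf_eq, hv2]
        · show g⁻¹ * w * g * (g⁻¹ * v * g) = g⁻¹ * v * g * (g⁻¹ * w * g)
          rw [show g⁻¹ * w * g * (g⁻¹ * v * g) = g⁻¹ * (w * v) * g by group, hw.eq]; group
      obtain ⟨c, hc, hcu⟩ := hconj u hu.1 hu2
      -- a central involution of the Sylow subgroup `c⁻¹ S c`
      haveI : Nontrivial (S : Subgroup (G ⧸ center G)) := nontrivial_iff_ne_bot _ |>.2 fun e => by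
        rw [e, mem_bot] at hcu
        have : u = 1 := by simpa using hcu
        rw [this, orderOf_one] at hu2; omega
      haveI := S.2.center_nontrivial
      obtain ⟨n, hn⟩ := IsPGroup.iff_card.1 (S.2.to_subgroup (center (S : Subgroup (G ⧸ center G))))
      obtain ⟨z, hz⟩ := exists_prime_orderOf_dvd_card' 2
        (show 2 ∣ Nat.card (center (S : Subgroup (G ⧸ center G))) from by
          rcases n with _ | n
          · exact absurd hn (Finite.one_lt_card (α := center (S : Subgroup (G ⧸ center G)))).ne'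
          · exact hn ▸ dvd_pow_self 2 (by omega))
      rw [← Subgroup.orderOf_coe, ← Subgroup.orderOf_coe] at hz
      set z₁ := c⁻¹ * ((z.1 : (S : Subgroup (G ⧸ center G))) : G ⧸ center G) * c with hz₁
      have hz12 : orderOf z₁ = 2 := by rw [hz₁, ← MulAut.conj_symm_apply, MulEquiv.orderOf_eq, hz]
      have hSz : ∀ s ∈ (S : Subgroup (G ⧸ center G)), Commute (c⁻¹ * s * c) z₁ := by
        intro s hs
        have h1 := congrArg Subtype.val (mem_center_iff.1 z.2 ⟨s, hs⟩)
        simp only [Subgroup.coe_mul] at h1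
        show c⁻¹ * s * c * z₁ = z₁ * (c⁻¹ * s * c)
        rw [hz₁, show ∀ w, c⁻¹ * s * c * (c⁻¹ * w * c) = c⁻¹ * (s * w) * c from fun w => by group, h1]
        group
      have hzu : Commute z₁ u := by
        have h1 := hSz _ hcu
        rw [show c⁻¹ * (c * u * c⁻¹) * c = u by group] at h1
        exact h1.symm
      have hz1g : z₁ ∈ Yb.map (MulAut.conj g).toMonoidHom := memg.2 (hcg u hu.2 hu2 z₁ hzu)
      have hS0 : ∀ s ∈ (S : Subgroup (G ⧸ center G)), g⁻¹ * (c⁻¹ * s * c) * g ∈ Yb := fun s hs =>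
        hcg z₁ hz1g hz12 _ (hSz s hs)
      -- conjugate inside
      set a := g⁻¹ * c⁻¹ with ha
      have haS : ∀ s ∈ ((a • S : Sylow 2 (G ⧸ center G)) : Subgroup (G ⧸ center G)), s ∈ Yb := by
        intro s hs
        rw [Sylow.coe_subgroup_smul] at hs
        obtain ⟨w, hw, rfl⟩ := hs
        have := hS0 w hw
        show a * w * a⁻¹ ∈ Yb
        rw [ha]; simpa [mul_assoc] using this
      obtain ⟨d, hd⟩ := MulAction.exists_smul_eq Yb ((a • S).subtype haS) (S.subtype hSY)
      have hdS : ((d : G ⧸ center G) * a) • S = S := by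
        rw [mul_smul]
        have e1 := congrArg (fun R : Sylow 2 Yb => (R : Subgroup Yb).map Yb.subtype) hd
        refine Sylow.ext (SetLike.ext fun v => ?_)
        have hv := SetLike.ext_iff.1 e1 v
        simp only [Sylow.coe_subgroup_smul, Sylow.coe_subtype, mem_map, mem_subgroupOf, Subgroup.coe_subtype] at hv
        constructor
        · intro hv1
          rw [Sylow.coe_subgroup_smul] at hv1
          obtain ⟨w, hw, rfl⟩ := hv1
          obtain ⟨r, hr, hre⟩ := hv.1 ⟨⟨_, mul_mem (mul_mem d.2 (haS w hw)) (inv_mem d.2)⟩,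
            ⟨⟨w, haS w hw⟩, hw, Subtype.ext rfl⟩, rfl⟩
          exact hre ▸ hr
        · intro hv1
          obtain ⟨r, hr, hre⟩ := hv.2 ⟨⟨v, hSY hv1⟩, hv1, rfl⟩
          obtain ⟨w, hw, rfl⟩ := hr
          rw [Sylow.coe_subgroup_smul]
          refine ⟨(w : G ⧸ center G), hw, ?_⟩
          rw [← hre]; rfl
      have hda : (d : G ⧸ center G) * a ∈ Yb := hNS _ fun s => by
        constructor
        · intro hs
          have h1 : ((d : G ⧸ center G) * a) * s * ((d : G ⧸ center G) * a)⁻¹ ∈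
              ((((d : G ⧸ center G) * a) • S : Sylow 2 (G ⧸ center G)) : Subgroup (G ⧸ center G)) := by
            rw [Sylow.coe_subgroup_smul]
            exact Subgroup.smul_mem_pointwise_smul s (MulAut.conj _) _ hs
          rwa [hdS] at h1
        · intro hs
          have h1 : ((d : G ⧸ center G) * a) * s * ((d : G ⧸ center G) * a)⁻¹ ∈
              ((((d : G ⧸ center G) * a) • S : Sylow 2 (G ⧸ center G)) : Subgroup (G ⧸ center G)) := by
            rw [hdS]; exact hs
          rw [Sylow.coe_subgroup_smul] at h1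
          obtain ⟨w, hw, hwe⟩ := h1
          exact (mul_left_cancel (mul_right_cancel hwe)) ▸ hw
      have : g⁻¹ ∈ Yb := by
        have := mul_mem (mul_mem (inv_mem d.2) hda) hc
        rw [ha] at this
        simpa [mul_assoc] using this
      simpa using inv_mem this
  -- no core
  have hcore : Yb.normalCore = ⊥ := by
    set M := (Yb.normalCore).comap (pz G) with hM
    haveI hMn : M.Normal := (inferInstance : Yb.normalCore.Normal).comap _
    have hMY : M ≤ Y := fun m hm => hYbY (normalCore_le _ hm)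
    suffices M ≤ center G by
      rw [eq_bot_iff]
      intro q hq
      obtain ⟨m, rfl⟩ := QuotientGroup.mk'_surjective (center G) q
      rw [mem_bot]
      exact pz_eq_one.2 (this hq)
    set No := normalClosure ({o} : Set G) with hNo
    have hcl : ∀ m ∈ M, ∀ k ∈ No, Commute k m := by
      intro m hm
      have hle : No ≤ centralizer ({m} : Set G) := by
        refine (closure_le _).2 fun v hv => ?_
        obtain ⟨a, ha, hav⟩ := Group.mem_conjugatesOfSet_iff.1 hv
        rw [Set.mem_singleton_iff] at ha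
        subst ha
        obtain ⟨g, rfl⟩ := isConj_iff.1 hav
        refine mem_centralizer_singleton_iff.2 ?_
        have h1 := (memY.1 (hMY (hMn.conj_mem m hm g⁻¹))).eq
        calc g * a * g⁻¹ * m = g * (a * (g⁻¹ * m * g⁻¹⁻¹)) * g⁻¹ := by group
          _ = g * (g⁻¹ * m * g⁻¹⁻¹ * a) * g⁻¹ := by rw [h1]
          _ = m * (g * a * g⁻¹) := by group
      exact fun k hk => mem_centralizer_singleton_iff.1 (hle hk)
    by_cases hNs : Group.IsSolvable No
    swap
    · intro m hm; exact h.central_of_normal No hNs (hcl m hm)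
    exfalso
    have hs : Group.IsSolvable ↥(No ⊔ (T : Subgroup G)) := solvable_sup hNs (GenDihedral.solvable_of_two T.2)
    have hoN : o ∈ No := subset_normalClosure rfl
    have hle := hstar _ (h.ne_top hs) (mem_sup_left hoN) a₀ (mem_sup_right ha₀) b₀ (mem_sup_right hb₀)
      (hTY a₀ ha₀) (hTY b₀ hb₀) hab₀
    refine hoc (h.central_of_fixed No (fun a ha b hb => ?_) T hoN hTY)
    have h2 : No ≤ centralizer ({a} : Set G) := by
      refine (closure_le _).2 fun v hv => ?_
      obtain ⟨e, he, hev⟩ := Group.mem_conjugatesOfSet_iff.1 hv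
      rw [Set.mem_singleton_iff] at he
      subst he
      obtain ⟨g, rfl⟩ := isConj_iff.1 hev
      refine mem_centralizer_singleton_iff.2 ?_
      have h1 := (memY.1 (hle (mem_sup_left ((inferInstance : No.Normal).conj_mem a ha g⁻¹)))).eq
      calc g * e * g⁻¹ * a = g * (e * (g⁻¹ * a * g⁻¹⁻¹)) * g⁻¹ := by group
        _ = g * (g⁻¹ * a * g⁻¹⁻¹ * e) * g⁻¹ := by rw [h1]
        _ = a * (g * e * g⁻¹) := by group
    exact (mem_centralizer_singleton_iff.1 (h2 hb)).symm
  have hrank : Cfsg.Lib.BenderSE.HasCommutingInvolutions (G ⧸ center G) := by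
    refine ⟨pz G x, pz G t₀, hox, orderOf_eq_prime ?_ ?_, ?_, (mem_Hc.1 (hx.cen t₀ ht₀)).symm⟩
    · rw [pow_two, ← map_mul, pz_eq_one]; exact hsq t₀ ht₀ ht₀x
    · intro e
      exact ht₀x (mem_center_iff.1 (pz_eq_one.1 e) x).symm
    · intro e
      obtain ⟨c, hc, rfl⟩ := (QuotientGroup.mk'_eq_mk' _).1 e
      exact ht₀x ((Commute.refl x).mul_left (mem_center_iff.1 hc x).symm)
  obtain ⟨L, Q, F⟩ := Cfsg.Lib.BenderSE.exists_frame Cfsg.Lib.BenderSE.regProp ⟨hSE, hcore, hrank⟩
  have hoY : pz G o ∈ Yb := mem_map_of_mem _ (memY.2 (Commute.refl o))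
  have hbot := F.eq_bot_of_odd ⟨hSE, hcore, hrank⟩ (X := zpowers (pz G o)) (zpowers_le.2 hoY)
    (fun q hq => centralizer_le_normalizer _ (by
      rw [zpowers_eq_closure, centralizer_closure, mem_centralizer_singleton_iff]
      obtain ⟨y, hy, rfl⟩ := F.qle hq
      exact ((memY.1 hy).map (pz G)).eq))
    (by rw [Nat.card_zpowers]; exact ho.of_dvd_nat (orderOf_map_dvd _ _))
  exact hoc (pz_eq_one.1 (zpowers_eq_bot.1 hbot))

end

end Cfsg.Lib.MinNonCA
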