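import Cfsg.Agent.MinNonCA.Simple
import Cfsg.Agent.Walter.Main
import Cfsg.Agent.S0276
import Cfsg.Agent.S2086

/-!
The group is `PSL(2, q)` with `q` congruent to 3 or 5 modulo 8.
-/

set_option autoImplicit false
set_option linter.unusedSectionVars false
set_option linter.style.haveILetI false

namespace Cfsg.Lib.MinNonCA

open Subgroup
open scoped MatrixGroups

universe u

variable {G : Type u} [Group G] [Finite G] (h : Hyp G)
include h

variable (hab : ∀ T : Sylow 2 G, ∀ a ∈ T, ∀ b ∈ T, Commute a b)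
include hab

theorem Hyp.sylow_center_one (T : Sylow 2 G) {c : G} (hcT : c ∈ T) (hc : c ∈ center G) : c = 1 :=
  center_inter (h.perfect hab) T (hab T) hcT hc

/-- commuting with a 2-element modulo the centre is commuting -/
theorem Hyp.comm_lift (T : Sylow 2 G) {u g : G} (hu : u ∈ T) (hg : Commute (pz G g) (pz G u)) : Commute g u := by
  haveI : Fact (Nat.Prime 2) := ⟨Nat.prime_two⟩
  set c := g * u * g⁻¹ * u⁻¹ with hc
  have hcZ : c ∈ center G := comm_mem_center (mem_Hc.2 hg)
  obtain ⟨k, hk⟩ := IsPGroup.iff_orderOf.1 T.2 ⟨u, hu⟩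
  rw [Subgroup.orderOf_mk] at hk
  have hcu : g * u * g⁻¹ = c * u := by rw [hc]; group
  have hc2 : c ^ 2 ^ k = 1 := by
    have h1 : (g * u * g⁻¹) ^ 2 ^ k = 1 := by rw [conj_pow, ← hk, pow_orderOf_eq_one]; group
    rwa [hcu, (show Commute c u from (mem_center_iff.1 hcZ u).symm).mul_pow, ← hk, pow_orderOf_eq_one, mul_one,
      hk] at h1
  have hc1 : c = 1 := by
    rw [← orderOf_eq_one_iff]
    exact Nat.eq_one_of_dvd_coprimes ((Nat.coprime_two_left.2 (h.center_odd hab)).pow_left k)
      (orderOf_dvd_of_pow_eq_one hc2) (Subgroup.orderOf_dvd_natCard _ hcZ)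
  rw [hc1, one_mul] at hcu
  exact mul_inv_eq_iff_eq_mul.1 hcu

/-- inside the normaliser of a Sylow subgroup the centralisers of its elements are abelian -/
theorem Hyp.cent_norm_comm (T : Sylow 2 G) {u : G} (hu : u ∈ T) (hu1 : u ≠ 1) {a b : G}
    (ha : a ∈ normalizer ((T : Subgroup G) : Set G)) (hb : b ∈ normalizer ((T : Subgroup G) : Set G))
    (hau : Commute a u) (hbu : Commute b u) : Commute a b := by
  by_contra hc
  have hN : normalizer ((T : Subgroup G) : Set G) ≠ ⊤ := by
    intro e
    haveI : (T : Subgroup G).Normal := normalizer_eq_top_iff.1 e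
    exact h.not_solvable_of_sylow T (T : Subgroup G) le_rfl (GenDihedral.solvable_of_two T.2)
  exact hu1 (fixed_eq_one (h.perfect hab) T (hab T) hu
    (h.star _ hN u (le_normalizer hu) a ha b hb hau hbu hc))

/-- some involution has a non-abelian centraliser -/
theorem Hyp.exists_bad : ∃ t : G, orderOf t = 2 ∧ ∃ a b, Commute a t ∧ Commute b t ∧ ¬ Commute a b := by
  haveI : Fact (Nat.Prime 2) := ⟨Nat.prime_two⟩
  by_contra hcon
  have hev : Even (Nat.card G) := by
    rw [← Nat.not_odd_iff_even]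
    exact fun ho => h.ns (Cfsg.Agent.PF.isSolvable_of_odd _ ho)
  rcases Cfsg.Agent.S2202.result hev (fun t ht => ⟨⟨fun a b => Subtype.ext (by
      by_contra hne
      exact hcon ⟨t, ht, a, b, mem_centralizer_singleton_iff.1 a.2, mem_centralizer_singleton_iff.1 b.2, hne⟩)⟩⟩)
    with hc | hn | ⟨F, i1, i2, A, i3, i4, hF, -, ⟨e⟩⟩
  · haveI : (⊥ : Subgroup G).Normal := inferInstance
    obtain ⟨y, hy, y', hy', hy1, hy'1, hyy, hy2, hy'2, -⟩ := h.exists_pair hab (default : Sylow 2 G) ⊥
      (Group.isSolvable_of_comm fun a b => Subsingleton.elim _ _)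
    rw [mem_bot] at hy1 hy'1 hyy hy2 hy'2
    haveI := hc default
    haveI := Fintype.ofFinite ((default : Sylow 2 G) : Subgroup G)
    have ho : ∀ {z : G} (hz : z ∈ (default : Sylow 2 G)), z ≠ 1 → z * z = 1 →
        orderOf (⟨z, hz⟩ : ((default : Sylow 2 G) : Subgroup G)) = 2 := fun {z} hz hz1 hz2 => by
      rw [Subgroup.orderOf_mk]
      exact orderOf_eq_prime (by rw [pow_two]; exact hz2) hz1
    have h1 := IsCyclic.card_orderOf_eq_totient (α := ((default : Sylow 2 G) : Subgroup G)) (d := 2)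
      ((ho hy hy1 hy2).symm.dvd.trans orderOf_dvd_card)
    rw [Nat.totient_two, Finset.card_eq_one] at h1
    obtain ⟨w, hw⟩ := h1
    have h2 : ∀ v, orderOf v = 2 → v = w := fun v hv => by
      have := (Finset.ext_iff.1 hw v).1 (by simp [hv])
      simpa using this
    have h3 : y = y' := congrArg Subtype.val ((h2 _ (ho hy hy1 hy2)).trans (h2 _ (ho hy' hy'1 hy'2)).symm)
    exact hyy (h3 ▸ hy2)
  · obtain ⟨P⟩ := (inferInstance : Nonempty (Sylow 2 G))
    haveI := hn P
    exact h.not_solvable_of_sylow P (P : Subgroup G) le_rfl (GenDihedral.solvable_of_two P.2)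
  · haveI := hF
    refine h.notCA fun x hx a b ha hb => ?_
    let φ : G →* Matrix.SpecialLinearGroup (Fin 2) F := (MonoidHom.fst _ A).comp e.toMonoidHom
    have hinj : Function.Injective φ := fun p q hpq => e.injective
      (Prod.ext hpq ((factor_trivial (h.perfect hab) e _).trans (factor_trivial (h.perfect hab) e _).symm))
    refine hinj ?_
    rw [map_mul, map_mul]
    exact (sl_two_cent_comm (fun e' => hx (by rw [hinj (e'.trans (map_one φ).symm)]; exact one_mem _))
      (ha.map φ) (hb.map φ)).eq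

/-- the quotient by the centre -/
theorem Hyp.quot_psl : GWFour.IsSmallSylowPSL (G ⧸ center G) := by
  classical
  haveI : Fact (Nat.Prime 2) := ⟨Nat.prime_two⟩
  haveI := h.quot_simple hab
  have hnab : ¬ IsMulCommutative (G ⧸ center G) := fun hc =>
    h.quot_ns (Group.isSolvable_of_comm fun a b => hc.is_comm.comm a b)
  have habQ : Walter.AbTwo (G ⧸ center G) := by
    intro S x hx y hy
    obtain ⟨T, rfl⟩ := Sylow.mapSurjective_surjective (QuotientGroup.mk'_surjective (center G)) 2 S
    obtain ⟨a, ha, rfl⟩ := hx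
    obtain ⟨b, hb, rfl⟩ := hy
    exact ((hab T a ha b hb).map (pz G)).eq
  rcases Cfsg.Lib.Walter.walterProp (G ⧸ center G) hnab habQ with hbin | hsm | ⟨h8, a, E, E₀, F, _, _, h5, hq, hJ⟩
  · exfalso
    obtain ⟨F, i1, i2, ⟨n, hn, hF⟩, ⟨e⟩⟩ := hbin
    have h2 : (2 : F) = 0 := by
      have h1 := Nat.cast_card_eq_zero F
      rw [hF] at h1
      push_cast at h1
      exact pow_eq_zero_iff (by omega) |>.1 h1
    obtain ⟨t, ht, p, q, hp, hq, hpq⟩ := h.exists_bad hab
    obtain ⟨T, hT⟩ := (IsPGroup.of_card (p := 2) (n := 1)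
      (by rw [Nat.card_zpowers, ht, pow_one]) : IsPGroup 2 (zpowers t)).exists_le_sylow
    have htT : t ∈ T := hT (mem_zpowers t)
    have ht1 : t ≠ 1 := fun e => by rw [e, orderOf_one] at ht; omega
    have hne : e (pz G t) ≠ 1 := fun e' => ht1 (h.sylow_center_one hab T htT
      (pz_eq_one.1 (e.injective (e'.trans (map_one e).symm))))
    have key : ∀ g, Commute g t → g ∈ normalizer ((T : Subgroup G) : Set G) := fun g hg =>
      centralizer_le_normalizer _ (mem_centralizer_iff.2 fun s hs => (h.comm_lift hab T hs (e.injective (by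
        rw [map_mul, map_mul]
        exact (psl_two_cent_comm h2 hne ((hg.map (pz G)).map e.toMonoidHom)
          (((hab T s hs t htT).map (pz G)).map e.toMonoidHom)).eq))).eq.symm)
    exact hpq (h.cent_norm_comm hab T htT ht1 (key p hp) (key q hq) hp hq)
  · exact hsm
  · exfalso
    obtain ⟨f⟩ := hJ.iso
    haveI hsimp : IsSimpleGroup (Matrix.ProjectiveSpecialLinearGroup (Fin 2) F) :=
      Matrix.ProjectiveSpecialLinearGroup.rank_two_simple (by rw [Nat.card_eq_fintype_card]; omega)
    haveI : Nontrivial E₀ := f.toEquiv.nontrivial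
    haveI : IsSimpleGroup E₀ := IsSimpleGroup.isSimpleGroup_of_surjective f.symm.toMonoidHom f.symm.surjective
    obtain ⟨S₀⟩ := (inferInstance : Nonempty (Sylow 2 E₀))
    have hK := Cfsg.Agent.S0276.result rfl hq (S₀.mapSurjective (f := f.toMonoidHom) f.surjective)
    have hS4 : Nat.card (S₀ : Subgroup E₀) = 4 := by
      rw [Nat.card_congr ((S₀ : Subgroup E₀).equivMapOfInjective f.toMonoidHom f.injective).toEquiv]
      exact hK.card_four
    have hperf : commutator E₀ = ⊤ := by
      refine ((inferInstance : (commutator E₀).Normal).eq_bot_or_eq_top).resolve_left fun e => ?_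
      have hc : ∀ p q : E₀, p * q = q * p := fun p q => by
        have h1 := commutator_mem_commutator (mem_top p) (mem_top q)
        rw [← _root_.commutator_def, e, mem_bot, commutatorElement_def] at h1
        exact mul_inv_eq_iff_eq_mul.1 (mul_inv_eq_one.1 h1)
      obtain ⟨⟨w, hw⟩, hw2⟩ := exists_prime_orderOf_dvd_card' (G := (S₀ : Subgroup E₀)) 2
        (by rw [hS4]; norm_num)
      rw [Subgroup.orderOf_mk] at hw2
      haveI : (zpowers w).Normal := ⟨fun x hx g => by rwa [hc g x, mul_inv_cancel_right]⟩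
      rcases IsSimpleGroup.eq_bot_or_eq_top_of_normal (zpowers w) inferInstance with e1 | e1
      · rw [← Nat.card_zpowers, e1, card_bot] at hw2; omega
      · have h1 := card_subgroup_dvd_card (S₀ : Subgroup E₀)
        rw [hS4, ← Subgroup.card_top (G := E₀), ← e1, Nat.card_zpowers, hw2] at h1
        norm_num at h1
    have hScomm : ∀ p ∈ S₀, ∀ q ∈ S₀, Commute p q := by
      intro p hp q hq'
      exact congrArg Subtype.val ((IsPGroup.isMulCommutative_of_card_eq_prime_sq (p := 2)
        (G := (S₀ : Subgroup E₀)) (hS4.trans (by norm_num))).is_comm.comm ⟨p, hp⟩ ⟨q, hq'⟩)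
    obtain ⟨v, hv, hv1⟩ : ∃ v ∈ (S₀ : Subgroup E₀), v ≠ 1 := by
      by_contra hc
      push Not at hc
      rw [(Subgroup.eq_bot_iff_forall _).2 hc, card_bot] at hS4
      omega
    obtain ⟨n, hn, hnv⟩ : ∃ n ∈ normalizer ((S₀ : Subgroup E₀) : Set E₀), ¬ Commute n v := by
      by_contra hc
      push Not at hc
      exact hv1 (fixed_eq_one hperf S₀ hScomm hv hc)
    -- the Sylow subgroup generated by `a` and `S₀`
    set V : Subgroup (G ⧸ center G) := (S₀ : Subgroup E₀).map E₀.subtype with hV
    have hVE : V ≤ E := (map_subtype_le _).trans hJ.le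
    have hV4 : Nat.card V = 4 := by
      rw [hV, card_map_of_injective E₀.subtype_injective]; exact hS4
    set W : Subgroup (G ⧸ center G) := zpowers a ⊔ V with hW
    have hWp : IsPGroup 2 W := by
      refine IsPGroup.to_sup_of_normal_left' (IsPGroup.of_card (n := 1)
        (by rw [Nat.card_zpowers, hJ.ord, pow_one])) (S₀.2.map _) ?_
      exact le_trans (fun x hx => mem_centralizer_iff.2 fun w hw => by
        obtain ⟨i, rfl⟩ := mem_zpowers_iff.1 hw
        exact ((hJ.comm x (hVE hx)).zpow_left i).eq) (centralizer_le_normalizer _)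
    obtain ⟨S, hS⟩ := hWp.exists_le_sylow
    have hWS : W = (S : Subgroup (G ⧸ center G)) := by
      refine eq_of_le_of_card_ge hS ?_
      rw [h8 S]
      obtain ⟨i, hi⟩ := IsPGroup.iff_card.1 hWp
      have hlt : 4 < Nat.card W := by
        rw [← hV4]
        refine Set.ncard_lt_ncard (SetLike.coe_ssubset_coe.2 (lt_of_le_of_ne le_sup_right fun e => ?_))
          (Set.toFinite _)
        have h1 : a ∈ V := e ▸ mem_sup_left (mem_zpowers a)
        exact hJ.disj (hVE h1)
      rw [hi] at hlt ⊢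
      by_contra hlt'
      have : i ≤ 2 := by
        by_contra h3
        have := Nat.pow_le_pow_right two_pos (show 3 ≤ i by omega)
        omega
      have := Nat.pow_le_pow_right two_pos this
      omega
    obtain ⟨T, hT⟩ := Sylow.mapSurjective_surjective (QuotientGroup.mk'_surjective (center G)) 2 S
    have hTS : (T : Subgroup G).map (pz G) = (S : Subgroup (G ⧸ center G)) :=
      congrArg (fun R : Sylow 2 (G ⧸ center G) => (R : Subgroup (G ⧸ center G))) hT
    have lift : ∀ w ∈ W, ∃ g ∈ T, pz G g = w := fun w hw => mem_map.1 (hTS.symm ▸ hWS ▸ hw)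
    obtain ⟨a', ha', rfl⟩ := lift a (mem_sup_left (mem_zpowers a))
    obtain ⟨v', hv', hvv⟩ := lift (v : G ⧸ center G) (mem_sup_right (mem_map_of_mem _ hv))
    obtain ⟨n', hnn⟩ := QuotientGroup.mk'_surjective (center G) (n : G ⧸ center G)
    replace hnn : pz G n' = (n : G ⧸ center G) := hnn
    have ha1 : a' ≠ 1 := fun e => by
      have := hJ.ord
      rw [e, map_one, orderOf_one] at this
      omega
    have hnW : ∀ w ∈ W, (n : G ⧸ center G) * w * (n : G ⧸ center G)⁻¹ ∈ W := by
      intro w hw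
      have hle : W ≤ W.comap (MulAut.conj (n : G ⧸ center G)).toMonoidHom := by
        refine sup_le (zpowers_le.2 ?_) ?_
        · show (n : G ⧸ center G) * pz G a' * (n : G ⧸ center G)⁻¹ ∈ W
          rw [← (hJ.comm _ (hJ.le n.2)).eq, mul_inv_cancel_right]
          exact mem_sup_left (mem_zpowers _)
        · rintro _ ⟨x, hx, rfl⟩
          exact mem_sup_right ⟨_, (mem_normalizer_iff.1 hn x).1 hx, rfl⟩
      exact hle hw
    have hn'N : n' ∈ normalizer ((T : Subgroup G) : Set G) := by
      refine mem_normalizer_fintype fun t ht => ?_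
      have h1 : pz G (n' * t * n'⁻¹) ∈ (T : Subgroup G).map (pz G) := by
        rw [hTS, ← hWS, map_mul, map_mul, map_inv, hnn]
        exact hnW _ (by rw [hWS, ← hTS]; exact mem_map_of_mem _ ht)
      obtain ⟨s, hs, hse⟩ := h1
      obtain ⟨c, hc, hsc⟩ := (QuotientGroup.mk'_eq_mk' _).1 hse
      rw [← hsc]
      obtain ⟨j, hj⟩ := IsPGroup.iff_orderOf.1 T.2 ⟨t, ht⟩
      rw [Subgroup.orderOf_mk] at hj
      exact mem_sylow_of_mul_center T hs hc ⟨j, by rw [hsc, ← hj, ← MulAut.conj_apply, MulEquiv.orderOf_eq]⟩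
    have hc1 : Commute n' a' := h.comm_lift hab T ha' (by rw [hnn]; exact (hJ.comm _ (hJ.le n.2)).symm)
    have h1 := (h.cent_norm_comm hab T ha' ha1 hn'N (le_normalizer hv') hc1 (hab T v' hv' a' ha')).map (pz G)
    rw [hnn, hvv] at h1
    exact hnv (Subtype.ext h1.eq)

/-- the centre is trivial: the group is `PSL(2, q)` with `q` congruent to 3 or 5 modulo 8 -/
theorem Hyp.small_psl : GWFour.IsSmallSylowPSL G := by
  obtain ⟨F, i1, i2, hq, h5, ⟨e⟩⟩ := h.quot_psl hab
  let μ : G ≃* Shrink.{0} G := (Shrink.mulEquiv.{0} (α := G)).symm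
  let σ : Shrink.{0} G →* Matrix.ProjectiveSpecialLinearGroup (Fin 2) F :=
    e.toMonoidHom.comp ((pz G).comp μ.symm.toMonoidHom)
  have hσ : ∀ {x}, σ x = 1 ↔ μ.symm x ∈ center G := fun {x} =>
    ⟨fun hx => pz_eq_one.1 (e.injective (hx.trans (map_one e).symm)),
      fun hx => by show e (pz G (μ.symm x)) = 1; rw [pz_eq_one.2 hx, map_one]⟩
  have hstem : Cfsg.IsStemExtension σ := by
    refine ⟨e.surjective.comp ((QuotientGroup.mk'_surjective (center G)).comp μ.symm.surjective),
      fun x hx => mem_center_iff.2 fun g => μ.symm.injective ?_, ?_⟩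
    · rw [map_mul, map_mul]; exact mem_center_iff.1 (hσ.1 hx) _
    · have h1 : commutator (Shrink.{0} G) = ⊤ := by
        rw [commutator_def, ← map_top_of_surjective μ.toMonoidHom μ.surjective, ← map_commutator,
          ← commutator_def, h.perfect hab]
      rw [h1]; exact le_top
  obtain ⟨π, hπ⟩ := (Cfsg.Agent.S2086.result (F := F) rfl 2 le_rfl (fun _ => by omega) (by
    simp only [Set.mem_insert_iff, Set.mem_singleton_iff, Prod.mk.injEq, not_or]
    omega)).2 (Shrink.{0} G) σ hstem
  have hg2 : Nat.gcd 2 (Fintype.card F - 1) = 2 := Nat.gcd_eq_left (by omega)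
  have hcard : Nat.card σ.ker ∣ 2 := by
    refine dvd_trans (Subgroup.card_dvd_of_surjective π hπ) ?_
    rw [Nat.card_congr Multiplicative.toAdd, Nat.card_zmod, hg2]
  have hZ : center G = ⊥ := by
    refine (Subgroup.eq_bot_iff_forall _).2 fun z hz => ?_
    have hk : μ z ∈ σ.ker := hσ.2 (by rwa [μ.symm_apply_apply])
    have h2 : orderOf z ∣ 2 := by
      rw [← μ.orderOf_eq]
      exact (Subgroup.orderOf_dvd_natCard _ hk).trans hcard
    rw [← orderOf_eq_one_iff]
    exact Nat.eq_one_of_dvd_coprimes (Nat.coprime_two_left.2 (h.center_odd hab)) h2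
      (Subgroup.orderOf_dvd_natCard _ hz)
  exact ⟨F, i1, i2, hq, h5, ⟨((QuotientGroup.quotientMulEquivOfEq hZ).trans QuotientGroup.quotientBot).symm.trans e⟩⟩

end Cfsg.Lib.MinNonCA
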