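import Cfsg.Agent.MinNonCA.Normal

/-!
With abelian Sylow 2-subgroups the group is perfect, the quotient by its centre is simple, and the centre has odd
order.
-/

set_option autoImplicit false
set_option linter.unusedSectionVars false
set_option linter.style.haveILetI false

namespace Cfsg.Lib.MinNonCA

open Subgroup

universe u

variable {G : Type u} [Group G] [Finite G] (h : Hyp G)
include h

variable (hab : ∀ T : Sylow 2 G, ∀ a ∈ T, ∀ b ∈ T, Commute a b)
include hab

theorem Hyp.perfect : commutator G = ⊤ := by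
  by_contra hne
  refine h.ns (GenDihedral.solvable_ext (commutator G) (h.normal_solvable hab _ hne) ?_)
  exact Group.isSolvable_of_comm fun a b => @mul_comm (Abelianization G) _ a b

theorem Hyp.center_odd : Odd (Nat.card (center G)) :=
  odd_center (h.perfect hab) (default : Sylow 2 G) (hab _)

/-- two involutions of a Sylow subgroup modulo a solvable normal subgroup -/
theorem Hyp.exists_pair (T : Sylow 2 G) (K : Subgroup G) [K.Normal] (hK : Group.IsSolvable K) :
    ∃ y ∈ T, ∃ y' ∈ T, y ∉ K ∧ y' ∉ K ∧ y * y' ∉ K ∧ y * y ∈ K ∧ y' * y' ∈ K ∧ y * y' * (y * y') ∈ K := by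
  haveI : Fact (Nat.Prime 2) := ⟨Nat.prime_two⟩
  set π := QuotientGroup.mk' K with hπ
  set S : Sylow 2 (G ⧸ K) := T.mapSurjective (QuotientGroup.mk'_surjective K) with hS
  have hperf : commutator (G ⧸ K) = ⊤ := by
    rw [commutator_def, ← map_top_of_surjective π (QuotientGroup.mk'_surjective K), ← map_commutator,
      ← commutator_def, h.perfect hab]
  have hScomm : ∀ a ∈ S, ∀ b ∈ S, Commute a b := by
    rintro _ ⟨a, ha, rfl⟩ _ ⟨b, hb, rfl⟩
    exact (hab T a ha b hb).map π
  have hnT : ¬ (T : Subgroup G) ≤ K := fun hle => h.not_solvable_of_sylow T K hle hK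
  obtain ⟨y, hy, hyK, hy2⟩ := exists_sq_mem T.2 hnT
  have hone : ∀ g, π g = 1 ↔ g ∈ K := fun g => QuotientGroup.eq_one_iff g
  obtain ⟨n, hn, hny⟩ : ∃ n ∈ normalizer ((S : Subgroup (G ⧸ K)) : Set (G ⧸ K)), ¬ Commute n (π y) := by
    by_contra hc
    push Not at hc
    exact hyK ((hone y).1 (fixed_eq_one hperf S hScomm (mem_map_of_mem π hy) hc))
  obtain ⟨y', hy', hye⟩ := (mem_normalizer_iff.1 hn (π y)).1 (mem_map_of_mem π hy)
  have hy1 : π y * π y = 1 := by rw [← map_mul, hone]; exact hy2
  have hy'1 : π y' * π y' = 1 := by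
    rw [show π y' = n * π y * n⁻¹ from hye, show n * π y * n⁻¹ * (n * π y * n⁻¹) = n * (π y * π y) * n⁻¹ by group,
      hy1, mul_one, mul_inv_cancel]
  refine ⟨y, hy, y', hy', hyK, fun e => ?_, fun e => ?_, hy2, ?_, ?_⟩
  · refine hyK ((hone y).1 ?_)
    have h1 : n * π y * n⁻¹ = 1 := hye.symm.trans ((hone y').2 e)
    exact conj_eq_one_iff.1 h1
  · refine hny (mul_inv_eq_iff_eq_mul.1 ?_)
    have h1 : π y * π y' = 1 := by rw [← map_mul]; exact (hone _).2 e
    rw [← show π y' = n * π y * n⁻¹ from hye, eq_inv_of_mul_eq_one_right h1, inv_eq_of_mul_eq_one_right hy1]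
  · rw [← hone, map_mul, hy'1]
  · rw [← hone, map_mul, map_mul, ((hab T y' hy' y hy).map π).mul_mul_mul_comm, hy1, hy'1, one_mul]

/-- abelian normal subgroups of odd order are central -/
theorem Hyp.abelian_odd_central (V : Subgroup G) [V.Normal] (hVc : ∀ a ∈ V, ∀ b ∈ V, Commute a b)
    (hV : Odd (Nat.card V)) : V ≤ center G := by
  haveI : Fact (Nat.Prime 2) := ⟨Nat.prime_two⟩
  set K := centralizer (V : Set G) with hKdef
  haveI : K.Normal := normal_centralizer
  by_cases hK : Group.IsSolvable K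
  swap
  · intro v hv
    exact h.central_of_normal K hK fun k hk => (mem_centralizer_iff.1 hk v hv).symm
  obtain ⟨T⟩ := (inferInstance : Nonempty (Sylow 2 G))
  obtain ⟨y, hy, y', hy', hyK, hy'K, hyyK, h2, h2', h22⟩ := h.exists_pair hab T K hK
  have hVK : V ≤ K := fun a ha => mem_centralizer_iff.2 fun b hb => (hVc b hb a ha).eq
  have hinv : ∀ z ∈ T, z ∉ K → z * z ∈ K → ∀ v ∈ V, v * (z * v * z⁻¹) ∈ center G := by
    intro z hz hzK hz2 v hv
    have hv' : z * v * z⁻¹ ∈ V := (inferInstance : V.Normal).conj_mem v hv z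
    set u := v * (z * v * z⁻¹) with hu
    have huz : Commute u z := by
      refine (mul_inv_eq_iff_eq_mul.1 ?_).symm
      rw [hu, show z * (v * (z * v * z⁻¹)) * z⁻¹ = (z * v * z⁻¹) * (z * (z * v * z⁻¹) * z⁻¹) by group,
        sq_comm hz2 hv]
      exact (hVc _ hv' _ hv).eq
    obtain ⟨w, hw, hwz⟩ : ∃ w ∈ V, ¬ Commute w z := by
      by_contra hc
      push Not at hc
      exact hzK (mem_centralizer_iff.2 fun b hb => (hc b hb).eq)
    have huV : u ∈ V := mul_mem hv hv'
    have hs : Group.IsSolvable ↥(K ⊔ (T : Subgroup G)) := solvable_sup hK (GenDihedral.solvable_of_two T.2)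
    refine h.central_of_fixed V hVc T huV fun t ht => ?_
    exact h.star _ (h.ne_top hs) u (mem_sup_left (hVK huV)) w (mem_sup_left (hVK hw)) z (mem_sup_right hz)
      (hVc w hw u huV) huz.symm hwz t (mem_sup_right ht)
  intro v hv
  have hv' : y' * v * y'⁻¹ ∈ V := (inferInstance : V.Normal).conj_mem v hv y'
  have a1 := hinv y' hy' hy'K h2' v hv
  have a2 := hinv y hy hyK h2 _ hv'
  have a3 := hinv (y * y') (mul_mem hy hy') hyyK h22 v hv
  rw [show y * y' * v * (y * y')⁻¹ = y * (y' * v * y'⁻¹) * y⁻¹ by group] at a3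
  set w := y' * v * y'⁻¹ with hw
  set x := y * w * y⁻¹ with hx
  have hvv : v * v ∈ center G := by
    have c1 : Commute w v := hVc _ hv' _ hv
    have e : v * v = (v * w) * (v * x) * (w * x)⁻¹ := by
      calc v * v = v * v * (w * x) * (w * x)⁻¹ := by group
        _ = v * (v * w) * x * (w * x)⁻¹ := by group
        _ = v * (w * v) * x * (w * x)⁻¹ := by rw [c1.eq]
        _ = _ := by group
    rw [e]
    exact mul_mem (mul_mem a1 a3) (inv_mem a2)
  obtain ⟨k, hk⟩ := hV
  have h1 : v ^ (2 * k + 1) = 1 := by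
    have := pow_card_eq_one' (G := V) (x := ⟨v, hv⟩)
    rw [hk] at this
    exact congrArg Subtype.val this
  rw [pow_succ, pow_mul, pow_two] at h1
  exact (mul_mem_cancel_left (pow_mem hvv k)).1 (h1 ▸ one_mem _)

/-- solvable normal subgroups of class two modulo the centre are central -/
theorem Hyp.class_two_normal_central (D : Subgroup G) [D.Normal] (hDs : Group.IsSolvable D)
    (hD : ∀ a ∈ D, ∀ b ∈ D, a * b * a⁻¹ * b⁻¹ ∈ center G) : D ≤ center G := by
  haveI : Fact (Nat.Prime 2) := ⟨Nat.prime_two⟩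
  set C := centralizer (D : Set G) with hC
  haveI : C.Normal := normal_centralizer
  have hVc : ∀ a ∈ D ⊓ C, ∀ b ∈ D ⊓ C, Commute a b := fun a ha b hb => mem_centralizer_iff.1 hb.2 a ha.1
  -- no involutions
  have hodd : Odd (Nat.card D) := by
    rw [← Nat.not_even_iff_odd]
    intro hev
    obtain ⟨⟨x, hx⟩, hx2⟩ := exists_prime_orderOf_dvd_card' 2 hev.two_dvd
    rw [Subgroup.orderOf_mk] at hx2
    have hxC : x ∈ C := by
      refine mem_centralizer_iff.2 fun d hd => ?_
      set c := d * x * d⁻¹ * x⁻¹ with hc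
      have hcZ : c ∈ center G := hD d hd x hx
      have hcx : d * x * d⁻¹ = c * x := by rw [hc]; group
      have hc2 : c ^ 2 = 1 := by
        have h1 : (d * x * d⁻¹) ^ 2 = 1 := by rw [conj_pow, ← hx2, pow_orderOf_eq_one]; group
        rwa [hcx, (show Commute c x from (mem_center_iff.1 hcZ x).symm).mul_pow, ← hx2, pow_orderOf_eq_one,
          mul_one, hx2] at h1
      have hc1 : c = 1 := by
        rw [← orderOf_eq_one_iff]
        refine Nat.eq_one_of_dvd_coprimes (Nat.coprime_two_left.2 (h.center_odd hab))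
          (orderOf_dvd_of_pow_eq_one hc2) (Subgroup.orderOf_dvd_natCard _ hcZ)
      rw [hc1, one_mul] at hcx
      exact mul_inv_eq_iff_eq_mul.1 hcx
    obtain ⟨T, hT⟩ := (IsPGroup.of_card (p := 2) (n := 1)
      (by rw [Nat.card_zpowers, hx2, pow_one]) : IsPGroup 2 (zpowers x)).exists_le_sylow
    have hxc := h.central_of_fixed (D ⊓ C) hVc T ⟨hx, hxC⟩ fun t ht => hab T t ht x (hT (mem_zpowers x))
    have := (h.center_odd hab).of_dvd_nat (Subgroup.orderOf_dvd_natCard _ hxc)
    rw [hx2] at this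
    exact absurd this (by decide)
  have hZ : D ⊓ C ≤ center G :=
    h.abelian_odd_central hab _ hVc (hodd.of_dvd_nat (card_dvd_of_le inf_le_left))
  by_cases hCs : Group.IsSolvable C
  swap
  · intro d hd
    exact h.central_of_normal C hCs fun k hk => (mem_centralizer_iff.1 hk d hd).symm
  obtain ⟨y, -, y', -, hy, hy', hyy, h2, h2', h22⟩ := h.exists_pair hab default C hCs
  refine h.class_two_core D hD (fun d hd => ⟨Nat.card D, hodd, ?_⟩) hDs hZ hy hy' hyy h2 h2' h22
  have := pow_card_eq_one' (G := D) (x := ⟨d, hd⟩)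
  rw [show d ^ Nat.card D = 1 from congrArg Subtype.val this]
  exact one_mem _

/-- solvable normal subgroups are central -/
theorem Hyp.solvable_le_center (M : Subgroup G) [M.Normal] (hMs : Group.IsSolvable M) : M ≤ center G :=
  h.solvable_central_of (fun D hD hDs hD2 => by haveI := hD; exact h.class_two_normal_central hab D hDs hD2) M hMs

/-- the quotient by the centre is simple -/
theorem Hyp.quot_simple : IsSimpleGroup (G ⧸ center G) := by
  haveI : Nontrivial (G ⧸ center G) := by
    rw [← not_subsingleton_iff_nontrivial]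
    intro hs
    exact h.quot_ns (Group.isSolvable_of_comm fun a b => Subsingleton.elim _ _)
  refine ⟨fun N hN => ?_⟩
  haveI := hN
  set M := N.comap (pz G) with hM
  haveI : M.Normal := hN.comap _
  by_cases hMt : M = ⊤
  · exact Or.inr (comap_injective (QuotientGroup.mk'_surjective (center G)) (hMt.trans (comap_top _).symm))
  · refine Or.inl (eq_bot_iff.2 fun q hq => ?_)
    obtain ⟨g, rfl⟩ := QuotientGroup.mk'_surjective (center G) q
    exact mem_bot.2 (pz_eq_one.2 (h.solvable_le_center hab M (h.normal_solvable hab M hMt) hq))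

end Cfsg.Lib.MinNonCA
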